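import Mathlib

/-!
# The field with four elements: codes, and the set of 126 points of `3.U_4(3).2 ≤ SU_6(2)` (helper913)

`code w : Fin 4 → F` with `w ^ 2 + w + 1 = 0` is a bijection; `Om x` for `x : Fin 6 → F` says that the product of the
coordinates is one or exactly two coordinates are non-zero. `om_add`: `Om x → Om (x + (∑ x i) • 1)`.
-/

set_option autoImplicit false

namespace Cfsg.Agent.H913.F4

variable {F : Type*} [Field F] [Fintype F]

theorem two_eq_zero (hF : Fintype.card F = 2 ^ 2) : (2 : F) = 0 := by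
  have h : ((Fintype.card F : ℕ) : F) = 0 := FiniteField.cast_card_eq_zero F
  rw [hF] at h
  have h4 : (2 : F) ^ 2 = 0 := by exact_mod_cast h
  exact pow_eq_zero_iff (n := 2) (by norm_num) |>.1 h4

theorem exists_w (hF : Fintype.card F = 2 ^ 2) : ∃ w : F, w ^ 2 + w + 1 = 0 := by
  classical
  have h2 := two_eq_zero hF
  obtain ⟨w, hw⟩ : ∃ w : F, w ≠ 0 ∧ w ≠ 1 := by
    by_contra hcon
    push Not at hcon
    have h1 : (Finset.univ : Finset F) ⊆ {0, 1} := by
      intro x _
      by_cases hx : x = 0
      · simp [hx]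
      · simp [hcon x hx]
    have h3 := Finset.card_le_card h1
    rw [Finset.card_univ, hF] at h3
    have h4 : (({0, 1} : Finset F)).card ≤ 2 := Finset.card_le_two
    omega
  refine ⟨w, ?_⟩
  have h3 : w ^ 3 = 1 := by
    have := FiniteField.pow_card_sub_one_eq_one w hw.1
    rwa [hF] at this
  have h4 : (w - 1) * (w ^ 2 + w + 1) = 0 := by ring_nf; rw [h3]; ring
  rcases mul_eq_zero.1 h4 with h | h
  · exact absurd (sub_eq_zero.1 h) hw.2
  · exact h

/-- multiplication on codes -/
def mulc (a b : Fin 4) : Fin 4 :=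
  if a = 0 ∨ b = 0 then 0 else ⟨(a.1 + b.1 + 1) % 3 + 1, by omega⟩

/-- addition on codes -/
def addc (a b : Fin 4) : Fin 4 := ⟨(a.1 ^^^ b.1) % 4, by omega⟩

/-- the elements of the field -/
def code (w : F) (a : Fin 4) : F := ![0, 1, w, w + 1] a

omit [Fintype F] in
theorem code_add (h2 : (2 : F) = 0) (w : F) (a b : Fin 4) :
    code w a + code w b = code w (addc a b) := by
  have h3 : (1 : F) + 1 = 0 := by rw [one_add_one_eq_two, h2]
  have h4 : w + w = 0 := by rw [← two_mul, h2, zero_mul]
  fin_cases a <;> fin_cases b <;> simp [code, addc] <;>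
    first
    | exact h3
    | exact h4
    | linear_combination h3
    | linear_combination h4
    | linear_combination h3 + h4
    | ring

omit [Fintype F] in
theorem code_mul (h2 : (2 : F) = 0) {w : F} (hw : w ^ 2 + w + 1 = 0) (a b : Fin 4) :
    code w a * code w b = code w (mulc a b) := by
  have hww : w * w = w + 1 := by linear_combination hw - h2 * (w + 1)
  have h5 : w * (w + 1) = 1 := by linear_combination hw - h2
  have h6 : (w + 1) * (w + 1) = w := by linear_combination hw
  fin_cases a <;> fin_cases b <;> simp [code, mulc] <;>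
    first
    | exact hww
    | exact h5
    | exact h6
    | linear_combination h5

omit [Fintype F] in
theorem w_ne {w : F} (hw : w ^ 2 + w + 1 = 0) :
    w ≠ 0 ∧ w + 1 ≠ 0 := by
  constructor
  · rintro rfl
    simp at hw
  · intro h
    apply one_ne_zero (α := F)
    linear_combination hw - w * h

omit [Fintype F] in
theorem code_inj (h2 : (2 : F) = 0) {w : F} (hw : w ^ 2 + w + 1 = 0) :
    Function.Injective (code w) := by
  have h3 := (w_ne hw).1
  have h4 := (w_ne hw).2
  have h1 : (1 : F) + 1 = 0 := by rw [one_add_one_eq_two, h2]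
  have h5 : w ≠ 1 := by
    intro h
    rw [h] at h4
    exact h4 h1
  intro a b hab
  fin_cases a <;> fin_cases b <;> simp [code] at hab ⊢
  · exact h3 hab.symm
  · exact h4 hab.symm
  · exact h5 hab.symm
  · exact h3 hab
  · exact h3 hab
  · exact h5 hab
  · exact h4 hab
  · exact h3 hab

theorem code_surj (hF : Fintype.card F = 2 ^ 2) {w : F} (hw : w ^ 2 + w + 1 = 0) :
    Function.Surjective (code w) := by
  have hinj := code_inj (two_eq_zero hF) hw
  exact ((Fintype.bijective_iff_injective_and_card (code w)).2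
    ⟨hinj, by rw [hF, Fintype.card_fin]; norm_num⟩).2

/-- The product of the six coordinates is one, or exactly two coordinates are non-zero. -/
def Om (x : Fin 6 → F) : Prop := (∏ i, x i = 1) ∨ {i | x i ≠ 0}.ncard = 2

/-- coded version -/
def omc (a : Fin 6 → Fin 4) : Prop :=
  mulc (mulc (mulc (a 0) (a 1)) (mulc (a 2) (a 3))) (mulc (a 4) (a 5)) = 1 ∨
    (Finset.univ.filter fun i => a i ≠ 0).card = 2

omit [Fintype F] in
theorem Om_iff (h2 : (2 : F) = 0) {w : F} (hw : w ^ 2 + w + 1 = 0) (a : Fin 6 → Fin 4) :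
    Om (fun i => code w (a i)) ↔ omc a := by
  classical
  have hinj := code_inj h2 hw
  have h0 : ∀ b : Fin 4, code w b ≠ 0 ↔ b ≠ 0 := by
    intro b
    have : code w 0 = 0 := rfl
    rw [← this, hinj.ne_iff]
  unfold Om omc
  refine or_congr ?_ ?_
  · rw [Fin.prod_univ_six]
    have h1 : code w 1 = 1 := rfl
    rw [← h1, ← hinj.eq_iff]
    simp only [← code_mul h2 hw]
    rw [iff_iff_eq]
    congr 1
    ring
  · simp only [h0]
    rw [Set.ncard_eq_toFinset_card']
    congr! 2
    ext i
    simp

/-- boolean version of `omc` on six codes -/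
def chk (a b c d e f : Fin 4) : Bool :=
  (mulc (mulc (mulc a b) (mulc c d)) (mulc e f) == 1) ||
    ((bif a == 0 then 0 else 1) + (bif b == 0 then 0 else 1) + (bif c == 0 then 0 else 1) +
      (bif d == 0 then 0 else 1) + (bif e == 0 then 0 else 1) + (bif f == 0 then 0 else 1) == 2)

theorem omc_iff (a : Fin 6 → Fin 4) : omc a ↔ chk (a 0) (a 1) (a 2) (a 3) (a 4) (a 5) = true := by
  unfold omc chk
  rw [Bool.or_eq_true, beq_iff_eq, beq_iff_eq, Finset.card_filter, Fin.sum_univ_six]
  refine or_congr Iff.rfl ?_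
  have h : ∀ b : Fin 4, (if b ≠ 0 then 1 else 0) = (bif b == 0 then 0 else 1) := by decide
  simp only [h]

/-- the sum of the six coordinates -/
def sm (a b c d e f : Fin 4) : Fin 4 := addc (addc (addc a b) (addc c d)) (addc e f)

def tst (a b c d e f : Fin 4) : Bool :=
  let s := sm a b c d e f
  !(chk a b c d e f) || chk (addc a s) (addc b s) (addc c s) (addc d s) (addc e s) (addc f s)

theorem tst_all : ∀ a b c d e f : Fin 4, tst a b c d e f = true := by decide +kernel

theorem Om_add (hF : Fintype.card F = 2 ^ 2) {x : Fin 6 → F} (hx : Om x) :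
    Om (fun i => x i + ∑ j, x j) := by
  have h2 := two_eq_zero hF
  obtain ⟨w, hw⟩ := exists_w hF
  have hs := code_surj hF hw
  choose a ha using fun i => hs (x i)
  obtain rfl : x = fun i => code w (a i) := funext fun i => (ha i).symm
  rw [Om_iff h2 hw, omc_iff] at hx
  have hsum : ∑ j, code w (a j) = code w (sm (a 0) (a 1) (a 2) (a 3) (a 4) (a 5)) := by
    rw [Fin.sum_univ_six, sm, ← code_add h2, ← code_add h2, ← code_add h2, ← code_add h2,
      ← code_add h2]
    ring
  rw [hsum]
  have h1 : (fun i => code w (a i) + code w (sm (a 0) (a 1) (a 2) (a 3) (a 4) (a 5))) =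
      fun i => code w (addc (a i) (sm (a 0) (a 1) (a 2) (a 3) (a 4) (a 5))) :=
    funext fun i => code_add h2 w _ _
  rw [h1, Om_iff h2 hw, omc_iff]
  have h3 := tst_all (a 0) (a 1) (a 2) (a 3) (a 4) (a 5)
  unfold tst at h3
  rw [hx] at h3
  simpa using h3

end Cfsg.Agent.H913.F4
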