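import Mathlib
import Cfsg.Prelude.Def_GeometricClasses
import Cfsg.Agent.LieClassical.HermBasic

/-!
# Basic lemmas about `Cfsg.Geo` stabilisers (helper913)

* `mem_decompositionStabilizer_of` : an invertible matrix mapping each member of an `m`-decomposition into a member
  lies in the decomposition stabiliser;
* `mem_GU_iff`, `eq_of_max`, `not_max`.
-/

set_option autoImplicit false

namespace Cfsg.Agent.H913.GeoBasic

open Cfsg Cfsg.Geo Module
open scoped MatrixGroups Matrix

variable {ι : Type} [Fintype ι] [DecidableEq ι] {F : Type*} [Field F]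

theorem toLin'_injective (g : GL ι F) : Function.Injective (Matrix.toLin' (g : Matrix ι ι F)) := by
  intro x y hxy
  have h := congrArg (fun z => (((g⁻¹ : GL ι F) : Matrix ι ι F)) *ᵥ z) hxy
  simpa [Matrix.toLin'_apply, Matrix.mulVec_mulVec, ← Units.val_mul] using h

theorem inv_mulVec_mulVec (g : GL ι F) (x : ι → F) :
    ((g⁻¹ : GL ι F) : Matrix ι ι F) *ᵥ ((g : Matrix ι ι F) *ᵥ x) = x := by
  rw [Matrix.mulVec_mulVec, ← Units.val_mul, inv_mul_cancel, Units.val_one, Matrix.one_mulVec]

theorem mulVec_inv_mulVec (g : GL ι F) (x : ι → F) :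
    (g : Matrix ι ι F) *ᵥ (((g⁻¹ : GL ι F) : Matrix ι ι F) *ᵥ x) = x := by
  rw [Matrix.mulVec_mulVec, ← Units.val_mul, mul_inv_cancel, Units.val_one, Matrix.one_mulVec]

theorem map_injective (g : GL ι F) :
    Function.Injective (fun W : Submodule F (ι → F) => W.map (Matrix.toLin' (g : Matrix ι ι F))) :=
  Submodule.map_injective_of_injective (toLin'_injective g)

theorem finrank_map (g : GL ι F) (W : Submodule F (ι → F)) :
    finrank F (W.map (Matrix.toLin' (g : Matrix ι ι F))) = finrank F W :=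
  LinearEquiv.finrank_eq
    (Submodule.equivMapOfInjective (Matrix.toLin' (g : Matrix ι ι F)) (toLin'_injective g) W).symm

omit [Fintype ι] [DecidableEq ι] in
theorem IsMDecomposition.injective {t m : ℕ} {D : Fin t → Submodule F (ι → F)}
    (hD : IsMDecomposition m D) : Function.Injective D := by
  intro i j hij
  by_contra hne
  have h := hD.indep.pairwiseDisjoint hne
  rw [Function.onFun, hij, disjoint_self] at h
  have h1 := hD.finrank_eq j
  rw [h, finrank_bot] at h1
  exact (hD.pos.ne' h1.symm)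

/-- An invertible matrix which maps every member of an `m`-decomposition into some member lies in the
stabiliser of the decomposition. -/
theorem mem_decompositionStabilizer_of {t m : ℕ} {D : Fin t → Submodule F (ι → F)}
    (hD : IsMDecomposition m D) {g : GL ι F}
    (h : ∀ i, ∃ j, (D i).map (Matrix.toLin' (g : Matrix ι ι F)) ≤ D j) :
    g ∈ decompositionStabilizer D := by
  choose s hs using h
  have hs' : ∀ i, (D i).map (Matrix.toLin' (g : Matrix ι ι F)) = D (s i) := fun i =>
    Submodule.eq_of_le_of_finrank_eq (hs i) (by rw [finrank_map, hD.finrank_eq, hD.finrank_eq])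
  have hinj : Function.Injective s := by
    intro i j hij
    have h1 : (D i).map (Matrix.toLin' (g : Matrix ι ι F)) =
        (D j).map (Matrix.toLin' (g : Matrix ι ι F)) := by rw [hs', hs', hij]
    exact IsMDecomposition.injective hD (map_injective g h1)
  exact ⟨Equiv.ofBijective s (Finite.injective_iff_bijective.1 hinj), fun i => hs' i⟩

/-- membership in terms of vectors -/
theorem mem_decompositionStabilizer_of' {t m : ℕ} {D : Fin t → Submodule F (ι → F)}
    (hD : IsMDecomposition m D) {g : GL ι F}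
    (h : ∀ i, ∃ j, ∀ x ∈ D i, (g : Matrix ι ι F) *ᵥ x ∈ D j) :
    g ∈ decompositionStabilizer D := by
  refine mem_decompositionStabilizer_of hD fun i => ?_
  obtain ⟨j, hj⟩ := h i
  refine ⟨j, ?_⟩
  rintro _ ⟨x, hx, rfl⟩
  rw [Matrix.toLin'_apply]
  exact hj x hx

theorem exists_perm_of_mem {t : ℕ} {D : Fin t → Submodule F (ι → F)} {g : GL ι F}
    (hg : g ∈ decompositionStabilizer D) :
    ∃ σ : Equiv.Perm (Fin t), ∀ i, ∀ x ∈ D i, (g : Matrix ι ι F) *ᵥ x ∈ D (σ i) := by
  obtain ⟨σ, hσ⟩ := hg
  refine ⟨σ, fun i x hx => ?_⟩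
  rw [← hσ i]
  exact ⟨x, hx, by rw [Matrix.toLin'_apply]⟩

theorem mem_GU_iff {n q : ℕ} (g : GL (Fin n) F) :
    g ∈ GU n F q ↔ ∀ u v : Fin n → F,
      hermForm n F q ((g : Matrix (Fin n) (Fin n) F) *ᵥ u) ((g : Matrix (Fin n) (Fin n) F) *ᵥ v) =
        hermForm n F q u v := Iff.rfl

theorem mem_specialLinear_iff (g : GL ι F) :
    g ∈ specialLinear ι F ↔ (g : Matrix ι ι F).det = 1 := by
  rw [specialLinear, MonoidHom.mem_ker]
  constructor
  · intro h
    have := congrArg Units.val h
    simpa using this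
  · intro h
    exact Units.ext (by simpa using h)

/-- If `H` is maximal in `K`, `H ≤ M` and `M ⊓ K ≠ K` then `H = M ⊓ K`. -/
theorem eq_of_max {G : Type*} [Group G] {K H M : Subgroup G} (hH : IsMaximalIn K H) (hM : H ≤ M)
    (hp : ¬ K ≤ M) : H = M ⊓ K := by
  rcases hH.2 (M ⊓ K) (le_inf hM hH.1.le) inf_le_right with h | h
  · exact h.symm
  · exact absurd (inf_eq_right.1 h) hp

/-- `H` maximal in `K`, `H ≤ S`, `S ⊓ K ≤ M`, `M` does not contain `K` and `M ⊓ K` is not inside `S`: impossible. -/
theorem not_max {G : Type*} [Group G] {K H S M : Subgroup G} (hH : IsMaximalIn K H) (hS : H ≤ S)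
    (hSM : S ⊓ K ≤ M) (hp : ¬ K ≤ M) (x : G) (hxM : x ∈ M) (hxK : x ∈ K) (hxS : x ∉ S) : False := by
  have h1 : H = M ⊓ K := eq_of_max hH (le_trans (le_inf hS hH.1.le) hSM) hp
  have h2 : x ∈ H := by rw [h1]; exact ⟨hxM, hxK⟩
  exact hxS (hS h2)

end Cfsg.Agent.H913.GeoBasic
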