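import Cfsg.Agent.H913.N6Dich

/-!
# The algebra of the two frames (helper913)
-/

set_option autoImplicit false
set_option linter.unusedSectionVars false
set_option maxRecDepth 100000

namespace Cfsg.Agent.H913.N6

open Cfsg Cfsg.Geo Matrix
open Module (Basis)

variable {ι : Type} [Fintype ι] [DecidableEq ι] {F : Type*} [Field F]

/-! ### integer facts -/

theorem Cz_sq : ∀ i j : Fin 6, i ≠ j → Cz i j * Cz i j = 1 := by decide +kernel

theorem Cz_perm : ∀ σ : Equiv.Perm (Fin 6), (∀ i j k : Fin 6, i < j → j < k →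
    Cz (σ i) (σ j) * Cz (σ j) (σ k) * Cz (σ i) (σ k) = - (Cz i j * Cz j k * Cz i k)) →
    ((Equiv.Perm.sign σ : ℤˣ) : ℤ) * ((-(Cz 0 1 * Cz (σ 0) (σ 1))) * (-(Cz 0 2 * Cz (σ 0) (σ 2))) *
      (-(Cz 0 3 * Cz (σ 0) (σ 3))) * (-(Cz 0 4 * Cz (σ 0) (σ 4))) * (-(Cz 0 5 * Cz (σ 0) (σ 5)))) = 1 := by
  decide +kernel

/-- the matrix `θ + C`, transposed -/
def GZm : Matrix (Fin 6) (Fin 6) (Zsqrtd (-3)) := fun k j => if j = k then ⟨0, 1⟩ else ⟨Cz j k, 0⟩

theorem det_GZm : GZm.det = ⟨-512, 0⟩ := by decide +kernel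

/-- equality of signs in the field -/
theorem int_eq (h2 : (2 : F) ≠ 0) {u v : ℤ} (hu : u * u = 1) (hv : v * v = 1) (h : (u : F) = (v : F)) : u = v := by
  have key : ∀ {u : ℤ}, u * u = 1 → u = 1 ∨ u = -1 := fun h => mul_self_eq_one_iff.1 h
  rcases key hu with rfl | rfl <;> rcases key hv with rfl | rfl
  · rfl
  · exfalso; push_cast at h; exact h2 (by linear_combination h)
  · exfalso; push_cast at h; exact h2 (by linear_combination -h)
  · rfl

/-! ### coefficients -/

/-- the entries of `θ + C` -/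
def Gf (θ : F) (i j : Fin 6) : F := if i = j then θ else (Cz i j : F)

theorem zF_Gq (θ : F) (i j : Fin 6) : zF θ (Gq i j) = Gf θ i j := by
  rw [Gq, Gf, zF]; split_ifs <;> simp

theorem zF_Hq (θ : F) (i l : Fin 6) : zF θ (Hq i l) = if l = i then -θ else (Cz i l : F) := by
  rw [Hq, zF]; split_ifs <;> simp

theorem cmb_sum' {b g : Fin 6 → ι → F} {θ : F} (h : Cmb b g θ 1) (i : Fin 6) : g i = ∑ j, Gf θ i j • b j := by
  rw [cmb_sum h i]
  exact Finset.sum_congr rfl fun j _ => by rw [zF_Gq]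

theorem coef {b : Basis (Fin 6) F (ι → F)} {σ : Equiv.Perm (Fin 6)} {c d : Fin 6 → F}
    (h : ∑ j, c j • b (σ j) = ∑ k, d k • b k) (j : Fin 6) : c j = d (σ j) := by
  have h1 := congrArg (fun v => b.repr v (σ j)) h
  simp only [map_sum, map_smul, Finsupp.finset_sum_apply, Finsupp.smul_apply, b.repr_self, smul_eq_mul] at h1
  rw [Finset.sum_eq_single j, Finset.sum_eq_single (σ j)] at h1
  · simpa using h1
  · intro k _ hk
    rw [Finsupp.single_eq_of_ne hk.symm, mul_zero]
  · intro h; exact absurd (Finset.mem_univ _) h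
  · intro k _ hk
    rw [Finsupp.single_eq_of_ne (fun h => hk (σ.injective h).symm), mul_zero]
  · intro h; exact absurd (Finset.mem_univ _) h

section

variable {b g : Basis (Fin 6) F (ι → F)} {θ : F} (hθ : θ * θ = -3) (h2 : (2 : F) ≠ 0) (h3 : (3 : F) ≠ 0)
  (hc : Cmb b g θ 1)
include hθ h2 h3 hc

/-- a signed permutation of `b` that is monomial in `g` -/
theorem alg_N {N : GL ι F} {π : Equiv.Perm (Fin 6)} {t : Fin 6 → ℤˣ} (h1 : ∀ i, ap N (b i) = sg F (t i) • b (π i))
    {σ : Equiv.Perm (Fin 6)} {a : Fin 6 → F} (hg : Mon2 g g N σ a) :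
    ∀ i j, i ≠ j → Cz (π i) (π j) = (t i : ℤ) * t j * Cz i j := by
  have h8 : (8 : F) ≠ 0 := by
    have : (8 : F) = 2 ^ 3 := by norm_num
    rw [this]; exact pow_ne_zero 3 h2
  have hθ0 : θ ≠ 0 := by
    rintro rfl
    exact h3 (by linear_combination hθ)
  have key : ∀ i j, Gf θ i j * sg F (t j) = a i * Gf θ (σ i) (π j) := by
    intro i j
    have e1 : ap N (g i) = ∑ j, (Gf θ i j * sg F (t j)) • b (π j) := by
      rw [cmb_sum' hc i, ap_sum]
      exact Finset.sum_congr rfl fun j _ => by rw [ap_smul, h1 j, smul_smul]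
    have e2 : ap N (g i) = ∑ k, (a i * Gf θ (σ i) k) • b k := by
      rw [(hg i).2, cmb_sum' hc (σ i), Finset.smul_sum]
      exact Finset.sum_congr rfl fun j _ => by rw [smul_smul]
    exact coef (e1.symm.trans e2) j
  have hC : ∀ i j : Fin 6, i ≠ j → (Cz i j : F) * (Cz i j : F) = 1 := fun i j h => by
    exact_mod_cast congrArg (Int.cast : ℤ → F) (Cz_sq i j h)
  have hσ : ∀ i, σ i = π i := by
    intro i
    by_contra hne
    have k1 := key i i
    have k2 := key i (π.symm (σ i))
    have hij : i ≠ π.symm (σ i) := fun h => hne (by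
      have := congrArg π h
      simpa using this.symm)
    rw [Gf, if_pos rfl, Gf, if_neg hne] at k1
    rw [Gf, if_neg hij, Gf, Equiv.apply_symm_apply, if_pos rfl] at k2
    have c1 := hC _ _ hne
    have c2 := hC _ _ hij
    have t1 := sg_sq (F := F) (t i)
    have t2 := sg_sq (F := F) (t (π.symm (σ i)))
    have s1 : a i * a i = -3 := by
      calc a i * a i = a i * a i * ((Cz (σ i) (π i) : F) * (Cz (σ i) (π i) : F)) := by rw [c1, mul_one]
        _ = (a i * (Cz (σ i) (π i) : F)) * (a i * (Cz (σ i) (π i) : F)) := by ring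
        _ = (θ * sg F (t i)) * (θ * sg F (t i)) := by rw [k1]
        _ = (θ * θ) * (sg F (t i) * sg F (t i)) := by ring
        _ = -3 := by rw [hθ, t1, mul_one]
    have s2 : (1 : F) = 9 := by
      calc (1 : F) = ((Cz i (π.symm (σ i)) : F) * (Cz i (π.symm (σ i)) : F)) *
              (sg F (t (π.symm (σ i))) * sg F (t (π.symm (σ i)))) := by rw [c2, t2, mul_one]
        _ = ((Cz i (π.symm (σ i)) : F) * sg F (t (π.symm (σ i)))) *
              ((Cz i (π.symm (σ i)) : F) * sg F (t (π.symm (σ i)))) := by ring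
        _ = (a i * θ) * (a i * θ) := by rw [k2]
        _ = (a i * a i) * (θ * θ) := by ring
        _ = 9 := by rw [s1, hθ]; norm_num
    exact h8 (by linear_combination -s2)
  have ha : ∀ i, a i = sg F (t i) := by
    intro i
    have k1 := key i i
    rw [hσ i, Gf, if_pos rfl, Gf, if_pos rfl, mul_comm] at k1
    exact (mul_right_cancel₀ hθ0 k1).symm
  intro i j hij
  have k1 := key i j
  rw [hσ i, ha, Gf, if_neg hij, Gf, if_neg (fun h => hij (π.injective h))] at k1
  have ti := Int.units_coe_mul_self (t i)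
  have tj := Int.units_coe_mul_self (t j)
  have c1 := Cz_sq _ _ hij
  have c2 := Cz_sq (π i) (π j) (fun h => hij (π.injective h))
  refine int_eq h2 c2 ?_ ?_
  · calc ((t i : ℤ) * t j * Cz i j) * ((t i : ℤ) * t j * Cz i j) =
        ((t i : ℤ) * t i) * ((t j : ℤ) * t j) * (Cz i j * Cz i j) := by ring
      _ = 1 := by rw [ti, tj, c1]; norm_num
  · have t1 := sg_sq (F := F) (t i)
    rw [sg, sg] at k1
    rw [sg] at t1
    push_cast
    calc (Cz (π i) (π j) : F) = (((t i : ℤ) : F) * ((t i : ℤ) : F)) * (Cz (π i) (π j) : F) := by rw [t1, one_mul]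
      _ = ((t i : ℤ) : F) * (((t i : ℤ) : F) * (Cz (π i) (π j) : F)) := by ring
      _ = ((t i : ℤ) : F) * ((Cz i j : F) * ((t j : ℤ) : F)) := by rw [k1]
      _ = ((t i : ℤ) : F) * ((t j : ℤ) : F) * (Cz i j : F) := by ring

/-- an element swapping the frames -/
theorem alg_swap {h : GL ι F} {σ : Equiv.Perm (Fin 6)} {x : Fin 6 → F} (h1 : Mon2 b g h σ x)
    {τ : Equiv.Perm (Fin 6)} {y : Fin 6 → F} (hg : Mon2 g b h τ y) :
    ∀ i j, i ≠ j → x j = -((Cz i j * Cz (σ i) (σ j) : ℤ) : F) * x i := by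
  have h8 : (8 : F) ≠ 0 := by
    have : (8 : F) = 2 ^ 3 := by norm_num
    rw [this]; exact pow_ne_zero 3 h2
  have h4 : (4 : F) ≠ 0 := by
    have : (4 : F) = 2 ^ 2 := by norm_num
    rw [this]; exact pow_ne_zero 2 h2
  have hθ0 : θ ≠ 0 := by
    rintro rfl
    exact h3 (by linear_combination hθ)
  have key : ∀ i j, 8 * (Gf θ i j * x j) = y i * (if τ i = σ j then -θ else (Cz (σ j) (τ i) : F)) := by
    intro i j
    have e1 : (8 : F) • ap h (g i) = ∑ j, (8 * (Gf θ i j * x j)) • g (σ j) := by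
      rw [cmb_sum' hc i, ap_sum, Finset.smul_sum]
      exact Finset.sum_congr rfl fun j _ => by rw [ap_smul, (h1 j).2, smul_smul, smul_smul, mul_assoc]
    have e2 : (8 : F) • ap h (g i) = ∑ k, (y i * (if τ i = k then -θ else (Cz k (τ i) : F))) • g k := by
      rw [(hg i).2, smul_comm, cmb_inv hθ hc (τ i), Finset.smul_sum]
      exact Finset.sum_congr rfl fun j _ => by rw [smul_smul, zF_Hq]
    exact coef (e1.symm.trans e2) j
  have hC : ∀ i j : Fin 6, i ≠ j → (Cz i j : F) * (Cz i j : F) = 1 := fun i j h => by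
    exact_mod_cast congrArg (Int.cast : ℤ → F) (Cz_sq i j h)
  -- the alternative at `i`
  have altA : ∀ i, σ i = τ i → ∀ j, i ≠ j → Gf θ i j * x j = - x i * (Cz (σ j) (σ i) : F) := by
    intro i hi j hij
    have k1 := key i i
    have k2 := key i j
    rw [if_pos hi.symm, Gf, if_pos rfl] at k1
    have hy : y i = -8 * x i := by
      have : y i * θ = (-8 * x i) * θ := by linear_combination k1
      exact mul_right_cancel₀ hθ0 this
    rw [if_neg (fun h => hij (σ.injective (hi.trans h))), hy, ← hi] at k2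
    have : (8 : F) * (Gf θ i j * x j) = 8 * (- x i * (Cz (σ j) (σ i) : F)) := by rw [k2]; ring
    exact mul_left_cancel₀ h8 this
  have altA2 : ∀ i, σ i = τ i → ∀ j, i ≠ j → x j * x j = x i * x i := by
    intro i hi j hij
    have k1 := altA i hi j hij
    rw [Gf, if_neg hij] at k1
    have c1 := hC i j hij
    have c2 := hC (σ j) (σ i) (fun h => hij (σ.injective h).symm)
    calc x j * x j = ((Cz i j : F) * (Cz i j : F)) * (x j * x j) := by rw [c1, one_mul]
      _ = ((Cz i j : F) * x j) * ((Cz i j : F) * x j) := by ring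
      _ = (- x i * (Cz (σ j) (σ i) : F)) * (- x i * (Cz (σ j) (σ i) : F)) := by rw [k1]
      _ = (x i * x i) * ((Cz (σ j) (σ i) : F) * (Cz (σ j) (σ i) : F)) := by ring
      _ = x i * x i := by rw [c2, mul_one]
  have altB : ∀ i, σ i ≠ τ i → ∀ j, i ≠ j → (σ j = τ i → x j * x j = 9 * (x i * x i)) ∧
      (σ j ≠ τ i → x j * x j = -3 * (x i * x i)) := by
    intro i hi j hij
    have k1 := key i i
    have k2 := key i j
    rw [if_neg (Ne.symm hi), Gf, if_pos rfl] at k1
    have c0 := hC (σ i) (τ i) hi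
    have hy : y i = 8 * θ * x i * (Cz (σ i) (τ i) : F) := by
      calc y i = y i * ((Cz (σ i) (τ i) : F) * (Cz (σ i) (τ i) : F)) := by rw [c0, mul_one]
        _ = (y i * (Cz (σ i) (τ i) : F)) * (Cz (σ i) (τ i) : F) := by ring
        _ = _ := by rw [← k1]; ring
    have hyy : y i * y i = 64 * (-3) * (x i * x i) := by
      rw [hy]
      calc 8 * θ * x i * (Cz (σ i) (τ i) : F) * (8 * θ * x i * (Cz (σ i) (τ i) : F)) =
          64 * (θ * θ) * (x i * x i) * ((Cz (σ i) (τ i) : F) * (Cz (σ i) (τ i) : F)) := by ring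
        _ = _ := by rw [hθ, c0]; ring
    have c1 := hC i j hij
    have h64 : (64 : F) * (x j * x j) = (8 * (Gf θ i j * x j)) * (8 * (Gf θ i j * x j)) := by
      rw [Gf, if_neg hij]
      calc (64 : F) * (x j * x j) = 64 * ((Cz i j : F) * (Cz i j : F)) * (x j * x j) := by rw [c1, mul_one]
        _ = _ := by ring
    have h64' : (64 : F) ≠ 0 := by
      have : (64 : F) = 8 * 8 := by norm_num
      rw [this]; exact mul_ne_zero h8 h8
    rw [k2] at h64
    constructor
    · intro h
      rw [if_pos h.symm] at h64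
      apply mul_left_cancel₀ h64'
      rw [h64]
      linear_combination (θ * θ) * hyy + (-192 * (x i * x i)) * hθ
    · intro h
      rw [if_neg (Ne.symm h)] at h64
      have c2 := hC (σ j) (τ i) h
      apply mul_left_cancel₀ h64'
      rw [h64]
      linear_combination ((Cz (σ j) (τ i) : F) * (Cz (σ j) (τ i) : F)) * hyy + (-192 * (x i * x i)) * c2
  have hAll : ∀ i, σ i = τ i := by
    intro i
    by_contra hi
    obtain ⟨i1, i2, a1, a2, a3, a4, a5⟩ : ∃ i1 i2 : Fin 6, i ≠ i1 ∧ i ≠ i2 ∧ i1 ≠ i2 ∧ i1 ≠ σ.symm (τ i) ∧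
        i2 ≠ σ.symm (τ i) := by
      generalize σ.symm (τ i) = j
      clear * -
      revert i j
      decide +kernel
    have hn : ∀ j, j ≠ σ.symm (τ i) → σ j ≠ τ i := fun j hj h => hj (by rw [← h]; simp)
    have e1 := (altB i hi i1 a1).2 (hn _ a4)
    have e2 := (altB i hi i2 a2).2 (hn _ a5)
    have hx := (h1 i).1
    have hxx : x i * x i ≠ 0 := mul_ne_zero hx hx
    have hxx1 : x i1 * x i1 ≠ 0 := mul_ne_zero (h1 i1).1 (h1 i1).1
    by_cases hi1 : σ i1 = τ i1
    · have e3 := altA2 i1 hi1 i (Ne.symm a1)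
      rw [e1] at e3
      have : 4 * (x i * x i) = 0 := by linear_combination e3
      exact (mul_ne_zero h4 hxx) this
    · have e3 := altB i1 hi1 i2 a3
      have e4 : x i2 * x i2 = x i1 * x i1 := by rw [e1, e2]
      rcases em (σ i2 = τ i1) with h | h
      · have e5 := e3.1 h
        rw [e4] at e5
        have : 8 * (x i1 * x i1) = 0 := by linear_combination -e5
        exact (mul_ne_zero h8 hxx1) this
      · have e5 := e3.2 h
        rw [e4] at e5
        have : 4 * (x i1 * x i1) = 0 := by linear_combination e5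
        exact (mul_ne_zero h4 hxx1) this
  intro i j hij
  have k1 := altA i (hAll i) j hij
  rw [Gf, if_neg hij] at k1
  have c1 := hC i j hij
  have hsym : ∀ k l : Fin 6, Cz k l = Cz l k := by decide +kernel
  rw [hsym (σ j) (σ i)] at k1
  push_cast
  calc x j = ((Cz i j : F) * (Cz i j : F)) * x j := by rw [c1, one_mul]
    _ = (Cz i j : F) * ((Cz i j : F) * x j) := by ring
    _ = _ := by rw [k1]; ring

/-- **The determinant of a swapping element.** -/
theorem det_swap {h : GL ι F} {σ : Equiv.Perm (Fin 6)} {x : Fin 6 → F} (h1 : Mon2 b g h σ x)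
    {τ : Equiv.Perm (Fin 6)} {y : Fin 6 → F} (hg : Mon2 g b h τ y) :
    (h : Matrix ι ι F).det = -512 * x 0 ^ 6 := by
  have hx := alg_swap hθ h2 h3 hc h1 hg
  have hsq : ∀ i j : Fin 6, i ≠ j → (Cz i j * Cz (σ i) (σ j)) * (Cz i j * Cz (σ i) (σ j)) = 1 := by
    intro i j hij
    calc (Cz i j * Cz (σ i) (σ j)) * (Cz i j * Cz (σ i) (σ j)) =
        (Cz i j * Cz i j) * (Cz (σ i) (σ j) * Cz (σ i) (σ j)) := by ring
      _ = 1 := by rw [Cz_sq i j hij, Cz_sq _ _ (fun h => hij (σ.injective h))]; norm_num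
  have htri : ∀ i j k : Fin 6, i < j → j < k →
      Cz (σ i) (σ j) * Cz (σ j) (σ k) * Cz (σ i) (σ k) = - (Cz i j * Cz j k * Cz i k) := by
    intro i j k hij hjk
    have hij' := hij.ne
    have hjk' := hjk.ne
    have hik' := (hij.trans hjk).ne
    set u := Cz i j * Cz (σ i) (σ j) with hu
    set v := Cz j k * Cz (σ j) (σ k) with hv
    set w := Cz i k * Cz (σ i) (σ k) with hw
    have q1 : u * u = 1 := hsq i j hij'
    have q2 : v * v = 1 := hsq j k hjk'
    have q3 : w * w = 1 := hsq i k hik'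
    -- `v u = - w`
    have e1 : v * u = -w := by
      refine int_eq h2 ?_ ?_ ?_
      · calc v * u * (v * u) = (v * v) * (u * u) := by ring
          _ = 1 := by rw [q1, q2]; norm_num
      · calc -w * -w = w * w := by ring
          _ = 1 := q3
      · have f1 := hx i j hij'
        have f2 := hx j k hjk'
        have f3 := hx i k hik'
        rw [f1] at f2
        rw [f3] at f2
        have hxi := (h1 i).1
        have : (-(w : F)) * x i = ((v : F) * (u : F)) * x i := by
          rw [f2]; ring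
        have h5 := mul_right_cancel₀ hxi this
        push_cast
        exact h5.symm
    have c1 := Cz_sq _ _ hij'
    have c2 := Cz_sq _ _ hjk'
    have c3 := Cz_sq _ _ hik'
    have d1 : Cz (σ i) (σ j) = Cz i j * u := by rw [hu, ← mul_assoc, c1, one_mul]
    have d2 : Cz (σ j) (σ k) = Cz j k * v := by rw [hv, ← mul_assoc, c2, one_mul]
    have d3 : Cz (σ i) (σ k) = Cz i k * w := by rw [hw, ← mul_assoc, c3, one_mul]
    rw [d1, d2, d3]
    calc Cz i j * u * (Cz j k * v) * (Cz i k * w) = (Cz i j * Cz j k * Cz i k) * ((v * u) * w) := by ring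
      _ = _ := by rw [e1]; linear_combination (-(Cz i j * Cz j k * Cz i k)) * q3
  have hperm := Cz_perm σ htri
  rw [det_eq_det b]
  have e1 : (Matrix.of fun i j => b.repr (ap h (b j)) i) =
      Matrix.of fun i j => x j * (Matrix.of fun i j => Gf θ (σ j) i) i j := by
    ext i j
    rw [Matrix.of_apply, Matrix.of_apply, Matrix.of_apply, (h1 j).2, cmb_sum' hc (σ j), map_smul, Finsupp.smul_apply,
      map_sum, Finsupp.finset_sum_apply, smul_eq_mul]
    congr 1
    rw [Finset.sum_eq_single i]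
    · rw [map_smul, Finsupp.smul_apply, b.repr_self, Finsupp.single_eq_same, smul_eq_mul, mul_one]
    · intro k _ hk
      rw [map_smul, Finsupp.smul_apply, b.repr_self, Finsupp.single_eq_of_ne hk.symm, smul_zero]
    · intro h; exact absurd (Finset.mem_univ _) h
  rw [e1, Matrix.det_mul_row]
  have e2 : (Matrix.of fun i j => Gf θ (σ j) i) = (Matrix.of fun i j => Gf θ j i).submatrix id σ := by
    ext i j
    rfl
  rw [e2, Matrix.det_permute']
  have hθ' : θ * θ = ((-3 : ℤ) : F) := by rw [hθ]; norm_num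
  have e3 : (Matrix.of fun i j => Gf θ j i) = GZm.map (Zsqrtd.lift ⟨θ, hθ'⟩) := by
    ext i j
    rw [Matrix.map_apply, Matrix.of_apply, Gf, GZm]
    split_ifs <;> simp [Zsqrtd.lift]
  have e4 : (Matrix.of fun i j => Gf θ j i).det = -512 := by
    rw [e3, ← RingHom.mapMatrix_apply, ← RingHom.map_det, det_GZm]
    simp [Zsqrtd.lift]
  rw [e4, Fin.prod_univ_six, hx 0 1 (by decide), hx 0 2 (by decide), hx 0 3 (by decide), hx 0 4 (by decide),
    hx 0 5 (by decide)]
  have e5 := congrArg (Int.cast : ℤ → F) hperm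
  push_cast at e5 ⊢
  linear_combination (-512 * x 0 ^ 6) * e5

end

end Cfsg.Agent.H913.N6
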