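import Cfsg.Agent.H913.N6Alg

/-!
# Maximal overgroups contain a swapping element (helper913)
-/

set_option autoImplicit false
set_option linter.unusedSectionVars false
set_option maxRecDepth 100000

namespace Cfsg.Agent.H913.N6

open Cfsg Cfsg.Geo Matrix
open Module (Basis)
open Cfsg.Agent.H915.LD (Core Soc toSoc tr)
open Cfsg.Agent.H906.SL3Par Cfsg.Agent.H906.L34 Cfsg.Agent.H906.T14
open scoped Pointwise

variable {ι : Type} [Fintype ι] [DecidableEq ι] {F : Type*} [Field F]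

/-- an element with given matrix in a basis -/
theorem exists_gl (b : Basis (Fin 6) F (ι → F)) (N : Matrix (Fin 6) (Fin 6) F) (hN : N.det ≠ 0) :
    ∃ x : GL ι F, (∀ j, ap x (b j) = ∑ i, N i j • b i) ∧ (x : Matrix ι ι F).det = N.det := by
  have hu : IsUnit N.det := hN.isUnit
  have e1 : N * N⁻¹ = 1 := Matrix.mul_nonsing_inv N hu
  have e2 : N⁻¹ * N = 1 := Matrix.nonsing_inv_mul N hu
  have key : ∀ A B : Matrix (Fin 6) (Fin 6) F, A * B = 1 →
      LinearMap.toMatrix' (Matrix.toLin b b A) * LinearMap.toMatrix' (Matrix.toLin b b B) = 1 := by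
    intro A B h
    rw [← LinearMap.toMatrix'_comp, ← Matrix.toLin_mul, h, Matrix.toLin_one, LinearMap.toMatrix'_id]
  obtain ⟨x, hx⟩ : ∃ x : GL ι F, (x : Matrix ι ι F) = LinearMap.toMatrix' (Matrix.toLin b b N) :=
    ⟨⟨_, _, key N N⁻¹ e1, key N⁻¹ N e2⟩, rfl⟩
  have h1 : ∀ j, ap x (b j) = ∑ i, N i j • b i := by
    intro j
    rw [ap, hx, LinearMap.toMatrix'_mulVec, Matrix.toLin_self]
  refine ⟨x, h1, ?_⟩
  rw [det_eq_det b]
  congr 1
  ext i j
  rw [Matrix.of_apply, h1, map_sum, Finsupp.finset_sum_apply, Finset.sum_eq_single i]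
  · rw [map_smul, Finsupp.smul_apply, b.repr_self, Finsupp.single_eq_same, smul_eq_mul, mul_one]
  · intro k _ hk
    rw [map_smul, Finsupp.smul_apply, b.repr_self, Finsupp.single_eq_of_ne hk.symm, smul_zero]
  · intro h; exact absurd (Finset.mem_univ _) h

/-- the integer matrix of the cycle -/
def Ny : Matrix (Fin 6) (Fin 6) ℤ := !![0, 0, 1, 0, 0, 0; 1, 0, 0, 0, 0, 0; 0, 1, 0, 0, 0, 0; 0, 0, 0, 1, 0, 0;
  0, 0, 0, 0, 1, 0; 0, 0, 0, 0, 0, 1]

theorem det_Ny : Ny.det = 1 := by decide +kernel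

/-- the cycle `(0 1 2)` -/
theorem exists_y (b : Basis (Fin 6) F (ι → F)) : ∃ x : GL ι F, (x : Matrix ι ι F).det = 1 ∧
    ap x (b 0) = b 1 ∧ ap x (b 1) = b 2 ∧ ap x (b 2) = b 0 ∧ ap x (b 3) = b 3 ∧ ap x (b 4) = b 4 ∧
    ap x (b 5) = b 5 := by
  have hd : (Ny.map (Int.castRingHom F)).det = 1 := by
    rw [← RingHom.mapMatrix_apply, ← RingHom.map_det, det_Ny]; simp
  obtain ⟨x, h1, h2⟩ := exists_gl b (Ny.map (Int.castRingHom F)) (by rw [hd]; exact one_ne_zero)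
  refine ⟨x, by rw [h2, hd], ?_, ?_, ?_, ?_, ?_, ?_⟩ <;> rw [h1, Fin.sum_univ_six] <;> simp [Ny]

/-- the matrix of `E` with the first two columns doubled -/
def NE : Matrix (Fin 6) (Fin 6) (Zsqrtd (-3)) := !![⟨0, 1⟩, 1, 0, 0, 0, 0; -1, ⟨0, -1⟩, 0, 0, 0, 0; 0, 0, 1, 0, 0, 0;
  0, 0, 0, 1, 0, 0; 0, 0, 0, 0, 1, 0; 0, 0, 0, 0, 0, 1]

theorem det_NE : NE.det = ⟨4, 0⟩ := by decide +kernel

/-- an element outside the stabiliser of the lines -/
theorem exists_E (b : Basis (Fin 6) F (ι → F)) {θ : F} (hθ : θ * θ = -3) (h2 : (2 : F) ≠ 0) :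
    ∃ x : GL ι F, (x : Matrix ι ι F).det = 1 ∧ ap x (b 0) = (2 : F)⁻¹ • (θ • b 0 - b 1) ∧
    ap x (b 1) = (2 : F)⁻¹ • (b 0 - θ • b 1) ∧ ap x (b 2) = b 2 ∧ ap x (b 3) = b 3 ∧ ap x (b 4) = b 4 ∧
    ap x (b 5) = b 5 := by
  have hθ' : θ * θ = ((-3 : ℤ) : F) := by rw [hθ]; norm_num
  set f := Zsqrtd.lift (d := -3) ⟨θ, hθ'⟩ with hf
  have h4 : (4 : F) ≠ 0 := by
    have : (4 : F) = 2 ^ 2 := by norm_num
    rw [this]; exact pow_ne_zero 2 h2
  have hd0 : (NE.map f).det = 4 := by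
    rw [← RingHom.mapMatrix_apply, ← RingHom.map_det, det_NE]; simp [hf, Zsqrtd.lift]
  let v : Fin 6 → F := ![2⁻¹, 2⁻¹, 1, 1, 1, 1]
  have hd : (Matrix.of fun i j => v j * NE.map f i j).det = 1 := by
    rw [Matrix.det_mul_row, hd0, Fin.prod_univ_six]
    simp [v]
    have : (4 : F) = 2 * 2 := by norm_num
    rw [this]
    field_simp
  obtain ⟨x, h1, h3⟩ := exists_gl b (Matrix.of fun i j => v j * NE.map f i j) (by rw [hd]; exact one_ne_zero)
  have f0 : f ⟨0, 1⟩ = θ := by simp [hf, Zsqrtd.lift]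
  have f1 : f ⟨0, -1⟩ = -θ := by simp [hf, Zsqrtd.lift]
  refine ⟨x, by rw [h3, hd], ?_, ?_, ?_, ?_, ?_, ?_⟩ <;> rw [h1, Fin.sum_univ_six] <;>
    simp [NE, v, f0, f1]
  · module
  · module

theorem E_not_mem {b : Basis (Fin 6) F (ι → F)} {θ : F} (hθ : θ * θ = -3) (h2 : (2 : F) ≠ 0) (h3 : (3 : F) ≠ 0)
    {x : GL ι F} (x0 : ap x (b 0) = (2 : F)⁻¹ • (θ • b 0 - b 1)) (x2 : ap x (b 2) = b 2) : x ∉ StabOm b θ := by
  intro hx
  have hθ0 : θ ≠ 0 := by
    rintro rfl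
    exact h3 (by linear_combination hθ)
  obtain ⟨n, hn, hL⟩ := ok02
  have h1 : b 0 + b 2 ∈ Om b θ := by
    refine ⟨n, hn, 1, one_ne_zero, ?_⟩
    rw [one_smul, ev, Fin.sum_univ_six, hL, hL, hL, hL, hL, hL]
    simp [zF]
  have h4 := (hx (b 0 + b 2)).2 h1
  obtain ⟨m, hm, k, hk, h5⟩ := h4
  rw [ap_add, x0, x2] at h5
  have hz : ∀ z : Z2, zF θ z = 0 → z = 0 ∨ ¬ (nz z) := by
    intro z hz
    right
    intro h
    exact nz_ne hθ h2 h hz
  -- coordinates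
  have hco : ∀ j, b.repr (k • ev b θ (LL m)) j = k * zF θ (LL m j) := by
    intro j
    rw [map_smul, Finsupp.smul_apply, smul_eq_mul, ev, map_sum, Finsupp.finset_sum_apply, Finset.sum_eq_single j]
    · rw [map_smul, Finsupp.smul_apply, b.repr_self, Finsupp.single_eq_same, smul_eq_mul, mul_one]
    · intro k _ hk
      rw [map_smul, Finsupp.smul_apply, b.repr_self, Finsupp.single_eq_of_ne hk.symm, smul_zero]
    · intro h; exact absurd (Finset.mem_univ _) h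
  have hr : ∀ j, b.repr ((2 : F)⁻¹ • (θ • b 0 - b 1) + b 2) j = k * zF θ (LL m j) := by
    intro j
    rw [h5, hco]
  have r0 := hr 0
  have r1 := hr 1
  have r2 := hr 2
  have r3 := hr 3
  have r4 := hr 4
  have r5 := hr 5
  simp [Finsupp.single_apply] at r0 r1 r2 r3 r4 r5
  have hdig : ∀ z : Z2, z ∈ ({(0, 0), (1, 0), (-1, 0), (0, 1)} : Set Z2) → zF θ z = 0 → z = 0 := by
    rintro z (rfl | rfl | rfl | rfl) h
    · rfl
    · simp [zF] at h
    · simp [zF] at h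
    · simp [zF] at h; exact absurd h hθ0
  have hmem : ∀ j, LL m j ∈ ({(0, 0), (1, 0), (-1, 0), (0, 1)} : Set Z2) := by
    intro j
    rw [LL, dec, dig]
    split_ifs <;> simp
  refine okSupp m hm ⟨?_, ?_, ?_, ?_, ?_, ?_⟩
  · intro h
    rw [h, zF_zero, mul_zero] at r0
    rcases mul_eq_zero.1 r0 with h6 | h6
    · exact h2 (by simpa using h6)
    · exact hθ0 h6
  · intro h
    rw [h, zF_zero, mul_zero] at r1
    exact h2 (by simpa using r1)
  · intro h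
    rw [h, zF_zero, mul_zero] at r2
    exact one_ne_zero r2
  · exact hdig _ (hmem 3) (by rcases r3 with h | h; exact absurd h hk; exact h)
  · exact hdig _ (hmem 4) (by rcases r4 with h | h; exact absurd h hk; exact h)
  · exact hdig _ (hmem 5) (by rcases r5 with h | h; exact absurd h hk; exact h)

end Cfsg.Agent.H913.N6
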