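import Cfsg.Agent.H915.LD

/-!
# Lifting relations from the socle to the core (helper913)

`Cov P T` : a surjection `π : P → T` whose kernel is the set of scalars in `P ≤ GL(ι, F)`;
`C.L x σ` : `x ∈ P` is a lift of `σ`.
-/

set_option autoImplicit false
set_option linter.unusedSectionVars false

namespace Cfsg.Agent.H913.N6

open Cfsg Cfsg.Geo Matrix
open Cfsg.Agent.H915.LD (Core Soc toSoc tr)

variable {ι : Type} [Fintype ι] [DecidableEq ι] {F : Type*} [Field F] {P H : Subgroup (GL ι F)}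

/-- the scalar matrix `c` -/
def sc (c : Fˣ) : GL ι F := Units.map (Matrix.scalar ι : F →+* Matrix ι ι F).toMonoidHom c

theorem coe_sc (c : Fˣ) : ((sc c : GL ι F) : Matrix ι ι F) = (c : F) • (1 : Matrix ι ι F) := by
  simp [sc, Matrix.smul_one_eq_diagonal]

theorem sc_mul (c d : Fˣ) : (sc (c * d) : GL ι F) = sc c * sc d := by simp [sc]

@[simp] theorem sc_one : (sc 1 : GL ι F) = 1 := by simp [sc]

theorem sc_pow (c : Fˣ) (n : ℕ) : (sc (c ^ n) : GL ι F) = sc c ^ n := by simp [sc]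

theorem sc_inv (c : Fˣ) : (sc c⁻¹ : GL ι F) = (sc c)⁻¹ := by simp [sc]

theorem sc_comm (c : Fˣ) (x : GL ι F) : sc c * x = x * sc c := by
  apply Units.ext
  rw [Units.val_mul, Units.val_mul, coe_sc, Matrix.smul_mul, Matrix.mul_smul, Matrix.one_mul, Matrix.mul_one]

theorem sc_inj [Nonempty ι] {c d : Fˣ} (h : (sc c : GL ι F) = sc d) : c = d := by
  have h1 := congrArg (fun g : GL ι F => (g : Matrix ι ι F)) h
  simp only [coe_sc] at h1
  have i : ι := Classical.arbitrary ι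
  have h2 := congrFun (congrFun h1 i) i
  simpa [Matrix.smul_apply, Units.ext_iff] using h2

theorem mem_scalars {g : GL ι F} : g ∈ scalars ι F ↔ ∃ c, g = sc c := by
  rw [mem_scalars_iff]
  constructor
  · rintro ⟨c, h⟩; exact ⟨c, Units.ext (by rw [coe_sc, h])⟩
  · rintro ⟨c, rfl⟩; exact ⟨c, coe_sc c⟩

theorem sc_mem_scalars (c : Fˣ) : (sc c : GL ι F) ∈ scalars ι F := mem_scalars.2 ⟨c, rfl⟩

/-- a surjection of `P` onto `T` with the scalars as kernel -/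
structure Cov (P : Subgroup (GL ι F)) (T : Type*) [Group T] where
  π : P →* T
  surj : Function.Surjective π
  ker : ∀ x : P, π x = 1 ↔ (x : GL ι F) ∈ scalars ι F

/-- the cover of a core -/
def Cov.of {T : Type*} [Group T] (e : Soc P ≃* T) : Cov P T where
  π := e.toMonoidHom.comp (toSoc P)
  surj := fun t => by
    obtain ⟨x, hx⟩ := H915.LD.toSoc_surjective P (e.symm t)
    exact ⟨x, by simp [hx]⟩
  ker := fun x => by
    have h := H915.LD.ker_toSoc P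
    rw [MonoidHom.comp_apply]
    have h2 : toSoc P x = 1 ↔ x ∈ (scalars ι F).subgroupOf P := by
      rw [← MonoidHom.mem_ker, h]
    rw [show e.toMonoidHom (toSoc P x) = e (toSoc P x) from rfl, map_eq_one_iff e e.injective, h2,
      Subgroup.mem_subgroupOf]

namespace Cov

variable {T : Type*} [Group T] (C : Cov P T)

/-- `x` is a lift of `σ` -/
def L (x : GL ι F) (σ : T) : Prop := ∃ h : x ∈ P, C.π ⟨x, h⟩ = σ

variable {C}

theorem L.mem {x : GL ι F} {σ : T} (h : C.L x σ) : x ∈ P := h.1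

theorem exists_lift (C : Cov P T) (σ : T) : ∃ x, C.L x σ := by
  obtain ⟨x, hx⟩ := C.surj σ
  exact ⟨x, x.2, by rw [← hx]⟩

theorem L.of_mem (C : Cov P T) {x : GL ι F} (h : x ∈ P) : ∃ σ, C.L x σ := ⟨_, h, rfl⟩

theorem L.one : C.L (1 : GL ι F) 1 := ⟨one_mem P, by
  have : (⟨1, one_mem P⟩ : P) = 1 := rfl
  rw [this, map_one]⟩

theorem L.mul {x y : GL ι F} {σ τ : T} (h : C.L x σ) (h' : C.L y τ) : C.L (x * y) (σ * τ) := by
  obtain ⟨hx, rfl⟩ := h
  obtain ⟨hy, rfl⟩ := h'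
  exact ⟨mul_mem hx hy, by rw [← map_mul]; rfl⟩

theorem L.inv {x : GL ι F} {σ : T} (h : C.L x σ) : C.L x⁻¹ σ⁻¹ := by
  obtain ⟨hx, rfl⟩ := h
  exact ⟨inv_mem hx, by rw [← map_inv]; rfl⟩

theorem L.pow {x : GL ι F} {σ : T} (h : C.L x σ) (n : ℕ) : C.L (x ^ n) (σ ^ n) := by
  induction n with
  | zero => simpa using (L.one : C.L 1 1)
  | succ n ih => rw [pow_succ, pow_succ]; exact ih.mul h

theorem L.conj {x g : GL ι F} {σ γ : T} (h : C.L x σ) (h' : C.L g γ) : C.L (g * x * g⁻¹) (γ * σ * γ⁻¹) :=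
  (h'.mul h).mul h'.inv

theorem L.unique {x : GL ι F} {σ τ : T} (h : C.L x σ) (h' : C.L x τ) : σ = τ := by
  obtain ⟨hx, rfl⟩ := h
  obtain ⟨_, rfl⟩ := h'
  rfl

theorem L.one_iff {x : GL ι F} : C.L x 1 ↔ x ∈ P ∧ ∃ c, x = sc c := by
  constructor
  · rintro ⟨h, h1⟩
    exact ⟨h, mem_scalars.1 ((C.ker _).1 h1)⟩
  · rintro ⟨h, c, hc⟩
    exact ⟨h, (C.ker _).2 (mem_scalars.2 ⟨c, hc⟩)⟩

theorem L.of_sc {c : Fˣ} (h : sc c ∈ P) : C.L (sc c) 1 := L.one_iff.2 ⟨h, c, rfl⟩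

/-- two lifts differ by a scalar in `P` -/
theorem L.exists_sc {x y : GL ι F} {σ : T} (h : C.L x σ) (h' : C.L y σ) : ∃ c, sc c ∈ P ∧ x = sc c * y := by
  have h1 : C.L (x * y⁻¹) 1 := by
    have := h.mul h'.inv
    rwa [mul_inv_cancel] at this
  obtain ⟨hm, c, hc⟩ := L.one_iff.1 h1
  refine ⟨c, hc ▸ hm, ?_⟩
  rw [← hc, inv_mul_cancel_right]

theorem L.sc_mul {x : GL ι F} {σ : T} (h : C.L x σ) {c : Fˣ} (hc : sc c ∈ P) : C.L (sc c * x) σ := by
  have := (L.of_sc (C := C) hc).mul h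
  rwa [one_mul] at this

/-- the action of an element normalising `P` -/
theorem exists_aut (C : Cov P T) {h : GL ι F} (h1 : ∀ x ∈ P, h * x * h⁻¹ ∈ P) (h2 : ∀ x ∈ P, h⁻¹ * x * h ∈ P) :
    ∃ φ : MulAut T, ∀ x σ, C.L x σ → C.L (h * x * h⁻¹) (φ σ) := by
  classical
  choose l hl using C.exists_lift
  have hsc : ∀ c : Fˣ, h * sc c * h⁻¹ = sc c := fun c => by rw [← sc_comm, mul_assoc, mul_inv_cancel, mul_one]
  let f : T → T := fun σ => C.π ⟨h * l σ * h⁻¹, h1 _ (hl σ).mem⟩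
  have hf : ∀ x σ, C.L x σ → C.L (h * x * h⁻¹) (f σ) := by
    intro x σ hx
    obtain ⟨c, hc, rfl⟩ := hx.exists_sc (hl σ)
    have e : h * (sc c * l σ) * h⁻¹ = sc c * (h * l σ * h⁻¹) := by
      rw [← mul_assoc, ← sc_comm c h]; group
    rw [e]
    exact L.sc_mul ⟨h1 _ (hl σ).mem, rfl⟩ hc
  have hmul : ∀ σ τ, f (σ * τ) = f σ * f τ := by
    intro σ τ
    have e1 := hf _ _ ((hl σ).mul (hl τ))
    have e2 := (hf _ _ (hl σ)).mul (hf _ _ (hl τ))
    have e3 : h * (l σ * l τ) * h⁻¹ = h * l σ * h⁻¹ * (h * l τ * h⁻¹) := by group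
    rw [e3] at e1
    exact e1.unique e2
  let φ : T →* T := MonoidHom.mk' f hmul
  have hinj : Function.Injective φ := by
    rw [injective_iff_map_eq_one]
    intro σ hσ
    have e1 := hf _ _ (hl σ)
    rw [show f σ = 1 from hσ, L.one_iff] at e1
    obtain ⟨_, c, hc⟩ := e1
    have e2 : l σ = sc c := by
      have : l σ = h⁻¹ * (h * l σ * h⁻¹) * h := by group
      rw [this, hc, mul_assoc, sc_comm, ← mul_assoc, inv_mul_cancel, one_mul]
    have e3 : C.L (l σ) 1 := L.one_iff.2 ⟨(hl σ).mem, c, e2⟩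
    exact (hl σ).unique e3
  have hsurj : Function.Surjective φ := by
    intro τ
    obtain ⟨σ, hσ⟩ := L.of_mem C (h2 _ (hl τ).mem)
    refine ⟨σ, ?_⟩
    have e1 := hf _ _ hσ
    have e2 : h * (h⁻¹ * l τ * h) * h⁻¹ = l τ := by group
    rw [e2] at e1
    exact e1.unique (hl τ)
  exact ⟨MulEquiv.ofBijective φ ⟨hinj, hsurj⟩, fun x σ hx => hf x σ hx⟩

/-- an element acting as an inner automorphism is a scalar times an element of `P` -/
theorem mem_of_inner {h : GL ι F}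
    (hcs : ∀ g ∈ P, (∀ x ∈ P, (g⁻¹ * h) * x * (g⁻¹ * h)⁻¹ * x⁻¹ ∈ scalars ι F) → g⁻¹ * h ∈ scalars ι F)
    {φ : MulAut T} (hφ : ∀ x σ, C.L x σ → C.L (h * x * h⁻¹) (φ σ)) {γ : T} (hγ : ∀ σ, φ σ = γ * σ * γ⁻¹) :
    ∃ g c, C.L g γ ∧ h = g * sc c := by
  obtain ⟨g, hg⟩ := C.exists_lift γ
  have h1 : g⁻¹ * h ∈ scalars ι F := by
    refine hcs g hg.mem fun x hx => ?_
    obtain ⟨σ, hσ⟩ := L.of_mem C hx
    have h2 : C.L ((g⁻¹ * h) * x * (g⁻¹ * h)⁻¹ * x⁻¹) 1 := by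
      have h3 := (((hφ _ _ hσ).conj hg.inv)).mul hσ.inv
      have e1 : γ⁻¹ * φ σ * γ⁻¹⁻¹ * σ⁻¹ = 1 := by rw [hγ]; group
      rw [e1] at h3
      have e2 : g⁻¹ * (h * x * h⁻¹) * g⁻¹⁻¹ * x⁻¹ = (g⁻¹ * h) * x * (g⁻¹ * h)⁻¹ * x⁻¹ := by group
      rwa [e2] at h3
    obtain ⟨_, c, hc⟩ := L.one_iff.1 h2
    exact mem_scalars.2 ⟨c, hc⟩
  obtain ⟨c, hc⟩ := mem_scalars.1 h1
  exact ⟨g, c, hg, by rw [← hc]; group⟩

end Cov

/-- Transfer -/
theorem pow_index_mem {Γ : Type*} [Group Γ] [Finite Γ] (hL : commutator Γ = ⊤) (S : Subgroup Γ)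
    (hS : ∀ x ∈ S, ∀ y ∈ S, x * y = y * x) {z : Γ} (_hzS : z ∈ S) (hz : ∀ x, z * x = x * z) : z ^ S.index = 1 := by
  classical
  let _ : CommGroup S := { (inferInstance : Group S) with mul_comm := fun a b => Subtype.ext (hS a a.2 b b.2) }
  let f : Γ →* S := MonoidHom.transfer (MonoidHom.id S)
  have h1 : ∀ g, f g = 1 := by
    intro g
    have h2 : commutator Γ ≤ f.ker := Abelianization.commutator_subset_ker f
    rw [hL] at h2
    exact h2 (Subgroup.mem_top g)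
  have h3 := MonoidHom.transfer_eq_pow (MonoidHom.id S) z (by
    intro k g _
    rw [mul_assoc, (show Commute (z ^ k) g from (show Commute z g from hz g).pow_left k).eq, ← mul_assoc,
      inv_mul_cancel, one_mul])
  have h4 := h1 z
  change MonoidHom.transfer (MonoidHom.id S) z = 1 at h4
  rw [h3] at h4
  exact congrArg Subtype.val h4

end Cfsg.Agent.H913.N6
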