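import Cfsg.Agent.H913.N6Type

/-!
# The dichotomy for overgroups of a cover of `PSL_3(4)` (helper913)
-/

set_option autoImplicit false
set_option linter.unusedSectionVars false

namespace Cfsg.Agent.H913.N6

open Cfsg Cfsg.Geo Matrix
open Module (Basis)
open Cfsg.Agent.H915.LD (Core Soc toSoc tr)
open Cfsg.Agent.H906.SL3Par Cfsg.Agent.H906.L34 Cfsg.Agent.H906.T14
open scoped Pointwise

variable {ι : Type} [Fintype ι] [DecidableEq ι] {F : Type*} [Field F] {P H A : Subgroup (GL ι F)}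
  {T : Type*} [Group T] {C : Cov P T}

/-- `h` normalises `P` and acts on `T` as `φ` -/
def HA (C : Cov P T) (h : GL ι F) (φ : MulAut T) : Prop := ∀ x σ, C.L x σ → C.L (h * x * h⁻¹) (φ σ)

theorem HA.inv {h : GL ι F} {φ : MulAut T} (hh : HA C h φ) : HA C h⁻¹ φ⁻¹ := by
  intro x σ hx
  obtain ⟨y, hy⟩ := C.exists_lift (φ⁻¹ σ)
  have h1 := hh y _ hy
  rw [MulAut.apply_inv_self] at h1
  obtain ⟨c, hc, hx'⟩ := hx.exists_sc h1
  have e : h⁻¹ * x * h⁻¹⁻¹ = sc c * y := by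
    rw [hx', inv_inv]
    calc h⁻¹ * (sc c * (h * y * h⁻¹)) * h = (h⁻¹ * sc c) * (h * y * h⁻¹) * h := by group
      _ = (sc c * h⁻¹) * (h * y * h⁻¹) * h := by rw [sc_comm c h⁻¹]
      _ = sc c * y := by group
  rw [e]
  exact hy.sc_mul hc

theorem HA.mul {h h' : GL ι F} {φ φ' : MulAut T} (hh : HA C h φ) (hh' : HA C h' φ') : HA C (h * h') (φ * φ') := by
  intro x σ hx
  have h1 := hh _ _ (hh' _ _ hx)
  have e : h * (h' * x * h'⁻¹) * h⁻¹ = h * h' * x * (h * h')⁻¹ := by group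
  rw [e] at h1
  exact h1

theorem HA.of_L {p : GL ι F} {γ : T} (hp : C.L p γ) : HA C p (MulAut.conj γ) := by
  intro x σ hx
  exact hx.conj hp

theorem dd_aut {h : GL ι F} {φ : MulAut T} (hh : HA C h φ) {R R' : Subgroup T} (hR : φ • R = R') {x : GL ι F}
    (hx : x ∈ DD C R) : h * x * h⁻¹ ∈ DD C R' := by
  obtain ⟨r, hr, hx⟩ := hx
  refine ⟨φ r, ?_, hh _ _ hx.1, ?_⟩
  · rw [← hR]; exact Subgroup.smul_mem_pointwise_smul r φ R hr
  · calc h * x * h⁻¹ * (h * x * h⁻¹) = h * (x * x) * h⁻¹ := by group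
      _ = 1 := by rw [hx.2]; group

theorem line_of_eig {b : Basis (Fin 6) F (ι → F)} {D : Set (GL ι F)} (hb : Frm b D) (h2 : (2 : F) ≠ 0) {v : ι → F}
    (hv0 : v ≠ 0) (h1 : ∀ z ∈ D, ∃ u : ℤˣ, ap z v = sg F u • v) : ∃ (j : Fin 6) (c : F), c ≠ 0 ∧ v = c • b j := by
  classical
  obtain ⟨k, hk⟩ : ∃ k, b.repr v k ≠ 0 := by
    by_contra hcon
    push Not at hcon
    apply hv0
    rw [← b.sum_repr v]
    exact Finset.sum_eq_zero fun k _ => by rw [hcon k, zero_smul]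
  have h5 : ∀ l, l ≠ k → b.repr v l = 0 := by
    intro l hl
    by_contra hne
    obtain ⟨m, hmk, hml⟩ : ∃ m : Fin 6, m ≠ k ∧ m ≠ l := by
      clear * -
      revert k l
      decide +kernel
    obtain ⟨z, hz, hzs⟩ := hb.full (sij k m) (sij_prod hmk.symm)
    obtain ⟨u, hu⟩ := h1 z hz
    have h6 : ∀ t, b.repr (ap z v) t = sg F (sij k m t) * b.repr v t := by
      intro t
      have h7 : ap z v = ∑ t, b.repr v t • ap z (b t) := by
        conv_lhs => rw [← b.sum_repr v]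
        rw [ap_sum]
        refine Finset.sum_congr rfl fun t _ => ?_
        rw [ap_smul]
      rw [h7, map_sum, Finsupp.finset_sum_apply]
      rw [Finset.sum_eq_single t]
      · rw [hzs t, map_smul, map_smul, Finsupp.smul_apply, Finsupp.smul_apply, b.repr_self,
          Finsupp.single_eq_same, smul_eq_mul, smul_eq_mul, mul_one, mul_comm]
      · intro t' _ ht'
        rw [hzs t', map_smul, map_smul, Finsupp.smul_apply, Finsupp.smul_apply, b.repr_self,
          Finsupp.single_eq_of_ne ht'.symm, smul_zero, smul_zero]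
      · intro h; exact absurd (Finset.mem_univ t) h
    have h8 := h6 k
    have h9 := h6 l
    rw [hu, map_smul, Finsupp.smul_apply, smul_eq_mul] at h8 h9
    have e1 : sij k m k = -1 := by simp [sij]
    have e2 : sij k m l = 1 := by simp [sij, hl, hml.symm]
    rw [e1] at h8
    rw [e2] at h9
    have h10 := sg_inj h2 (mul_right_cancel₀ hk h8)
    have h11 := sg_inj h2 (mul_right_cancel₀ hne h9)
    rw [h10] at h11
    exact absurd h11 (by decide)
  refine ⟨k, b.repr v k, hk, ?_⟩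
  conv_lhs => rw [← b.sum_repr v]
  rw [Finset.sum_eq_single k]
  · intro l _ hl
    rw [h5 l hl, zero_smul]
  · intro h; exact absurd (Finset.mem_univ k) h

/-- `h` maps the frame `f` to the frame `f'` -/
def Mon2 (f f' : Fin 6 → ι → F) (h : GL ι F) (σ : Equiv.Perm (Fin 6)) (a : Fin 6 → F) : Prop :=
  ∀ i, a i ≠ 0 ∧ ap h (f i) = a i • f' (σ i)

theorem frame_map {f f' : Basis (Fin 6) F (ι → F)} (h2 : (2 : F) ≠ 0) {R R' : Subgroup T} (hf : Frm f (DD C R))
    (hf' : Frm f' (DD C R')) {h : GL ι F} {φ : MulAut T} (hh : HA C h φ) (hR : φ • R = R') :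
    ∃ σ a, Mon2 f f' h σ a := by
  have hR' : φ⁻¹ • R' = R := by rw [← hR, inv_smul_smul]
  have key : ∀ i, ∃ (j : Fin 6) (c : F), c ≠ 0 ∧ ap h (f i) = c • f' j := by
    intro i
    refine line_of_eig hf' h2 ?_ ?_
    · intro h0
      have h1 : f i = 0 := by
        rw [← ap_one (f i), ← inv_mul_cancel h, ap_mul, h0, ap_zero]
      exact f.ne_zero i h1
    · intro z hz
      have h3 := dd_aut hh.inv hR' hz
      rw [inv_inv] at h3
      obtain ⟨s, -, hs⟩ := hf.diag _ h3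
      refine ⟨s i, ?_⟩
      have e1 : z * h = h * (h⁻¹ * z * h) := by group
      rw [← ap_mul, e1, ap_mul, hs i, ap_smul]
  choose σ a hσ using key
  have hinj : Function.Injective σ := by
    intro i j hij
    by_contra hne
    have e1 := (hσ i).2
    have e2 := (hσ j).2
    rw [hij] at e1
    have e3 : ap h (a j • f i) = ap h (a i • f j) := by
      rw [ap_smul, ap_smul, e1, e2, smul_smul, smul_smul, mul_comm]
    exact hne (b_line (hσ j).1 (ap_cancel e3))
  exact ⟨Equiv.ofBijective σ (Finite.injective_iff_bijective.1 hinj), a, fun i => hσ i⟩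

theorem conj_smul_self {R : Subgroup T} {ρ : T} (hρ : ρ ∈ R) : MulAut.conj ρ • R = R := by
  apply le_antisymm
  · rintro _ ⟨r, hr, rfl⟩
    exact R.mul_mem (R.mul_mem hρ hr) (R.inv_mem hρ)
  · intro r hr
    refine ⟨ρ⁻¹ * r * ρ, R.mul_mem (R.mul_mem (R.inv_mem hρ) hr) hρ, ?_⟩
    change ρ * (ρ⁻¹ * r * ρ) * ρ⁻¹ = r
    group

theorem smul_sup_top {R R' : Subgroup T} (h : R ⊔ R' = ⊤) (φ : MulAut T) : φ • R ⊔ φ • R' = ⊤ := by
  have h1 : φ • (R ⊔ R') = φ • R ⊔ φ • R' := Subgroup.smul_sup φ R R'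
  rw [← h1, h]
  apply top_le_iff.1
  intro x _
  refine ⟨φ⁻¹ x, Subgroup.mem_top _, ?_⟩
  change φ (φ⁻¹ x) = x
  exact MulAut.apply_inv_self _ _ _

section KK

variable {K : Type*} [Field K] [Fintype K] {C : Cov P (PT K)}

theorem card_smul (φ : MulAut (PT K)) (R : Subgroup (PT K)) : Nat.card (φ • R : Subgroup (PT K)) = Nat.card R :=
  Nat.card_congr (Subgroup.equivSMul φ R).toEquiv.symm

theorem sq_smul {R : Subgroup (PT K)} (hR : ∀ r ∈ R, r * r = 1) (φ : MulAut (PT K)) :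
    ∀ z ∈ (φ • R : Subgroup (PT K)), z * z = 1 := by
  rintro _ ⟨r, hr, rfl⟩
  change φ r * φ r = 1
  rw [← map_mul, hR r hr, map_one]

theorem class_smul (hK : Fintype.card K = 4) {R : Subgroup (PT K)} (hR : R = Rl K ∨ R = Rq K) (φ : MulAut (PT K)) :
    ∃ γ : PT K, MulAut.conj γ • φ • R = Rl K ∨ MulAut.conj γ • φ • R = Rq K := by
  refine rad_class hK _ ?_ ?_
  · rw [card_smul]
    rcases hR with rfl | rfl
    · exact (rad_l hK).card
    · exact (rad_q hK).card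
  · apply sq_smul
    rcases hR with rfl | rfl
    · rintro _ ⟨_, ⟨b, c, rfl⟩, rfl⟩
      rw [← map_mul, uni_sq hK, map_one]
    · rintro _ ⟨_, ⟨b, c, rfl⟩, rfl⟩
      rw [← map_mul, low_sq hK, map_one]

/-- an element acting, swapping the two types -/
theorem exists_swap (hK : Fintype.card K = 4) (S : Setup P C (TVK K)) (hPH : P ≤ H) {h : GL ι F} {φ : MulAut (PT K)}
    (hhH : h ∈ H) (hh : HA C h φ) (hno : ∀ γ : PT K, MulAut.conj γ • φ • Rq K ≠ Rq K) :
    ∃ h' ∈ H, ∃ φ' : MulAut (PT K), HA C h' φ' ∧ φ' • Rl K = Rq K ∧ φ' • Rq K = Rl K := by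
  obtain ⟨γ, hγ⟩ := class_smul hK (Or.inr rfl) φ
  have hγ := hγ.resolve_right (hno γ)
  obtain ⟨q, hq⟩ := C.exists_lift γ
  have h1 := (HA.of_L hq).mul hh
  set φ1 := MulAut.conj γ * φ with hφ1
  have e1 : φ1 • Rq K = Rl K := by rw [hφ1, mul_smul, hγ]
  obtain ⟨δ, hδ⟩ := class_smul hK (Or.inl rfl) φ1
  have hδ' : MulAut.conj δ • φ1 • Rl K = Rq K := by
    rcases hδ with hδ | hδ
    · exfalso
      -- `R_l` would be conjugate to `R_q`
      have e2 : MulAut.conj (φ1⁻¹ δ) • Rl K = Rq K := by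
        have e3 : MulAut.conj (φ1⁻¹ δ) = φ1⁻¹ * MulAut.conj δ * φ1 := by
          ext x
          simp [MulAut.conj_apply]
        rw [e3, mul_smul, mul_smul, hδ, ← e1, inv_smul_smul]
      refine not_conj (φ1⁻¹ δ) fun r hr => ?_
      rw [← e2]
      exact Subgroup.smul_mem_pointwise_smul r _ (Rl K) hr
    · exact hδ
  have e2 : φ1 • Rl K = MulAut.conj δ⁻¹ • Rq K := by
    rw [← hδ', map_inv, inv_smul_smul]
  have e3 : Rl K ⊔ MulAut.conj δ⁻¹ • Rq K = ⊤ := by
    rw [← e2, sup_comm]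
    have := smul_sup_top (T := PT K) (R := Rl K) (R' := Rq K) gen_lq φ1
    rwa [e1] at this
  obtain ⟨ρ, hρ, hρ'⟩ := opp hK δ⁻¹ e3
  obtain ⟨r, hr⟩ := C.exists_lift ρ
  refine ⟨r * (q * h), H.mul_mem (hPH hr.mem) (H.mul_mem (hPH hq.mem) hhH), _, (HA.of_L hr).mul h1, ?_, ?_⟩
  · rw [mul_smul, e2, hρ']
  · rw [mul_smul, e1, conj_smul_self hρ]

end KK

end Cfsg.Agent.H913.N6
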