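import Cfsg.Agent.H913.N6Max
import Cfsg.Agent.H913.GeoBasic
import Cfsg.Agent.H918.Six.Asm

/-!
# Maximal overgroups of `6.L_3(4)` in dimension six (helper913)

`sl_kill` : the congruence for the linear group; `su_kill` : the congruence for the unitary group.
-/

set_option autoImplicit false
set_option linter.unusedSectionVars false

namespace Cfsg.Agent.H913.N6

open Cfsg Cfsg.Geo Matrix
open Module (Basis)
open Cfsg.Agent.H915.LD (Core Soc toSoc tr)
open Cfsg.Agent.H918.Six (IsL34 nsc)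
open GeoBasic (mem_GU_iff mem_specialLinear_iff)

universe u

variable {F : Type u} [Field F]

/-- six scalars: `-1 ∈ P` and `2 ≠ 0` -/
theorem neg_of_six {P : Subgroup (GL (Fin 6) F)} (h : Nat.card ((scalars (Fin 6) F).subgroupOf P) = 6) :
    (m1 : GL (Fin 6) F) ∈ P ∧ (2 : F) ≠ 0 := by
  have : Fact (Nat.Prime 2) := ⟨Nat.prime_two⟩
  have hfin : Finite ((scalars (Fin 6) F).subgroupOf P) := Nat.finite_of_card_ne_zero (by rw [h]; norm_num)
  obtain ⟨z, hz⟩ := exists_prime_orderOf_dvd_card' (G := (scalars (Fin 6) F).subgroupOf P) 2 (by rw [h]; norm_num)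
  obtain ⟨c, hc⟩ := mem_scalars.1 (Subgroup.mem_subgroupOf.1 z.2)
  have h1 : z ^ 2 = 1 := by rw [← hz]; exact pow_orderOf_eq_one z
  have h2 : z ≠ 1 := by
    rintro rfl
    rw [orderOf_one] at hz
    norm_num at hz
  have h3 : sc (c ^ 2) = (1 : GL (Fin 6) F) := by
    rw [sc_pow, ← hc]
    have := congrArg (fun t => ((t : P) : GL (Fin 6) F)) (congrArg Subtype.val h1)
    exact this
  have h4 : c ^ 2 = 1 := by apply sc_inj (ι := Fin 6); rw [h3, sc_one]
  have h5 : c ≠ 1 := by
    rintro rfl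
    apply h2
    apply Subtype.ext
    apply Subtype.ext
    rw [hc, sc_one]
    rfl
  have h6 : ((c : F) - 1) * ((c : F) + 1) = 0 := by
    have h7 : ((c ^ 2 : Fˣ) : F) = 1 := by rw [h4]; rfl
    rw [Units.val_pow_eq_pow_val] at h7
    linear_combination h7
  have h7 : c = -1 := by
    rcases mul_eq_zero.1 h6 with h8 | h8
    · exact absurd (Units.ext (by rw [Units.val_one]; linear_combination h8)) h5
    · exact Units.ext (by rw [Units.val_neg, Units.val_one]; linear_combination h8)
  refine ⟨?_, ?_⟩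
  · rw [m1, ← h7, ← hc]; exact z.1.2
  · intro h8
    apply h5
    rw [h7]
    exact Units.ext (by rw [Units.val_neg, Units.val_one]; linear_combination -h8)

theorem det_of_core {P : Subgroup (GL (Fin 6) F)} [Fintype F] (hC : Core P) :
    ∀ x ∈ P, (x : Matrix (Fin 6) (Fin 6) F).det = 1 := by
  intro x hx
  have := hC.det hx
  have h1 := congrArg Units.val this
  simpa using h1

theorem pow_of_core {P : Subgroup (GL (Fin 6) F)} [Fintype F] (hC : Core P) :
    ∀ c : Fˣ, sc c ∈ P → c ^ 6 = 1 := by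
  intro c hc
  have h1 := det_of_core hC _ hc
  rw [coe_sc, Matrix.det_smul, Matrix.det_one, mul_one, Fintype.card_fin] at h1
  exact Units.ext (by rw [Units.val_pow_eq_pow_val, h1]; rfl)

/-- **The linear case.** -/
theorem sl_kill [Fintype F] {p : ℕ} [hp : Fact p.Prime] [CharP F p] {H P : Subgroup (GL (Fin 6) F)}
    (hmax : IsMaximalIn (specialLinear (Fin 6) F) H) (hP : IsResidualCore H P) (hT : IsL34 (Soc P))
    (h6 : nsc P = 6) (hF : Fintype.card F = p) (hp3 : p % 3 = 1) : p % 8 = 1 ∨ p % 8 = 3 := by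
  obtain ⟨K, i1, i2, hK, ⟨e⟩⟩ := hT
  have hC := H915.LD.core_of_residual hP
  obtain ⟨hneg, h2⟩ := neg_of_six h6
  have h3 : (3 : F) ≠ 0 := by
    intro h
    have h4 : ((3 : ℕ) : F) = 0 := by exact_mod_cast h
    rw [CharP.cast_eq_zero_iff F p, Nat.prime_dvd_prime_iff_eq hp.out Nat.prime_three] at h4
    omega
  have S : Setup P (Cov.of e) (TVK K) := setupK hK h2 (Fintype.card_fin 6) (pow_of_core hC) hneg
  obtain ⟨b, g, θ, W⟩ := exists_two hK S (det_of_core hC)
  obtain ⟨h, hh, σ, x, hx, hdet⟩ := exists_det hK S h3 W hmax hP.le hP.normal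
    (fun x hx _ _ _ _ _ _ => (mem_specialLinear_iff x).2 hx) (fun x hx _ _ _ _ _ _ => (mem_specialLinear_iff x).2 hx)
  have hd1 : (h : Matrix (Fin 6) (Fin 6) F).det = 1 := (mem_specialLinear_iff h).1 (hmax.1.le hh)
  rw [hd1] at hdet
  have hsq : IsSquare (-2 : F) := by
    refine ⟨(16 * x 0 ^ 3)⁻¹, ?_⟩
    rw [← mul_inv]
    refine eq_inv_of_mul_eq_one_left ?_
    linear_combination -hdet
  rw [FiniteField.isSquare_neg_two_iff, hF] at hsq
  have hp2 : p % 2 = 1 := by
    rcases hp.out.eq_two_or_odd with h | h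
    · subst h; omega
    · exact h
  omega

/-! ### the unitary case -/

section SU

variable [Fintype F] {p : ℕ} [hp : Fact p.Prime] [CharP F p]

theorem hf_add_left (u v w : Fin 6 → F) : hermForm 6 F p (u + v) w = hermForm 6 F p u w + hermForm 6 F p v w := by
  simp only [hermForm, Pi.add_apply, add_mul, Finset.sum_add_distrib]

theorem hf_smul_left (c : F) (u w : Fin 6 → F) : hermForm 6 F p (c • u) w = c * hermForm 6 F p u w := by
  simp only [hermForm, Pi.smul_apply, smul_eq_mul, Finset.mul_sum, mul_assoc]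

theorem hf_add_right (u v w : Fin 6 → F) : hermForm 6 F p u (v + w) = hermForm 6 F p u v + hermForm 6 F p u w := by
  simp only [hermForm, Pi.add_apply, add_pow_char, mul_add, Finset.sum_add_distrib]

theorem hf_smul_right (c : F) (u w : Fin 6 → F) : hermForm 6 F p u (c • w) = c ^ p * hermForm 6 F p u w := by
  simp only [hermForm, Pi.smul_apply, smul_eq_mul, mul_pow, Finset.mul_sum]
  exact Finset.sum_congr rfl fun i _ => by ring

/-- the form in a basis -/
theorem hf_basis (b : Basis (Fin 6) F (Fin 6 → F)) (g : GL (Fin 6) F)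
    (h : ∀ i j, hermForm 6 F p (ap g (b i)) (ap g (b j)) = hermForm 6 F p (b i) (b j)) : g ∈ GU 6 F p := by
  rw [mem_GU_iff]
  have hs : ∀ (c d : Fin 6 → F) (v w : Fin 6 → Fin 6 → F), hermForm 6 F p (∑ i, c i • v i) (∑ j, d j • w j) =
      ∑ i, ∑ j, c i * (d j) ^ p * hermForm 6 F p (v i) (w j) := by
    intro c d v w
    have hl : ∀ (s : Finset (Fin 6)) (u : Fin 6 → F), hermForm 6 F p (∑ i ∈ s, c i • v i) u =
        ∑ i ∈ s, c i * hermForm 6 F p (v i) u := by
      intro s u
      induction s using Finset.induction_on with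
      | empty => simp [hermForm]
      | insert a s ha ih => rw [Finset.sum_insert ha, Finset.sum_insert ha, hf_add_left, hf_smul_left, ih]
    have hr : ∀ (s : Finset (Fin 6)) (u : Fin 6 → F), hermForm 6 F p u (∑ i ∈ s, d i • w i) =
        ∑ i ∈ s, (d i) ^ p * hermForm 6 F p u (w i) := by
      intro s u
      induction s using Finset.induction_on with
      | empty => simp [hermForm, hp.out.ne_zero]
      | insert a s ha ih => rw [Finset.sum_insert ha, Finset.sum_insert ha, hf_add_right, hf_smul_right, ih]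
    rw [hl]
    refine Finset.sum_congr rfl fun i _ => ?_
    rw [hr, Finset.mul_sum]
    exact Finset.sum_congr rfl fun j _ => by ring
  intro u v
  have e1 : ∀ w : Fin 6 → F, (g : Matrix (Fin 6) (Fin 6) F) *ᵥ w = ∑ i, b.repr w i • ap g (b i) := by
    intro w
    conv_lhs => rw [← b.sum_repr w]
    change ap g _ = _
    rw [ap_sum]
    exact Finset.sum_congr rfl fun i _ => by rw [ap_smul]
  rw [e1 u, e1 v, hs]
  conv_rhs => rw [← b.sum_repr u, ← b.sum_repr v, hs]
  exact Finset.sum_congr rfl fun i _ => Finset.sum_congr rfl fun j _ => by rw [h]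

/-- **The unitary case.** -/
theorem su_kill {q : ℕ} (hF : Fintype.card F = q ^ 2) {H P : Subgroup (GL (Fin 6) F)}
    (hmax : IsMaximalIn (GU 6 F q ⊓ specialLinear (Fin 6) F) H) (hP : IsResidualCore H P) (hT : IsL34 (Soc P))
    (h6 : nsc P = 6) (hq : q = p) (hp3 : p % 3 = 2) : p % 8 = 5 ∨ p % 8 = 7 := by
  subst hq
  obtain ⟨K, i1, i2, hK, ⟨e⟩⟩ := hT
  have hC := H915.LD.core_of_residual hP
  obtain ⟨hneg, h2⟩ := neg_of_six h6
  have h3 : (3 : F) ≠ 0 := by
    intro h
    have h4 : ((3 : ℕ) : F) = 0 := by exact_mod_cast h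
    rw [CharP.cast_eq_zero_iff F q, Nat.prime_dvd_prime_iff_eq hp.out Nat.prime_three] at h4
    omega
  have hodd : q % 2 = 1 := by
    rcases hp.out.eq_two_or_odd with h | h
    · exfalso
      apply h2
      have := CharP.cast_eq_zero F q
      rw [h] at this
      exact_mod_cast this
    · exact h
  have hoddq : Odd q := Nat.odd_iff.2 hodd
  have S : Setup P (Cov.of e) (TVK K) := setupK hK h2 (Fintype.card_fin 6) (pow_of_core hC) hneg
  obtain ⟨b, g, θ, W⟩ := exists_two hK S (det_of_core hC)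
  have hPU : ∀ x ∈ P, ∀ u v : Fin 6 → F, hermForm 6 F q (ap x u) (ap x v) = hermForm 6 F q u v := by
    intro x hx
    exact (mem_GU_iff x).1 (hmax.1.le (hP.le hx)).1
  -- orthogonality
  have hort : ∀ i j : Fin 6, i ≠ j → hermForm 6 F q (b i) (b j) = 0 := by
    intro i j hij
    obtain ⟨k, hki, hkj⟩ : ∃ k : Fin 6, k ≠ i ∧ k ≠ j := by
      clear * -
      revert i j
      decide +kernel
    obtain ⟨x, ⟨r, hr, hx⟩, hxs⟩ := W.hb.full (sij i k) (sij_prod (Ne.symm hki))
    have h1 := hPU x hx.1.mem (b i) (b j)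
    rw [hxs i, hxs j, hf_smul_left, hf_smul_right, show sij i k i = -1 by simp [sij],
      show sij i k j = 1 by simp [sij, hij.symm, hkj.symm], sg_neg_one, sg_one, one_pow, one_mul] at h1
    have h4 : 2 * hermForm 6 F q (b i) (b j) = 0 := by linear_combination -h1
    exact (mul_eq_zero.1 h4).resolve_left h2
  obtain ⟨n, hn, m, hm, x, hx, nf⟩ := W.nf
  have hc := P.mul_mem hn hm
  have q12 : hermForm 6 F q (b 2) (b 2) = hermForm 6 F q (b 1) (b 1) := by
    have := hPU _ hc (b 1) (b 1); rwa [nf.c1] at this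
  have q23 : hermForm 6 F q (b 3) (b 3) = hermForm 6 F q (b 2) (b 2) := by
    have := hPU _ hc (b 2) (b 2); rwa [nf.c2] at this
  have q34 : hermForm 6 F q (b 4) (b 4) = hermForm 6 F q (b 3) (b 3) := by
    have := hPU _ hc (b 3) (b 3); rwa [nf.c3] at this
  have q45 : hermForm 6 F q (b 5) (b 5) = hermForm 6 F q (b 4) (b 4) := by
    have := hPU _ hc (b 4) (b 4); rwa [nf.c4] at this
  have q01 : hermForm 6 F q (b 1) (b 1) = hermForm 6 F q (b 0) (b 0) := by
    have := hPU _ hx (b 0) (b 0); rwa [nf.x0] at this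
  obtain ⟨h0, hh0⟩ : ∃ h0, hermForm 6 F q (b 0) (b 0) = h0 := ⟨_, rfl⟩
  have hdiag : ∀ i, hermForm 6 F q (b i) (b i) = h0 := by
    intro i
    fin_cases i
    · exact hh0
    · exact q01.trans hh0
    · exact q12.trans (q01.trans hh0)
    · exact q23.trans (q12.trans (q01.trans hh0))
    · exact q34.trans (q23.trans (q12.trans (q01.trans hh0)))
    · exact q45.trans (q34.trans (q23.trans (q12.trans (q01.trans hh0))))
  have hB : ∀ i j : Fin 6, hermForm 6 F q (b i) (b j) = if i = j then h0 else 0 := by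
    intro i j
    split_ifs with h
    · subst h; exact hdiag i
    · exact hort i j h
  -- Frobenius
  have fr2 : (2 : F) ^ q = 2 := by
    have := map_ofNat (frobenius F q) 2
    rwa [frobenius_def] at this
  have fr3 : (-3 : F) ^ q = -3 := by
    have : (frobenius F q) (-3) = -3 := by rw [map_neg, map_ofNat]
    rwa [frobenius_def] at this
  have frn : (-1 : F) ^ q = -1 := hoddq.neg_one_pow
  have fr2i : ((2 : F)⁻¹) ^ q = 2⁻¹ := by rw [inv_pow, fr2]
  have hθ := W.hθ
  have hθq : θ ^ q = -θ := by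
    have e1 : θ ^ q * θ ^ q = -3 := by rw [← mul_pow, hθ, fr3]
    have e2 : (θ ^ q - θ) * (θ ^ q + θ) = 0 := by linear_combination e1 - hθ
    rcases mul_eq_zero.1 e2 with e3 | e3
    · exfalso
      have e4 : θ ^ q = θ := by linear_combination e3
      obtain ⟨w, hw⟩ : ∃ w, w = 2⁻¹ * (θ - 1) := ⟨_, rfl⟩
      have hw2 : 2 * w = θ - 1 := by rw [hw, ← mul_assoc, mul_inv_cancel₀ h2, one_mul]
      have h4 : (4 : F) ≠ 0 := by
        have : (4 : F) = 2 ^ 2 := by norm_num
        rw [this]; exact pow_ne_zero 2 h2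
      have e5 : w ^ 2 + w + 1 = 0 := by
        apply mul_left_cancel₀ h4
        linear_combination (2 * w + θ - 1 + 2) * hw2 + hθ
      have e6 : w ^ 3 = 1 := by linear_combination (w - 1) * e5
      have e7 : w ^ q = w := by
        rw [hw, mul_pow, fr2i, sub_pow_char, e4, one_pow]
      have e8 : w ^ q = w ^ 2 := by
        obtain ⟨k, hk⟩ : ∃ k, q = 3 * k + 2 := ⟨q / 3, by omega⟩
        rw [hk, pow_add, pow_mul, e6, one_pow, one_mul]
      have e9 : w * (w - 1) = 0 := by linear_combination e7 - e8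
      rcases mul_eq_zero.1 e9 with e10 | e10
      · rw [e10] at e6; norm_num at e6
      · have e11 : w = 1 := by linear_combination e10
        rw [e11] at e5
        exact h3 (by linear_combination e5)
    · linear_combination e3
  -- diagonal expansion
  have hsum : ∀ c d : Fin 6 → F, hermForm 6 F q (∑ i, c i • b i) (∑ j, d j • b j) = (∑ i, c i * d i ^ q) * h0 := by
    intro c d
    have hl : ∀ (s : Finset (Fin 6)) (u : Fin 6 → F), hermForm 6 F q (∑ i ∈ s, c i • b i) u =
        ∑ i ∈ s, c i * hermForm 6 F q (b i) u := by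
      intro s u
      induction s using Finset.induction_on with
      | empty => simp [hermForm]
      | insert a s ha ih => rw [Finset.sum_insert ha, Finset.sum_insert ha, hf_add_left, hf_smul_left, ih]
    have hr : ∀ (s : Finset (Fin 6)) (u : Fin 6 → F), hermForm 6 F q u (∑ i ∈ s, d i • b i) =
        ∑ i ∈ s, (d i) ^ q * hermForm 6 F q u (b i) := by
      intro s u
      induction s using Finset.induction_on with
      | empty => simp [hermForm, hp.out.ne_zero]
      | insert a s ha ih => rw [Finset.sum_insert ha, Finset.sum_insert ha, hf_add_right, hf_smul_right, ih]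
    rw [hl, Finset.sum_mul]
    refine Finset.sum_congr rfl fun i _ => ?_
    rw [hr, Finset.sum_eq_single i]
    · rw [hB, if_pos rfl]; ring
    · intro k _ hk
      rw [hB, if_neg (Ne.symm hk), mul_zero]
    · intro h; exact absurd (Finset.mem_univ _) h
  have hh0' : h0 ≠ 0 := by
    intro h
    have e1 : ∀ u : Fin 6 → F, hermForm 6 F q u u = 0 := by
      intro u
      rw [← b.sum_repr u, hsum, h, mul_zero]
    have e2 := e1 (Pi.single 0 1)
    rw [hermForm, Fin.sum_univ_six] at e2
    simp [hp.out.ne_zero] at e2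
  -- the elements
  obtain ⟨h, hh, σ, x, hx, hdet⟩ := exists_det hK S h3 W hmax hP.le hP.normal
    (fun y d y0 y1 y2 y3 y4 y5 => ⟨hf_basis b y (fun i j => by
      have hyb : ∀ i, ap y (b i) = b (cyc i) := by
        intro i
        fin_cases i
        · exact y0
        · exact y1
        · exact y2
        · exact y3
        · exact y4
        · exact y5
      rw [hyb, hyb, hB, hB]
      by_cases hij : i = j
      · rw [if_pos hij, if_pos (congrArg cyc hij)]
      · rw [if_neg hij, if_neg (fun h => hij (cyc.injective h))]), (mem_specialLinear_iff y).2 d⟩)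
    (fun y d y0 y1 y2 y3 y4 y5 => ⟨hf_basis b y (fun i j => by
      have z0 : ap y (b 0) = ∑ i, (![2⁻¹ * θ, -2⁻¹, 0, 0, 0, 0] : Fin 6 → F) i • b i := by
        rw [y0, Fin.sum_univ_six]; simp; module
      have z1 : ap y (b 1) = ∑ i, (![2⁻¹, -(2⁻¹ * θ), 0, 0, 0, 0] : Fin 6 → F) i • b i := by
        rw [y1, Fin.sum_univ_six]; simp; module
      have z2 : ap y (b 2) = ∑ i, (![0, 0, 1, 0, 0, 0] : Fin 6 → F) i • b i := by
        rw [y2, Fin.sum_univ_six]; simp
      have z3 : ap y (b 3) = ∑ i, (![0, 0, 0, 1, 0, 0] : Fin 6 → F) i • b i := by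
        rw [y3, Fin.sum_univ_six]; simp
      have z4 : ap y (b 4) = ∑ i, (![0, 0, 0, 0, 1, 0] : Fin 6 → F) i • b i := by
        rw [y4, Fin.sum_univ_six]; simp
      have z5 : ap y (b 5) = ∑ i, (![0, 0, 0, 0, 0, 1] : Fin 6 → F) i • b i := by
        rw [y5, Fin.sum_univ_six]; simp
      have c0 : (2⁻¹ * θ) ^ q = -(2⁻¹ * θ) := by rw [mul_pow, fr2i, hθq]; ring
      have c1 : (-2⁻¹ : F) ^ q = -2⁻¹ := by rw [← neg_one_mul, mul_pow, frn, fr2i]
      have c2 : (-(2⁻¹ * θ)) ^ q = 2⁻¹ * θ := by rw [← neg_one_mul, mul_pow, frn, c0]; ring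
      have hq0 : q ≠ 0 := hp.out.ne_zero
      have i4 : (2 : F)⁻¹ * 2⁻¹ * 4 = 1 := by
        have : (4 : F) = 2 * 2 := by norm_num
        rw [this]; field_simp
      fin_cases i <;> fin_cases j
      all_goals
        simp only [Fin.mk_zero, Fin.mk_one, Fin.zero_eta, Fin.reduceFinMk]
        first
        | rw [z0] | rw [z1] | rw [z2] | rw [z3] | rw [z4] | rw [z5]
        try first
        | rw [z0] | rw [z1] | rw [z2] | rw [z3] | rw [z4] | rw [z5]
        rw [hsum, Fin.sum_univ_six, hB]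
        simp [c0, c1, c2, fr2i, hq0]
      · linear_combination (-(2 : F)⁻¹ * 2⁻¹ * h0) * hθ + h0 * i4
      · left; ring
      · left; ring
      · linear_combination (-(2 : F)⁻¹ * 2⁻¹ * h0) * hθ + h0 * i4), (mem_specialLinear_iff y).2 d⟩)
  have hd1 : (h : Matrix (Fin 6) (Fin 6) F).det = 1 := (mem_specialLinear_iff h).1 (hmax.1.le hh).2
  rw [hd1] at hdet
  have hfh : hermForm 6 F q (ap h (b 0)) (ap h (b 0)) = hermForm 6 F q (b 0) (b 0) :=
    (mem_GU_iff h).1 (hmax.1.le hh).1 _ _
  have hgg : ∀ i, hermForm 6 F q (g i) (g i) = 8 * h0 := by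
    intro i
    rw [cmb_sum' W.cmb i, hsum]
    congr 1
    rw [Fin.sum_univ_six]
    fin_cases i <;> simp [Gf, Cz, hθq, frn] <;> linear_combination -hθ
  rw [(hx 0).2, hf_smul_left, hf_smul_right, hgg, hh0] at hfh
  have e1 : 8 * x 0 ^ (q + 1) = 1 := by
    apply mul_right_cancel₀ hh0'
    rw [one_mul]
    conv_rhs => rw [← hfh]
    ring
  by_contra hcon
  push Not at hcon
  have hq2 : q ≠ 2 := by rintro rfl; omega
  have hmod : q % 8 = 1 ∨ q % 8 = 3 := by omega
  obtain ⟨s0, hs0⟩ := (ZMod.exists_sq_eq_neg_two_iff hq2).2 hmod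
  obtain ⟨s, hs⟩ : ∃ s, s = ZMod.castHom (dvd_refl q) F s0 := ⟨_, rfl⟩
  have hs2 : s * s = -2 := by
    rw [hs, ← map_mul, ← hs0, map_neg, map_ofNat]
  have hsq : s ^ q = s := by
    rw [hs, ← map_pow, ZMod.pow_card]
  have hu6 : (2 * x 0 * s) ^ 6 = 1 := by
    have e2 : s ^ 6 = -8 := by
      calc s ^ 6 = (s * s) * (s * s) * (s * s) := by ring
        _ = -8 := by rw [hs2]; norm_num
    calc (2 * x 0 * s) ^ 6 = 64 * x 0 ^ 6 * s ^ 6 := by ring
      _ = -512 * x 0 ^ 6 := by rw [e2]; ring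
      _ = 1 := hdet.symm
  have hu : (2 * x 0 * s) ^ (q + 1) = 1 := by
    obtain ⟨k, hk⟩ : ∃ k, q + 1 = 6 * k := ⟨(q + 1) / 6, by omega⟩
    rw [hk, pow_mul, hu6, one_pow]
  have e3 : (8 : F) = -8 := by
    calc (8 : F) = 8 * (2 * x 0 * s) ^ (q + 1) := by rw [hu, mul_one]
      _ = (2 ^ q * 2) * (8 * x 0 ^ (q + 1)) * (s ^ q * s) := by rw [mul_pow, mul_pow, pow_succ 2 q, pow_succ s q]; ring
      _ = -8 := by rw [fr2, e1, hsq, hs2]; norm_num
  have e4 : (2 : F) ^ 4 = 0 := by linear_combination e3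
  exact h2 (pow_eq_zero_iff (by norm_num) |>.1 e4)

end SU

end Cfsg.Agent.H913.N6
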