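import Cfsg.Agent.H913.N6Inv

/-!
# The frame of an elementary abelian group of order 16 (helper913)
-/

set_option autoImplicit false
set_option linter.unusedSectionVars false

namespace Cfsg.Agent.H913.N6

open Cfsg Cfsg.Geo Matrix Module
open Cfsg.Agent.H915.LD (Core Soc toSoc tr)

variable {ι : Type} [Fintype ι] [DecidableEq ι] {F : Type*} [Field F] {P H : Subgroup (GL ι F)}
  {T : Type*} [Group T] {C : Cov P T}

/-- a sign as an element of the field -/
def sg (F : Type*) [Field F] (u : ℤˣ) : F := ((u : ℤ) : F)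

@[simp] theorem sg_one : sg F 1 = 1 := by simp [sg]
@[simp] theorem sg_neg_one : sg F (-1) = -1 := by simp [sg]
theorem sg_mul (u v : ℤˣ) : sg F (u * v) = sg F u * sg F v := by simp [sg]
theorem sg_cases (u : ℤˣ) : u = 1 ∨ u = -1 := Int.units_eq_one_or u
theorem sg_sq (u : ℤˣ) : sg F u * sg F u = 1 := by
  rcases sg_cases u with rfl | rfl <;> simp
theorem sg_ne_zero (u : ℤˣ) : sg F u ≠ 0 := by
  rcases sg_cases u with rfl | rfl <;> simp
theorem sg_inj (h2 : (2 : F) ≠ 0) {u v : ℤˣ} (h : sg F u = sg F v) : u = v := by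
  rcases sg_cases u with rfl | rfl <;> rcases sg_cases v with rfl | rfl
  · rfl
  · exfalso; simp at h; exact h2 (by linear_combination h)
  · exfalso; simp at h; exact h2 (by linear_combination -h)
  · rfl

/-- even sign vectors -/
abbrev Ev := {s : Fin 6 → ℤˣ // ∏ i, s i = 1}

theorem card_Ev : Fintype.card Ev = 32 := by decide +kernel

/-- an elementary abelian subgroup of order 16 inside the class -/
structure Rad (TV : Set T) (R : Subgroup T) : Prop where
  card : Nat.card R = 16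
  mem : ∀ r ∈ R, r ≠ 1 → r ∈ TV
  comm : ∀ r ∈ R, ∀ s ∈ R, r * s = s * r

/-- the involutory lifts of the elements of `R` -/
def DD (C : Cov P T) (R : Subgroup T) : Set (GL ι F) := {x | ∃ r ∈ R, IL C x r}

/-- `x` is the sign change `s` in the basis `b` -/
def Sgn (b : Fin 6 → ι → F) (x : GL ι F) (s : Fin 6 → ℤˣ) : Prop := ∀ j, ap x (b j) = sg F (s j) • b j

theorem Sgn.mul {b : Fin 6 → ι → F} {x y : GL ι F} {s t : Fin 6 → ℤˣ} (hx : Sgn b x s) (hy : Sgn b y t) :
    Sgn b (x * y) (s * t) := by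
  intro j
  rw [ap_mul, hy j, ap_smul, hx j, smul_smul, Pi.mul_apply, sg_mul, mul_comm]

theorem Sgn.eq {b : Basis (Fin 6) F (ι → F)} {x y : GL ι F} {s : Fin 6 → ℤˣ} (hx : Sgn b x s) (hy : Sgn b y s) :
    x = y := ap_ext b fun j => by rw [hx j, hy j]

theorem Sgn.unique (h2 : (2 : F) ≠ 0) {b : Basis (Fin 6) F (ι → F)} {x : GL ι F} {s t : Fin 6 → ℤˣ} (hx : Sgn b x s)
    (hy : Sgn b x t) : s = t := by
  funext j
  have h := (hx j).symm.trans (hy j)
  have h1 : (sg F (s j) - sg F (t j)) • b j = 0 := by rw [sub_smul, h, sub_self]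
  rcases smul_eq_zero.1 h1 with h3 | h3
  · exact sg_inj h2 (sub_eq_zero.1 h3)
  · exact absurd h3 (b.ne_zero j)

theorem Sgn.m1 (b : Fin 6 → ι → F) : Sgn b (N6.m1 : GL ι F) (fun _ => -1) := by
  intro j
  rw [ap_m1, sg_neg_one, neg_one_smul]

theorem Sgn.one (b : Fin 6 → ι → F) : Sgn b (1 : GL ι F) 1 := by
  intro j
  rw [ap_one, Pi.one_apply, sg_one, one_smul]

theorem Sgn.tr {b : Basis (Fin 6) F (ι → F)} {x : GL ι F} {s : Fin 6 → ℤˣ} (hx : Sgn b x s) :
    tr x = ∑ j, sg F (s j) := by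
  rw [tr_eq_sum b]
  refine Finset.sum_congr rfl fun j _ => ?_
  rw [hx j, map_smul, Finsupp.smul_apply, b.repr_self, Finsupp.single_eq_same, smul_eq_mul, mul_one]

theorem Sgn.det {b : Basis (Fin 6) F (ι → F)} {x : GL ι F} {s : Fin 6 → ℤˣ} (hx : Sgn b x s) :
    (x : Matrix ι ι F).det = ∏ j, sg F (s j) := by
  rw [det_eq_det b]
  have : (Matrix.of fun i j => b.repr (ap x (b j)) i) = Matrix.diagonal fun j => sg F (s j) := by
    ext i j
    rw [Matrix.of_apply, hx j, map_smul, Finsupp.smul_apply, b.repr_self, smul_eq_mul, Matrix.diagonal_apply,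
      Finsupp.single_apply]
    by_cases h : j = i
    · subst h; simp
    · rw [if_neg h, if_neg (Ne.symm h), mul_zero]
  rw [this, Matrix.det_diagonal]

theorem sg_prod (s : Fin 6 → ℤˣ) : ∏ j, sg F (s j) = sg F (∏ j, s j) := by
  simp only [sg]
  push_cast
  rfl

/-- the frame `b` of a set `D` of sign changes -/
structure Frm (b : Basis (Fin 6) F (ι → F)) (D : Set (GL ι F)) : Prop where
  diag : ∀ x ∈ D, ∃ s : Fin 6 → ℤˣ, ∏ i, s i = 1 ∧ Sgn b x s
  full : ∀ s : Fin 6 → ℤˣ, ∏ i, s i = 1 → ∃ x ∈ D, Sgn b x s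

namespace Setup

variable {TV : Set T} (S : Setup P C TV) {R : Subgroup T}
include S

theorem IL_one_iff {x : GL ι F} : IL C x 1 ↔ x = 1 ∨ x = m1 := by
  have h1 : IL C (1 : GL ι F) 1 := ⟨Cov.L.one, one_mul 1⟩
  constructor
  · intro h
    rcases S.IL_unique h h1 with h | h
    · exact Or.inl h
    · rw [mul_one] at h; exact Or.inr h
  · rintro (rfl | rfl)
    · exact h1
    · have := S.IL_neg h1
      rwa [mul_one] at this

theorem dd_comm (hR : Rad TV R) {x y : GL ι F} (hx : x ∈ DD C R) (hy : y ∈ DD C R) : x * y = y * x := by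
  obtain ⟨r, hr, hx⟩ := hx
  obtain ⟨s, hs, hy⟩ := hy
  by_cases h1 : r = 1
  · subst h1
    rcases S.IL_one_iff.1 hx with rfl | rfl
    · rw [one_mul, mul_one]
    · exact m1_comm y
  by_cases h2 : s = 1
  · subst h2
    rcases S.IL_one_iff.1 hy with rfl | rfl
    · rw [one_mul, mul_one]
    · exact (m1_comm x).symm
  by_cases h3 : r * s = 1
  · have h4 : s = r := by
      have := S.sq r (hR.mem r hr h1)
      rw [← this] at h3
      exact mul_left_cancel h3
    subst h4
    rcases S.IL_unique hx hy with h | h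
    · rw [h]
    · rw [h]
      calc m1 * y * y = m1 * (y * y) := by group
        _ = (y * y) * m1 := m1_comm _
        _ = y * (y * m1) := by group
        _ = y * (m1 * y) := by rw [m1_comm y]
  · exact (S.IL_comm hx hy (hR.comm r hr s hs) (hR.mem _ (mul_mem hr hs) h3)).1

theorem exists_IL' (hR : Rad TV R) {r : T} (hr : r ∈ R) : ∃ x, IL C x r := by
  by_cases h : r = 1
  · subst h; exact ⟨1, S.IL_one_iff.2 (Or.inl rfl)⟩
  · exact S.exists_IL (hR.mem r hr h)

omit S in
theorem dd_conj {x g : GL ι F} {γ : T} (hx : x ∈ DD C R) (hg : C.L g γ) (hn : ∀ r ∈ R, γ * r * γ⁻¹ ∈ R) :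
    g * x * g⁻¹ ∈ DD C R := by
  obtain ⟨r, hr, hx⟩ := hx
  exact ⟨_, hn r hr, IL_conj hx hg⟩

/-- **The frame.** -/
theorem exists_frame (hR : Rad TV R) (hdet : ∀ x ∈ P, (x : Matrix ι ι F).det = 1) :
    ∃ b : Basis (Fin 6) F (ι → F), Frm b (DD C R) := by
  classical
  have hRf : Finite R := Nat.finite_of_card_ne_zero (by rw [hR.card]; norm_num)
  -- choose lifts
  choose l hl using fun r : R => S.exists_IL' hR r.2
  obtain ⟨b, hb⟩ := H100.Diag.exists_basis (K := F) (V := ι → F) S.two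
    (fun r : R => Matrix.toLin' ((l r : GL ι F) : Matrix ι ι F))
    (by
      intro i j v
      have h := S.dd_comm hR (x := l i) (y := l j) ⟨i, i.2, hl i⟩ ⟨j, j.2, hl j⟩
      simp only [Matrix.toLin'_apply]
      change ap _ (ap _ v) = ap _ (ap _ v)
      rw [← ap_mul, ← ap_mul, h])
    (by
      intro i v
      simp only [Matrix.toLin'_apply]
      change ap _ (ap _ v) = v
      rw [← ap_mul, (hl i).2, ap_one])
    (n := 6) (by rw [Module.finrank_fintype_fun_eq_card, S.card])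
  have hsgn : ∀ r : R, ∃ s : Fin 6 → ℤˣ, Sgn b (l r) s := by
    intro r
    have : ∀ j, ∃ u : ℤˣ, ap (l r) (b j) = sg F u • b j := by
      intro j
      rcases hb r j with h | h
      · refine ⟨1, ?_⟩
        rw [sg_one, one_smul]
        simpa only [Matrix.toLin'_apply] using h
      · refine ⟨-1, ?_⟩
        rw [sg_neg_one, neg_one_smul]
        simpa only [Matrix.toLin'_apply] using h
    choose s hs using this
    exact ⟨s, hs⟩
  choose sl hsl using hsgn
  have hprod : ∀ (x : GL ι F) (s : Fin 6 → ℤˣ), x ∈ P → Sgn b x s → ∏ i, s i = 1 := by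
    intro x s hx hs
    have h1 := hs.det
    rw [hdet x hx, sg_prod] at h1
    exact sg_inj S.two (by rw [← h1, sg_one])
  have hdiag : ∀ x ∈ DD C R, ∃ s : Fin 6 → ℤˣ, ∏ i, s i = 1 ∧ Sgn b x s := by
    rintro x ⟨r, hr, hx⟩
    rcases S.IL_unique hx (hl ⟨r, hr⟩) with h | h
    · have h1 : Sgn b x (sl ⟨r, hr⟩) := by rw [h]; exact hsl _
      exact ⟨_, hprod x _ hx.1.mem h1, h1⟩
    · have h1 : Sgn b x ((fun _ => -1) * sl ⟨r, hr⟩) := by rw [h]; exact (Sgn.m1 b).mul (hsl _)
      exact ⟨_, hprod x _ hx.1.mem h1, h1⟩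
  refine ⟨b, hdiag, ?_⟩
  let f : R × ℤˣ → Ev := fun p => ⟨(fun _ => p.2) * sl p.1, by
    rcases sg_cases p.2 with h | h
    · rw [h]
      have h1 := hprod _ _ (hl p.1).1.mem (hsl p.1)
      simpa using h1
    · rw [h]
      exact hprod _ _ (S.IL_neg (hl p.1)).1.mem ((Sgn.m1 b).mul (hsl p.1))⟩
  have hlift : ∀ p : R × ℤˣ, ∃ x, IL C x (p.1 : T) ∧ Sgn b x (f p).1 := by
    rintro ⟨r, u⟩
    rcases sg_cases u with h | h
    · subst h
      refine ⟨l r, hl r, ?_⟩
      have h1 := (Sgn.one (F := F) (ι := ι) b).mul (hsl r)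
      rw [one_mul] at h1
      exact h1
    · subst h
      exact ⟨m1 * l r, S.IL_neg (hl r), (Sgn.m1 b).mul (hsl r)⟩
  have hinj : Function.Injective f := by
    intro p q hpq
    obtain ⟨x, hx, hxs⟩ := hlift p
    obtain ⟨y, hy, hys⟩ := hlift q
    have h1 : (f p).1 = (f q).1 := by rw [hpq]
    rw [h1] at hxs
    have h2 : x = y := hxs.eq hys
    subst h2
    have h3 : p.1 = q.1 := Subtype.ext (hx.1.unique hy.1)
    have h4 : (fun _ : Fin 6 => p.2) * sl p.1 = (fun _ => q.2) * sl q.1 := h1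
    rw [h3] at h4
    have h5 := congrFun (mul_right_cancel h4) 0
    exact Prod.ext h3 h5
  have hcard : Nat.card Ev ≤ Nat.card (R × ℤˣ) := by
    rw [Nat.card_prod, hR.card, Nat.card_eq_fintype_card, Nat.card_eq_fintype_card, card_Ev]
    decide
  have hbij := hinj.bijective_of_nat_card_le hcard
  intro s hs
  obtain ⟨p, hp⟩ := hbij.2 ⟨s, hs⟩
  obtain ⟨x, hx, hxs⟩ := hlift p
  rw [hp] at hxs
  exact ⟨x, ⟨_, p.1.2, hx⟩, hxs⟩

end Setup

end Cfsg.Agent.H913.N6
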