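import Cfsg.Agent.H913.N6Par

/-!
# The normal form of the monomial action of `SL_2(4)` (helper913)
-/

set_option autoImplicit false
set_option linter.unusedSectionVars false

namespace Cfsg.Agent.H913.N6

open Cfsg Cfsg.Geo Matrix
open Module (Basis)
open Cfsg.Agent.H915.LD (Core Soc toSoc tr)

/-- combinatorics of a dihedral group of order 10 on six points -/
theorem comb {τ σ : Fin 6 → Fin 6} (hτ : Function.Injective τ) (h5 : ∀ i, τ^[5] i = i) (hσ : ∀ i, σ (σ i) = i)
    (h : ∀ i, τ (σ (τ i)) = σ i) (hne : ∃ i, τ i ≠ i) : ∃ e : Equiv.Perm (Fin 6),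
      (τ (e 0) = e 0 ∧ τ (e 1) = e 2 ∧ τ (e 2) = e 3 ∧ τ (e 3) = e 4 ∧ τ (e 4) = e 5 ∧ τ (e 5) = e 1) ∧
      (σ (e 0) = e 0 ∧ σ (e 1) = e 1 ∧ σ (e 2) = e 5 ∧ σ (e 3) = e 4 ∧ σ (e 4) = e 3 ∧ σ (e 5) = e 2) := by
  have hσi : Function.Injective σ := fun i j hij => by rw [← hσ i, hij, hσ]
  have hk : ∀ (k : ℕ) i, τ^[k] (σ (τ^[k] i)) = σ i := by
    intro k
    induction k with
    | zero => intro i; rfl
    | succ k ih =>
      intro i
      rw [Function.iterate_succ_apply' τ k i, Function.iterate_succ_apply, h, ih]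
  have hdis : ∀ i, τ i ≠ i → ∀ j k : ℕ, j < k → k < 5 → τ^[j] i ≠ τ^[k] i := by
    intro i hi j k hjk hk5 he
    obtain ⟨r, rfl⟩ := Nat.exists_eq_add_of_lt hjk
    have e1 : τ^[j + r + 1] i = τ^[j] (τ^[r + 1] i) := by
      rw [← Function.iterate_add_apply, add_assoc]
    rw [e1] at he
    have e2 : i = τ^[r + 1] i := (hτ.iterate j) he
    have h5i := h5 i
    have hr : r < 4 := by omega
    apply hi
    interval_cases r
    · exact e2.symm
    · have e3 : τ^[4] i = i := by
        rw [show (4 : ℕ) = (1 + 1) + (1 + 1) by norm_num, Function.iterate_add_apply, ← e2, ← e2]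
      rw [show (5 : ℕ) = 1 + 4 by norm_num, Function.iterate_add_apply, e3] at h5i
      exact h5i
    · have e3 := Function.iterate_add_apply τ (2 + 1) (2 + 1) i
      rw [← e2, ← e2] at e3
      have e4 := Function.iterate_add_apply τ 1 5 i
      rw [h5i] at e4
      exact e4.symm.trans e3
    · rw [show (5 : ℕ) = 1 + (3 + 1) by norm_num, Function.iterate_add_apply, ← e2] at h5i
      exact h5i
  -- the enumeration starting from a moved point
  have enum : ∀ i, τ i ≠ i → ∃ e : Equiv.Perm (Fin 6), e 1 = i ∧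
      (τ (e 0) = e 0 ∧ τ (e 1) = e 2 ∧ τ (e 2) = e 3 ∧ τ (e 3) = e 4 ∧ τ (e 4) = e 5 ∧ τ (e 5) = e 1) := by
    intro i hi
    have d := hdis i hi
    have h5i := h5 i
    obtain ⟨j0, hj0⟩ : ∃ j0 : Fin 6, j0 ∉ ({i, τ i, τ (τ i), τ (τ (τ i)), τ (τ (τ (τ i)))} : Finset (Fin 6)) := by
      by_contra hcon
      push Not at hcon
      have h1 : (Finset.univ : Finset (Fin 6)) ⊆ ({i, τ i, τ (τ i), τ (τ (τ i)), τ (τ (τ (τ i)))} : Finset (Fin 6)) :=
        fun j _ => hcon j
      have h2 := Finset.card_le_card h1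
      rw [Finset.card_univ, Fintype.card_fin] at h2
      have h3 : (({i, τ i, τ (τ i), τ (τ (τ i)), τ (τ (τ (τ i)))} : Finset (Fin 6))).card ≤ 5 := Finset.card_le_five
      omega
    simp only [Finset.mem_insert, Finset.mem_singleton, not_or] at hj0
    obtain ⟨q0, q1, q2, q3, q4⟩ := hj0
    have d01 := d 0 1 (by norm_num) (by norm_num)
    have d02 := d 0 2 (by norm_num) (by norm_num)
    have d03 := d 0 3 (by norm_num) (by norm_num)
    have d04 := d 0 4 (by norm_num) (by norm_num)
    have d12 := d 1 2 (by norm_num) (by norm_num)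
    have d13 := d 1 3 (by norm_num) (by norm_num)
    have d14 := d 1 4 (by norm_num) (by norm_num)
    have d23 := d 2 3 (by norm_num) (by norm_num)
    have d24 := d 2 4 (by norm_num) (by norm_num)
    have d34 := d 3 4 (by norm_num) (by norm_num)
    simp only [Function.iterate_succ, Function.iterate_zero, Function.comp_apply, id] at d01 d02 d03 d04 d12 d13 d14 d23 d24 d34 h5i
    let f : Fin 6 → Fin 6 := ![j0, i, τ i, τ (τ i), τ (τ (τ i)), τ (τ (τ (τ i)))]
    have hf : Function.Injective f := by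
      intro a b hab
      fin_cases a <;> fin_cases b <;> simp [f] at hab ⊢ <;>
        first
        | exact absurd hab q0
        | exact absurd hab q1
        | exact absurd hab q2
        | exact absurd hab q3
        | exact absurd hab q4
        | exact absurd hab.symm q0
        | exact absurd hab.symm q1
        | exact absurd hab.symm q2
        | exact absurd hab.symm q3
        | exact absurd hab.symm q4
        | exact absurd hab d01
        | exact absurd hab d02
        | exact absurd hab d03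
        | exact absurd hab d04
        | exact absurd hab d12
        | exact absurd hab d13
        | exact absurd hab d14
        | exact absurd hab d23
        | exact absurd hab d24
        | exact absurd hab d34
        | exact absurd hab.symm d01
        | exact absurd hab.symm d02
        | exact absurd hab.symm d03
        | exact absurd hab.symm d04
        | exact absurd hab.symm d12
        | exact absurd hab.symm d13
        | exact absurd hab.symm d14
        | exact absurd hab.symm d23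
        | exact absurd hab.symm d24
        | exact absurd hab.symm d34
    have hb := Finite.injective_iff_bijective.1 hf
    refine ⟨Equiv.ofBijective f hb, rfl, ?_, rfl, rfl, rfl, rfl, ?_⟩
    · change τ j0 = j0
      obtain ⟨a, ha⟩ := hb.2 (τ j0)
      fin_cases a
      · exact ha.symm
      · exfalso
        change i = τ j0 at ha
        rw [← h5i] at ha
        exact q4 (hτ ha).symm
      · exact absurd (hτ (show τ i = τ j0 from ha)).symm q0
      · exact absurd (hτ (show τ (τ i) = τ j0 from ha)).symm q1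
      · exact absurd (hτ (show τ (τ (τ i)) = τ j0 from ha)).symm q2
      · exact absurd (hτ (show τ (τ (τ (τ i))) = τ j0 from ha)).symm q3
    · change τ (τ (τ (τ (τ i)))) = i
      exact h5i
  obtain ⟨i0, hi0⟩ := hne
  -- a moved point fixed by `σ`
  obtain ⟨i1, hi1, hσ1⟩ : ∃ i1, τ i1 ≠ i1 ∧ σ i1 = i1 := by
    obtain ⟨e, he, h0, h1, h2, h3, h4, h6⟩ := enum i0 hi0
    have hs : τ (σ i0) ≠ σ i0 := by
      intro h7
      have h8 := h i0
      rw [← h7] at h8
      exact hi0 (hσi (hτ h8))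
    have hmv : ∀ k : ℕ, τ (τ^[k] i0) ≠ τ^[k] i0 := by
      intro k hk'
      rw [← Function.iterate_succ_apply' τ k, Function.iterate_succ_apply] at hk'
      exact hi0 ((hτ.iterate k) hk')
    obtain ⟨a, ha⟩ : ∃ a : ℕ, σ i0 = τ^[a] i0 := by
      obtain ⟨j, hj⟩ := e.surjective (σ i0)
      rw [← hj] at hs
      rw [← hj, ← he]
      fin_cases j
      · exact absurd h0 hs
      · exact ⟨0, rfl⟩
      · exact ⟨1, h1.symm⟩
      · refine ⟨2, ?_⟩
        change e 3 = τ (τ (e 1))
        rw [h1, h2]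
      · refine ⟨3, ?_⟩
        change e 4 = τ (τ (τ (e 1)))
        rw [h1, h2, h3]
      · refine ⟨4, ?_⟩
        change e 5 = τ (τ (τ (τ (e 1))))
        rw [h1, h2, h3, h4]
    refine ⟨τ^[3 * a] i0, hmv _, ?_⟩
    apply hτ.iterate (3 * a)
    rw [hk, ha, ← Function.iterate_add_apply]
    have h55 : ∀ (k : ℕ) i, τ^[5 * k] i = i := by
      intro k i
      induction k with
      | zero => rfl
      | succ k ih => rw [mul_add, mul_one, Function.iterate_add_apply, h5, ih]
    rw [show 3 * a + 3 * a = a + 5 * a by ring, Function.iterate_add_apply, h55]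
  obtain ⟨e, he, h0, h1, h2, h3, h4, h6⟩ := enum i1 hi1
  refine ⟨e, ⟨h0, h1, h2, h3, h4, h6⟩, ?_, ?_, ?_, ?_, ?_, ?_⟩
  · have h7 : τ (σ (e 0)) = σ (e 0) := by
      have := h (e 0)
      rwa [h0] at this
    obtain ⟨j, hj⟩ := e.surjective (σ (e 0))
    rw [← hj] at h7 ⊢
    fin_cases j
    · rfl
    · have h8 : τ (e 1) = e 1 := h7
      rw [he] at h8
      exact absurd h8 hi1
    · have h8 : τ (e 2) = e 2 := h7
      rw [h2] at h8
      exact absurd (e.injective h8) (by decide)
    · have h8 : τ (e 3) = e 3 := h7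
      rw [h3] at h8
      exact absurd (e.injective h8) (by decide)
    · have h8 : τ (e 4) = e 4 := h7
      rw [h4] at h8
      exact absurd (e.injective h8) (by decide)
    · have h8 : τ (e 5) = e 5 := h7
      rw [h6] at h8
      exact absurd (e.injective h8) (by decide)
  · rw [he]; exact hσ1
  · -- `σ (τ i) = τ⁴ i`
    have h7 := h (e 1)
    rw [he, hσ1, ← he, h1] at h7
    apply hτ
    rw [h7, h6]
  · have h7 : σ (e 2) = e 5 := by
      have h7 := h (e 1)
      rw [he, hσ1, ← he, h1] at h7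
      apply hτ
      rw [h7, h6]
    have h8 := h (e 2)
    rw [h2, h7] at h8
    apply hτ
    rw [h8, h4]
  · have h7 : σ (e 2) = e 5 := by
      have h7 := h (e 1)
      rw [he, hσ1, ← he, h1] at h7
      apply hτ
      rw [h7, h6]
    have h8 := h (e 2)
    rw [h2, h7] at h8
    have h9 : σ (e 3) = e 4 := by
      apply hτ
      rw [h8, h4]
    rw [← h9, hσ]
  · have h7 : σ (e 2) = e 5 := by
      have h7 := h (e 1)
      rw [he, hσ1, ← he, h1] at h7
      apply hτ
      rw [h7, h6]
    rw [← h7, hσ]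

variable {ι : Type} [Fintype ι] [DecidableEq ι] {F : Type*} [Field F]

theorem Mono.mul {b : Fin 6 → ι → F} {g h : GL ι F} {σ τ : Fin 6 → Fin 6} {a c : Fin 6 → F} (hg : Mono b g σ a)
    (hh : Mono b h τ c) : Mono b (g * h) (σ ∘ τ) (fun i => c i * a (τ i)) := by
  intro i
  refine ⟨mul_ne_zero (hh i).1 (hg _).1, ?_⟩
  rw [ap_mul, (hh i).2, ap_smul, (hg _).2, smul_smul]
  rfl

theorem Mono.unique {b : Basis (Fin 6) F (ι → F)} {g : GL ι F} {σ τ : Fin 6 → Fin 6} {a c : Fin 6 → F}
    (hg : Mono b g σ a) (hh : Mono b g τ c) : σ = τ ∧ a = c := by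
  have key : ∀ i, σ i = τ i ∧ a i = c i := by
    intro i
    have h1 := (hg i).2.symm.trans (hh i).2
    have h2 := congrArg (fun v => b.repr v (σ i)) h1
    simp only [map_smul, Finsupp.smul_apply, b.repr_self, Finsupp.single_eq_same, smul_eq_mul, mul_one,
      Finsupp.single_apply] at h2
    by_cases h : τ i = σ i
    · rw [if_pos h, mul_one] at h2
      exact ⟨h.symm, h2⟩
    · rw [if_neg h, mul_zero] at h2
      exact absurd h2 (hg i).1
  exact ⟨funext fun i => (key i).1, funext fun i => (key i).2⟩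

theorem Mono.one (b : Fin 6 → ι → F) : Mono b (1 : GL ι F) id 1 := by
  intro i
  refine ⟨one_ne_zero, ?_⟩
  rw [ap_one, Pi.one_apply, one_smul]; rfl

/-- `b'` is `b` up to scalars and order -/
def Reb (b b' : Basis (Fin 6) F (ι → F)) : Prop :=
  ∃ (e : Equiv.Perm (Fin 6)) (k : Fin 6 → F), ∀ i, k i ≠ 0 ∧ b' i = k i • b (e i)

theorem exists_reb (b : Basis (Fin 6) F (ι → F)) (e : Equiv.Perm (Fin 6)) (k : Fin 6 → F) (hk : ∀ i, k i ≠ 0) :
    ∃ b' : Basis (Fin 6) F (ι → F), ∀ i, b' i = k i • b (e i) := by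
  refine ⟨(b.reindex e.symm).isUnitSMul (w := k) (fun i => (hk i).isUnit), fun i => ?_⟩
  rw [Module.Basis.isUnitSMul_apply, Module.Basis.reindex_apply, Equiv.symm_symm]

theorem Reb.trans {b b' b'' : Basis (Fin 6) F (ι → F)} (h : Reb b b') (h' : Reb b' b'') : Reb b b'' := by
  obtain ⟨e, k, hk⟩ := h
  obtain ⟨e', k', hk'⟩ := h'
  refine ⟨e'.trans e, fun i => k' i * k (e' i), fun i => ⟨mul_ne_zero (hk' i).1 (hk _).1, ?_⟩⟩
  rw [(hk' i).2, (hk (e' i)).2, smul_smul]
  rfl

theorem Mono.reb {b b' : Basis (Fin 6) F (ι → F)} (hr : Reb b b') {g : GL ι F} {σ : Fin 6 → Fin 6} {a : Fin 6 → F}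
    (hg : Mono b g σ a) : ∃ σ' a', Mono b' g σ' a' := by
  obtain ⟨e, k, hk⟩ := hr
  refine ⟨fun i => e.symm (σ (e i)), fun i => k i * a (e i) * (k (e.symm (σ (e i))))⁻¹, fun i => ⟨?_, ?_⟩⟩
  · exact mul_ne_zero (mul_ne_zero (hk i).1 (hg _).1) (inv_ne_zero (hk _).1)
  · rw [(hk i).2, ap_smul, (hg _).2, (hk (e.symm (σ (e i)))).2, Equiv.apply_symm_apply, smul_smul, smul_smul,
      inv_mul_cancel_right₀ (hk _).1]

theorem Frm.reb {b b' : Basis (Fin 6) F (ι → F)} (hr : Reb b b') {D : Set (GL ι F)} (hb : Frm b D) : Frm b' D := by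
  obtain ⟨e, k, hk⟩ := hr
  constructor
  · intro x hx
    obtain ⟨s, hs, hxs⟩ := hb.diag x hx
    refine ⟨s ∘ e, ?_, fun i => ?_⟩
    · rw [← hs]
      exact Equiv.prod_comp e s
    · rw [(hk i).2, ap_smul, hxs, smul_comm]; rfl
  · intro s hs
    obtain ⟨x, hx, hxs⟩ := hb.full (s ∘ e.symm) (by rw [← hs]; exact Equiv.prod_comp e.symm s)
    refine ⟨x, hx, fun i => ?_⟩
    rw [(hk i).2, ap_smul, hxs, smul_comm]
    simp

/-- fixed lines have sign `-1` -/
def FS (b : Basis (Fin 6) F (ι → F)) (g : GL ι F) : Prop := ∀ (i : Fin 6) (s : F), ap g (b i) = s • b i → s = -1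

theorem FS.reb {b b' : Basis (Fin 6) F (ι → F)} (hr : Reb b b') {g : GL ι F} (h : FS b g) : FS b' g := by
  obtain ⟨e, k, hk⟩ := hr
  intro i s hs
  rw [(hk i).2, ap_smul, smul_comm] at hs
  refine h (e i) s ?_
  exact smul_right_injective _ (hk i).1 hs

theorem FS.transport {b : Basis (Fin 6) F (ι → F)} {g g' d : GL ι F} {σ : Fin 6 → Fin 6} {a : Fin 6 → F}
    (hd : Mono b d σ a) (h : FS b g) (hdg : d * g * d⁻¹ = g') : FS b g' := by
  intro i s hs
  obtain ⟨j, rfl⟩ := (Finite.injective_iff_surjective.1 hd.inj) i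
  refine h j s ?_
  have h1 : ap g' (ap d (b j)) = s • ap d (b j) := by
    rw [(hd j).2, ap_smul, hs, smul_comm]
  rw [← hdg, ← ap_mul] at h1
  have e1 : d * g * d⁻¹ * d = d * g := by group
  rw [e1, ap_mul, ← ap_smul] at h1
  have h2 := congrArg (ap d⁻¹) h1
  have key : ∀ v, ap d⁻¹ (ap d v) = v := fun v => by rw [← ap_mul, inv_mul_cancel, ap_one]
  rwa [key, key] at h2

/-- the normal form -/
structure NF (w : Fin 6 → ι → F) (n m x : GL ι F) : Prop where
  c0 : ap (n * m) (w 0) = w 0
  c1 : ap (n * m) (w 1) = w 2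
  c2 : ap (n * m) (w 2) = w 3
  c3 : ap (n * m) (w 3) = w 4
  c4 : ap (n * m) (w 4) = w 5
  c5 : ap (n * m) (w 5) = w 1
  n0 : ap n (w 0) = - w 0
  n1 : ap n (w 1) = - w 1
  n2 : ap n (w 2) = - w 5
  n3 : ap n (w 3) = - w 4
  n4 : ap n (w 4) = - w 3
  n5 : ap n (w 5) = - w 2
  x0 : ap x (w 0) = w 1
  x1 : ap x (w 1) = w 0
  x2 : ap x (w 2) = w 5
  x3 : ap x (w 3) = - w 3
  x4 : ap x (w 4) = - w 4
  x5 : ap x (w 5) = w 2

theorem pm_of_sq' {ν : F} (h : ν * ν = 1) : ν = 1 ∨ ν = -1 := by
  have h1 : (ν - 1) * (ν + 1) = 0 := by linear_combination h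
  rcases mul_eq_zero.1 h1 with h2 | h2
  · left; linear_combination h2
  · right; linear_combination h2

theorem smul_b_inj {b : Basis (Fin 6) F (ι → F)} {i : Fin 6} {s t : F} (h : s • b i = t • b i) : s = t := by
  have h1 : (s - t) • b i = 0 := by rw [sub_smul, h, sub_self]
  rcases smul_eq_zero.1 h1 with h2 | h2
  · exact sub_eq_zero.1 h2
  · exact absurd h2 (b.ne_zero i)

theorem b_line {b : Basis (Fin 6) F (ι → F)} {i j : Fin 6} {s t : F} (hs : s ≠ 0) (h : s • b i = t • b j) : i = j := by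
  by_contra hne
  have h2 := congrArg (fun v => b.repr v i) h
  simp only [map_smul, Finsupp.smul_apply, b.repr_self, Finsupp.single_eq_same, smul_eq_mul, mul_one] at h2
  rw [Finsupp.single_eq_of_ne hne, mul_zero] at h2
  exact hs h2

end Cfsg.Agent.H913.N6
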