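import Cfsg.Agent.H913.N6Ico

/-!
# The normal form: existence (helper913)
-/

set_option autoImplicit false
set_option linter.unusedSectionVars false

namespace Cfsg.Agent.H913.N6

open Cfsg Cfsg.Geo Matrix
open Module (Basis)
open Cfsg.Agent.H915.LD (Core Soc toSoc tr)

variable {ι : Type} [Fintype ι] [DecidableEq ι] {F : Type*} [Field F]

theorem Mono.pow {b : Fin 6 → ι → F} {g : GL ι F} {σ : Fin 6 → Fin 6} {a : Fin 6 → F} (hg : Mono b g σ a) (k : ℕ) :
    ∃ c, Mono b (g ^ k) (σ^[k]) c := by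
  induction k with
  | zero => exact ⟨1, by rw [pow_zero]; exact Mono.one b⟩
  | succ k ih =>
    obtain ⟨c, hc⟩ := ih
    exact ⟨_, by rw [pow_succ]; exact hc.mul hg⟩

theorem ap_cancel {g : GL ι F} {v w : ι → F} (h : ap g v = ap g w) : v = w := by
  have h2 := congrArg (ap g⁻¹) h
  have key : ∀ v, ap g⁻¹ (ap g v) = v := fun v => by rw [← ap_mul, inv_mul_cancel, ap_one]
  rwa [key, key] at h2

theorem exists_NF (h2 : (2 : F) ≠ 0) {b : Basis (Fin 6) F (ι → F)} {n m x d : GL ι F}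
    (hn : ∃ σ a, Mono b n σ a) (hm : ∃ σ a, Mono b m σ a) (hx : ∃ σ a, Mono b x σ a) (hd : ∃ σ a, Mono b d σ a)
    (nn : n * n = 1) (mm : m * m = 1) (xx : x * x = 1) (comm : x * n = n * x) (trn : tr n = -2)
    (dn : d * n * d⁻¹ = x) (dx : d * x * d⁻¹ = x * n) (five : (n * m) ^ 5 = 1) (three : (x * n * m) ^ 3 = 1)
    (hne : ∃ i, ∀ s : F, ap (n * m) (b i) ≠ s • b i) : ∃ w : Basis (Fin 6) F (ι → F), Reb b w ∧ NF w n m x := by
  obtain ⟨σ, an, hn⟩ := hn
  obtain ⟨σm, am, hm⟩ := hm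
  have hc := hn.mul hm
  obtain ⟨c, hcdef⟩ : ∃ c, n * m = c := ⟨_, rfl⟩
  rw [hcdef] at hc five hne
  generalize σ ∘ σm = τ at hc
  generalize (fun i => am i * an (σm i)) = k at hc
  have one_ne : (1 : F) ≠ -1 := fun h => h2 (by linear_combination h)
  -- combinatorics
  have h5 : ∀ i, τ^[5] i = i := by
    obtain ⟨a5, ha5⟩ := hc.pow 5
    rw [five] at ha5
    have := (ha5.unique (Mono.one b)).1
    intro i
    rw [this]; rfl
  have hσσ : ∀ i, σ (σ i) = i := by
    have h6 := hn.mul hn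
    rw [nn] at h6
    have := (h6.unique (Mono.one b)).1
    intro i
    exact congrFun this i
  have hcnc : c * n * c = n := by
    rw [← hcdef]
    calc n * m * n * (n * m) = n * m * (n * n) * m := by group
      _ = n * (m * m) := by rw [nn]; group
      _ = n := by rw [mm, mul_one]
  have hτσ : ∀ i, τ (σ (τ i)) = σ i := by
    have h6 := (hc.mul hn).mul hc
    rw [hcnc] at h6
    have := (h6.unique hn).1
    intro i
    exact congrFun this i
  obtain ⟨e, ⟨t0, t1, t2, t3, t4, t5⟩, s0, s1, s2, s3, s4, s5⟩ := comb hc.inj h5 hσσ hτσ (by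
    obtain ⟨i, hi⟩ := hne
    refine ⟨i, fun h => hi (k i) ?_⟩
    rw [(hc i).2, h])
  -- the first basis
  obtain ⟨b1, hb1⟩ := exists_reb b e
    ![1, 1, k (e 1), k (e 1) * k (e 2), k (e 1) * k (e 2) * k (e 3), k (e 1) * k (e 2) * k (e 3) * k (e 4)] (by
      have hk0 := fun i => (hc i).1
      intro i
      fin_cases i <;> simp [hk0])
  have hr1 : Reb b b1 := ⟨e, _, fun i => ⟨by
    have hk0 := fun i => (hc i).1
    fin_cases i <;> simp [hk0], hb1 i⟩⟩
  have b0 : b1 0 = b (e 0) := by rw [hb1 0]; exact one_smul _ _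
  have b1' : b1 1 = b (e 1) := by rw [hb1 1]; exact one_smul _ _
  have b2 : b1 2 = k (e 1) • b (e 2) := hb1 2
  have b3 : b1 3 = (k (e 1) * k (e 2)) • b (e 3) := hb1 3
  have b4 : b1 4 = (k (e 1) * k (e 2) * k (e 3)) • b (e 4) := hb1 4
  have b5 : b1 5 = (k (e 1) * k (e 2) * k (e 3) * k (e 4)) • b (e 5) := hb1 5
  have C0 : ap c (b1 0) = k (e 0) • b1 0 := by rw [b0, (hc _).2, t0]
  have C1 : ap c (b1 1) = b1 2 := by rw [b1', (hc _).2, t1, b2]
  have C2 : ap c (b1 2) = b1 3 := by rw [b2, ap_smul, (hc _).2, t2, b3, smul_smul]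
  have C3 : ap c (b1 3) = b1 4 := by rw [b3, ap_smul, (hc _).2, t3, b4, smul_smul]
  have C4 : ap c (b1 4) = b1 5 := by rw [b4, ap_smul, (hc _).2, t4, b5, smul_smul]
  have C5 : ap c (b1 5) = b1 1 := by
    have h6 : ap (c ^ 5) (b1 1) = b1 1 := by rw [five, ap_one]
    have e1 : c ^ 5 = c * (c * (c * (c * c))) := by rw [pow_succ, pow_succ, pow_succ, pow_two]; group
    rw [e1, ap_mul, ap_mul, ap_mul, ap_mul, C1, C2, C3, C4] at h6
    exact h6
  have N0 : ap n (b1 0) = an (e 0) • b1 0 := by rw [b0, (hn _).2, s0]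
  have N1 : ap n (b1 1) = an (e 1) • b1 1 := by rw [b1', (hn _).2, s1]
  have hν0 : an (e 0) * an (e 0) = 1 := by
    have h6 : ap (n * n) (b1 0) = (1 : F) • b1 0 := by rw [nn, ap_one, one_smul]
    rw [ap_mul, N0, ap_smul, N0, smul_smul] at h6
    exact smul_b_inj h6
  have hν1 : an (e 1) * an (e 1) = 1 := by
    have h6 : ap (n * n) (b1 1) = (1 : F) • b1 1 := by rw [nn, ap_one, one_smul]
    rw [ap_mul, N1, ap_smul, N1, smul_smul] at h6
    exact smul_b_inj h6
  have htr : an (e 0) + an (e 1) = -2 := by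
    rw [← trn, hn.tr, ← Equiv.sum_comp e (fun i => if σ i = i then an i else 0)]
    rw [Fin.sum_univ_six]
    rw [s0, s1, s2, s3, s4, s5]
    have hij : ∀ {i j : Fin 6}, i ≠ j → ¬ (e i = e j) := fun h h' => h (e.injective h')
    rw [if_pos rfl, if_pos rfl, if_neg (hij (show (5 : Fin 6) ≠ 2 by decide)),
      if_neg (hij (show (4 : Fin 6) ≠ 3 by decide)), if_neg (hij (show (3 : Fin 6) ≠ 4 by decide)),
      if_neg (hij (show (2 : Fin 6) ≠ 5 by decide))]
    simp
  obtain ⟨e0, e1⟩ : an (e 0) = -1 ∧ an (e 1) = -1 := by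
    rcases pm_of_sq' hν0 with h | h <;> rcases pm_of_sq' hν1 with h' | h' <;> rw [h, h'] at htr
    · exfalso
      have h6 : (2 : F) * 2 = 0 := by linear_combination htr
      rcases mul_eq_zero.1 h6 with h7 | h7 <;> exact h2 h7
    · exfalso; exact h2 (by linear_combination htr)
    · exfalso; exact h2 (by linear_combination htr)
    · exact ⟨h, h'⟩
  rw [e0, neg_one_smul] at N0
  rw [e1, neg_one_smul] at N1
  have hcn : ∀ v, ap c (ap n (ap c v)) = ap n v := fun v => by
    rw [← ap_mul, ← ap_mul, hcnc]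
  have C0' : ap c (b1 0) = b1 0 := by
    have h6 := hcn (b1 0)
    rw [C0, ap_smul, N0, ap_smul, ap_neg, C0, smul_neg, smul_smul, neg_inj] at h6
    have h7 : k (e 0) * k (e 0) = 1 := by
      have : (k (e 0) * k (e 0)) • b1 0 = (1 : F) • b1 0 := by rw [h6, one_smul]
      exact smul_b_inj this
    have h8 : ap (c ^ 5) (b1 0) = (1 : F) • b1 0 := by rw [five, ap_one, one_smul]
    have e1 : c ^ 5 = c * (c * (c * (c * c))) := by rw [pow_succ, pow_succ, pow_succ, pow_two]; group
    rw [e1, ap_mul, ap_mul, ap_mul, ap_mul, C0, ap_smul, C0, smul_smul, h7, one_smul, C0, ap_smul, C0, smul_smul, h7,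
      one_smul, C0] at h8
    rw [C0, h8]
  have N2 : ap n (b1 2) = - b1 5 := by
    apply ap_cancel (g := c)
    rw [← C1, hcn, N1, ap_neg, C5]
  have N3 : ap n (b1 3) = - b1 4 := by
    apply ap_cancel (g := c)
    rw [← C2, hcn, N2, ap_neg, C4]
  have N4 : ap n (b1 4) = - b1 3 := by
    apply ap_cancel (g := c)
    rw [← C3, hcn, N3, ap_neg, C3]
  have N5 : ap n (b1 5) = - b1 2 := by
    apply ap_cancel (g := c)
    rw [← C4, hcn, N4, ap_neg, C2]
  have m1ne : (-1 : F) ≠ 0 := neg_ne_zero.2 one_ne_zero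
  have FSn : FS b1 n := by
    intro i s hs
    fin_cases i
    · change ap n (b1 0) = s • b1 0 at hs
      rw [N0, ← neg_one_smul F (b1 0)] at hs
      exact (smul_b_inj hs).symm
    · change ap n (b1 1) = s • b1 1 at hs
      rw [N1, ← neg_one_smul F (b1 1)] at hs
      exact (smul_b_inj hs).symm
    · change ap n (b1 2) = s • b1 2 at hs
      rw [N2, ← neg_one_smul F (b1 5)] at hs
      exact absurd (b_line m1ne hs) (by decide)
    · change ap n (b1 3) = s • b1 3 at hs
      rw [N3, ← neg_one_smul F (b1 4)] at hs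
      exact absurd (b_line m1ne hs) (by decide)
    · change ap n (b1 4) = s • b1 4 at hs
      rw [N4, ← neg_one_smul F (b1 3)] at hs
      exact absurd (b_line m1ne hs) (by decide)
    · change ap n (b1 5) = s • b1 5 at hs
      rw [N5, ← neg_one_smul F (b1 2)] at hs
      exact absurd (b_line m1ne hs) (by decide)
  obtain ⟨σd, ad, hd⟩ := hd
  obtain ⟨σd', ad', hd'⟩ := hd.reb hr1
  have FSx : FS b1 x := FSn.transport hd' dn
  have FSxn : FS b1 (x * n) := FSx.transport hd' dx
  obtain ⟨σx, ax, hx⟩ := hx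
  obtain ⟨σx', ax', hx'⟩ := hx.reb hr1
  -- `x` maps the line of `b1 0` to the line of `b1 1`
  have hx0 : σx' 0 = 1 := by
    have h6 : ap n (ap x (b1 0)) = - ap x (b1 0) := by
      rw [← ap_mul, ← comm, ap_mul, N0, ap_neg]
    rw [(hx' 0).2, ap_smul, ← smul_neg] at h6
    have h7 : ap n (b1 (σx' 0)) = - b1 (σx' 0) := smul_right_injective _ (hx' 0).1 h6
    generalize hj : σx' 0 = j at h7
    fin_cases j
    · exfalso
      have h8 : ap x (b1 0) = ax' 0 • b1 0 := by
        have := (hx' 0).2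
        rw [hj] at this
        exact this
      have h9 := FSx 0 _ h8
      rw [h9] at h8
      have h10 : ap (x * n) (b1 0) = (1 : F) • b1 0 := by
        rw [ap_mul, N0, ap_neg, h8, neg_one_smul, neg_neg, one_smul]
      exact one_ne (FSxn 0 _ h10)
    · rfl
    · exfalso
      change ap n (b1 2) = - b1 2 at h7
      rw [N2, ← neg_one_smul F (b1 5), ← neg_one_smul F (b1 2)] at h7
      exact absurd (b_line m1ne h7) (by decide)
    · exfalso
      change ap n (b1 3) = - b1 3 at h7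
      rw [N3, ← neg_one_smul F (b1 3), ← neg_one_smul F (b1 4)] at h7
      exact absurd (b_line m1ne h7) (by decide)
    · exfalso
      change ap n (b1 4) = - b1 4 at h7
      rw [N4, ← neg_one_smul F (b1 3), ← neg_one_smul F (b1 4)] at h7
      exact absurd (b_line m1ne h7) (by decide)
    · exfalso
      change ap n (b1 5) = - b1 5 at h7
      rw [N5, ← neg_one_smul F (b1 5), ← neg_one_smul F (b1 2)] at h7
      exact absurd (b_line m1ne h7) (by decide)
  set κ := ax' 0 with hκ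
  have hκ0 : κ ≠ 0 := (hx' 0).1
  have X0 : ap x (b1 0) = κ • b1 1 := by
    have := (hx' 0).2
    rw [hx0] at this
    exact this
  -- the final basis
  obtain ⟨w, hw⟩ := exists_reb b1 (Equiv.refl _) ![κ⁻¹, 1, 1, 1, 1, 1] (by
    intro i
    fin_cases i <;> simp [hκ0])
  have hr2 : Reb b1 w := ⟨Equiv.refl _, _, fun i => ⟨by
    fin_cases i <;> simp [hκ0], hw i⟩⟩
  have w0 : w 0 = κ⁻¹ • b1 0 := hw 0
  have w1 : w 1 = b1 1 := by rw [hw 1]; exact one_smul _ _
  have w2 : w 2 = b1 2 := by rw [hw 2]; exact one_smul _ _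
  have w3 : w 3 = b1 3 := by rw [hw 3]; exact one_smul _ _
  have w4 : w 4 = b1 4 := by rw [hw 4]; exact one_smul _ _
  have w5 : w 5 = b1 5 := by rw [hw 5]; exact one_smul _ _
  rw [← w1, ← w2] at C1
  rw [← w2, ← w3] at C2
  rw [← w3, ← w4] at C3
  rw [← w4, ← w5] at C4
  rw [← w5, ← w1] at C5
  rw [← w1] at N1
  rw [← w2, ← w5] at N2
  rw [← w3, ← w4] at N3
  rw [← w4, ← w3] at N4
  rw [← w5, ← w2] at N5
  have C0'' : ap c (w 0) = w 0 := by rw [w0, ap_smul, C0']
  have N0' : ap n (w 0) = - w 0 := by rw [w0, ap_smul, N0, smul_neg]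
  have X0' : ap x (w 0) = w 1 := by rw [w0, ap_smul, X0, smul_smul, inv_mul_cancel₀ hκ0, one_smul, w1]
  have hxx : ∀ v, ap x (ap x v) = v := fun v => by rw [← ap_mul, xx, ap_one]
  have X1' : ap x (w 1) = w 0 := by rw [← X0', hxx]
  have FSx' : FS w x := FSx.reb hr2
  have FSxn' : FS w (x * n) := FSxn.reb hr2
  obtain ⟨σy, ay, hy⟩ := hx'.reb hr2
  -- the cubic relation
  have hR : ∀ v, ap c (ap x (ap c (ap x (ap c v)))) = ap x v := by
    intro v
    have h6 : x * (c * (x * (c * (x * c)))) = 1 := by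
      have e9 : x * n * m = x * c := by rw [← hcdef, mul_assoc]
      rw [e9] at three
      calc x * (c * (x * (c * (x * c)))) = (x * c) ^ 3 := by rw [pow_succ, pow_two]; group
        _ = 1 := three
    have h7 : c * (x * (c * (x * c))) = x⁻¹ := eq_inv_of_mul_eq_one_right h6
    have h8 : x⁻¹ = x := by rw [inv_eq_iff_mul_eq_one, xx]
    rw [h8] at h7
    rw [← ap_mul, ← ap_mul, ← ap_mul, ← ap_mul]
    have e10 : c * x * c * x * c = x := by
      calc c * x * c * x * c = c * (x * (c * (x * c))) := by group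
        _ = x := h7
    rw [e10]
  have X5' : ap x (w 5) = w 2 := by
    have := hR (w 5)
    rw [C5, X1', C0'', X0', C1] at this
    exact this.symm
  have X2' : ap x (w 2) = w 5 := by rw [← X5', hxx]
  -- the image of `w 3`
  have hx3 : ∀ (s : F) (j l : Fin 6), s ≠ 0 → ap x (w l) = w j → ap x (w 3) = s • w j → l = 3 := by
    intro s j l hs hl h
    rw [← hl, ← ap_smul] at h
    have h6 := ap_cancel h
    have h7 : (1 : F) • w 3 = s • w l := by rw [one_smul, h6]
    exact (b_line one_ne_zero h7).symm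
  have X3' : ap x (w 3) = - w 3 := by
    have h6 := (hy 3).2
    have h7 := (hy 3).1
    generalize hj : σy 3 = j at h6
    fin_cases j
    · exact absurd (hx3 _ _ _ h7 X1' h6) (by decide)
    · exact absurd (hx3 _ _ _ h7 X0' h6) (by decide)
    · exact absurd (hx3 _ _ _ h7 X5' h6) (by decide)
    · change ap x (w 3) = ay 3 • w 3 at h6
      rw [FSx' 3 _ h6, neg_one_smul] at h6
      exact h6
    · exfalso
      change ap x (w 3) = ay 3 • w 4 at h6
      have h8 : ap x (w 4) = (ay 3)⁻¹ • w 3 := by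
        have h9 : w 4 = (ay 3)⁻¹ • ap x (w 3) := by rw [h6, smul_smul, inv_mul_cancel₀ h7, one_smul]
        rw [h9, ap_smul, hxx]
      have h9 : ap (x * n) (w 3) = (-(ay 3)⁻¹) • w 3 := by rw [ap_mul, N3, ap_neg, h8, neg_smul]
      have h10 := FSxn' 3 _ h9
      have h11 : ay 3 = 1 := by
        have h12 : (ay 3)⁻¹ = 1 := neg_injective h10
        exact inv_eq_one.1 h12
      rw [h11, one_smul] at h6
      have h12 := hR (w 2)
      rw [C2, h6, C4, X5', C2, X2'] at h12
      have h13 : (1 : F) • w 3 = (1 : F) • w 5 := by rw [one_smul, one_smul, h12]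
      exact absurd (b_line one_ne_zero h13) (by decide)
    · exact absurd (hx3 _ _ _ h7 X2' h6) (by decide)
  have X4' : ap x (w 4) = - w 4 := by
    have h6 : w 4 = - ap n (w 3) := by rw [N3, neg_neg]
    have h7 : ap x (ap n (w 3)) = ap n (ap x (w 3)) := by rw [← ap_mul, ← ap_mul, comm]
    rw [h6, ap_neg, h7, X3', ap_neg]
  subst hcdef
  exact ⟨w, hr1.trans hr2, ⟨C0'', C1, C2, C3, C4, C5, N0', N1, N2, N3, N4, N5, X0', X1', X2', X3', X4', X5'⟩⟩

end Cfsg.Agent.H913.N6
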