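import Cfsg.Agent.H913.N6Cov
import Cfsg.Agent.H100.Diag

/-!
# Involutory lifts (helper913)

`Setup` : a conjugacy class `TV` of involutions of `T` containing the nontrivial elements of an elementary abelian group of
order 8; then every class element has a lift of square one, unique up to sign, and lifts of commuting elements with product in
the class commute.
-/

set_option autoImplicit false
set_option linter.unusedSectionVars false

namespace Cfsg.Agent.H913.N6

open Cfsg Cfsg.Geo Matrix Module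
open Cfsg.Agent.H915.LD (Core Soc toSoc tr)

variable {ι : Type} [Fintype ι] [DecidableEq ι] {F : Type*} [Field F] {P H : Subgroup (GL ι F)}
  {T : Type*} [Group T] {C : Cov P T}

/-- the action of `GL` on vectors -/
abbrev ap (g : GL ι F) (v : ι → F) : ι → F := (g : Matrix ι ι F) *ᵥ v

theorem ap_mul (g h : GL ι F) (v : ι → F) : ap (g * h) v = ap g (ap h v) := by
  rw [ap, ap, ap, Units.val_mul, Matrix.mulVec_mulVec]

theorem ap_one (v : ι → F) : ap 1 v = v := by rw [ap, Units.val_one, Matrix.one_mulVec]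

theorem ap_add (g : GL ι F) (v w : ι → F) : ap g (v + w) = ap g v + ap g w := Matrix.mulVec_add _ _ _

theorem ap_sub (g : GL ι F) (v w : ι → F) : ap g (v - w) = ap g v - ap g w := Matrix.mulVec_sub _ _ _

theorem ap_neg (g : GL ι F) (v : ι → F) : ap g (-v) = - ap g v := Matrix.mulVec_neg _ _

theorem ap_zero (g : GL ι F) : ap g 0 = 0 := Matrix.mulVec_zero _

theorem ap_smul (g : GL ι F) (c : F) (v : ι → F) : ap g (c • v) = c • ap g v := Matrix.mulVec_smul _ _ _

theorem ap_sum {κ : Type*} (s : Finset κ) (g : GL ι F) (f : κ → ι → F) : ap g (∑ i ∈ s, f i) = ∑ i ∈ s, ap g (f i) := by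
  simp only [ap, Matrix.mulVec_sum]

theorem ap_inv_eq {g : GL ι F} {v w : ι → F} (h : ap g v = w) : ap g⁻¹ w = v := by
  rw [← h, ← ap_mul, inv_mul_cancel, ap_one]

theorem ap_sc (c : Fˣ) (v : ι → F) : ap (sc c) v = (c : F) • v := by
  rw [ap, coe_sc, Matrix.smul_mulVec, Matrix.one_mulVec]

theorem ap_inj {g h : GL ι F} (h1 : ∀ v, ap g v = ap h v) : g = h := by
  apply Units.ext
  exact Matrix.mulVec_injective (funext h1)

theorem ap_ext {κ : Type*} (b : Basis κ F (ι → F)) {g h : GL ι F} (h1 : ∀ i, ap g (b i) = ap h (b i)) : g = h := by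
  apply ap_inj
  have h2 : Matrix.toLin' (g : Matrix ι ι F) = Matrix.toLin' (h : Matrix ι ι F) := by
    apply b.ext
    intro i
    rw [Matrix.toLin'_apply, Matrix.toLin'_apply]
    exact h1 i
  intro v
  have h3 := congrArg (fun f => f v) h2
  simpa only [Matrix.toLin'_apply] using h3

/-- the trace in a basis -/
theorem tr_eq_sum {κ : Type*} [Fintype κ] [DecidableEq κ] (b : Basis κ F (ι → F)) (g : GL ι F) :
    tr g = ∑ i, b.repr (ap g (b i)) i := by
  rw [tr, ← Matrix.trace_toLin'_eq, LinearMap.trace_eq_matrix_trace F b, Matrix.trace]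
  refine Finset.sum_congr rfl fun i _ => ?_
  rw [Matrix.diag_apply, LinearMap.toMatrix_apply, Matrix.toLin'_apply]

/-- the determinant in a basis -/
theorem det_eq_det {κ : Type*} [Fintype κ] [DecidableEq κ] (b : Basis κ F (ι → F)) (g : GL ι F) :
    (g : Matrix ι ι F).det = (Matrix.of fun i j => b.repr (ap g (b j)) i).det := by
  rw [← LinearMap.det_toLin', ← LinearMap.det_toMatrix b]
  congr 1
  ext i j
  rw [LinearMap.toMatrix_apply, Matrix.toLin'_apply, Matrix.of_apply]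

theorem sc_neg_one : ((sc (-1) : GL ι F) : Matrix ι ι F) = -1 := by
  rw [coe_sc]; simp

/-- the scalar `-1` -/
def m1 : GL ι F := sc (-1)

theorem ap_m1 (v : ι → F) : ap (m1 : GL ι F) v = -v := by
  rw [m1, ap_sc]; simp

theorem m1_mul_m1 : (m1 * m1 : GL ι F) = 1 := by
  rw [m1, ← sc_mul]; simp

theorem m1_comm (x : GL ι F) : m1 * x = x * m1 := sc_comm _ _

/-- an involutory (or trivial) lift -/
def IL (C : Cov P T) (x : GL ι F) (τ : T) : Prop := C.L x τ ∧ x * x = 1

/-- a class of involutions whose elements generate an elementary abelian group of order 8 inside the class -/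
structure Setup (P : Subgroup (GL ι F)) (C : Cov P T) (TV : Set T) : Prop where
  two : (2 : F) ≠ 0
  card : Fintype.card ι = 6
  pow : ∀ c : Fˣ, sc c ∈ P → c ^ 6 = 1
  neg : (m1 : GL ι F) ∈ P
  conj : ∀ τ ∈ TV, ∀ g : T, g * τ * g⁻¹ ∈ TV
  isConj : ∀ τ ∈ TV, ∀ τ' ∈ TV, ∃ g : T, g * τ * g⁻¹ = τ'
  sq : ∀ τ ∈ TV, τ * τ = 1
  ne_one : (1 : T) ∉ TV
  ex : ∃ a ∈ TV, ∃ b ∈ TV, ∃ c ∈ TV, a * b ∈ TV ∧ a * c ∈ TV ∧ b * c ∈ TV ∧ a * (b * c) ∈ TV

namespace Setup

variable {TV : Set T} (S : Setup P C TV)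
include S

theorem nonempty : Nonempty ι := Fintype.card_pos_iff.1 (by rw [S.card]; norm_num)

theorem neg_ne : (-1 : Fˣ) ≠ 1 := by
  intro h
  have h1 : ((-1 : Fˣ) : F) = ((1 : Fˣ) : F) := by rw [h]
  rw [Units.val_neg, Units.val_one] at h1
  exact S.two (by linear_combination -h1)

theorem m1_ne : (m1 : GL ι F) ≠ 1 := by
  intro h
  have : Nonempty ι := S.nonempty
  rw [m1, ← sc_one] at h
  exact S.neg_ne (sc_inj h)

/-- a scalar of `P` whose square is `± 1` has square `1` -/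
theorem sq_one {c : Fˣ} (hc : sc c ∈ P) (h : c ^ 2 = 1 ∨ c ^ 2 = -1) : c ^ 2 = 1 := by
  rcases h with h | h
  · exact h
  · exfalso
    have h6 := S.pow c hc
    have h7 : c ^ 6 = (c ^ 2) ^ 3 := by rw [← pow_mul]
    rw [h7, h] at h6
    have h8 : (-1 : Fˣ) ^ 3 = -1 := Odd.neg_one_pow (by decide)
    rw [h8] at h6
    exact S.neg_ne h6

theorem pm_of_sq {c : Fˣ} (h : c ^ 2 = 1) : c = 1 ∨ c = -1 := by
  have h1 : ((c : F) - 1) * ((c : F) + 1) = 0 := by
    have h2 : ((c ^ 2 : Fˣ) : F) = 1 := by rw [h]; rfl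
    rw [Units.val_pow_eq_pow_val] at h2
    linear_combination h2
  rcases mul_eq_zero.1 h1 with h2 | h2
  · left; exact Units.ext (by rw [Units.val_one]; linear_combination h2)
  · right; exact Units.ext (by rw [Units.val_neg, Units.val_one]; linear_combination h2)

/-- two lifts of class elements with squares `± 1` have the same square -/
theorem same_sq {x y : GL ι F} {τ τ' : T} (hx : C.L x τ) (hy : C.L y τ') (hτ : τ ∈ TV) (hτ' : τ' ∈ TV)
    (h1 : x * x = 1 ∨ x * x = m1) (h2 : y * y = 1 ∨ y * y = m1) : x * x = y * y := by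
  obtain ⟨g, hg⟩ := S.isConj τ hτ τ' hτ'
  obtain ⟨k, hk⟩ := C.exists_lift g
  have h3 := hx.conj hk
  rw [hg] at h3
  obtain ⟨c, hc, hyc⟩ := hy.exists_sc h3
  have e1 : (k * x * k⁻¹) * (k * x * k⁻¹) = x * x := by
    have : (k * x * k⁻¹) * (k * x * k⁻¹) = k * (x * x) * k⁻¹ := by group
    rw [this]
    rcases h1 with h | h
    · rw [h]; group
    · rw [h, ← m1_comm, mul_assoc, mul_inv_cancel, mul_one]
  have e2 : y * y = sc (c ^ 2) * (x * x) := by
    rw [hyc, sc_pow, pow_two]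
    calc sc c * (k * x * k⁻¹) * (sc c * (k * x * k⁻¹)) = sc c * ((k * x * k⁻¹) * sc c) * (k * x * k⁻¹) := by group
      _ = sc c * (sc c * (k * x * k⁻¹)) * (k * x * k⁻¹) := by rw [sc_comm c (k * x * k⁻¹)]
      _ = sc c * sc c * ((k * x * k⁻¹) * (k * x * k⁻¹)) := by group
      _ = sc c * sc c * (x * x) := by rw [e1]
  have : Nonempty ι := S.nonempty
  have h4 : c ^ 2 = 1 ∨ c ^ 2 = -1 := by
    rcases h1 with h | h <;> rcases h2 with h' | h'
    · left; apply sc_inj (ι := ι); rw [sc_one, ← h', e2, h, mul_one]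
    · right; apply sc_inj (ι := ι); rw [← m1, ← h', e2, h, mul_one]
    · right
      apply sc_inj (ι := ι)
      rw [← m1]
      have h5 := e2
      rw [h', h] at h5
      calc sc (c ^ 2) = sc (c ^ 2) * (m1 * m1) := by rw [m1_mul_m1, mul_one]
        _ = (sc (c ^ 2) * m1) * m1 := by rw [mul_assoc]
        _ = m1 := by rw [← h5, one_mul]
    · left
      apply sc_inj (ι := ι)
      rw [sc_one]
      have h5 := e2
      rw [h', h] at h5
      calc sc (c ^ 2) = sc (c ^ 2) * (m1 * m1) := by rw [m1_mul_m1, mul_one]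
        _ = (sc (c ^ 2) * m1) * m1 := by rw [mul_assoc]
        _ = 1 := by rw [← h5, m1_mul_m1]
  rw [e2, S.sq_one hc h4, sc_one, one_mul]

/-- commutation up to a sign, and the square of the product -/
theorem comm_sign {x y : GL ι F} {τ τ' : T} (hx : C.L x τ) (hy : C.L y τ') (hc : τ * τ' = τ' * τ)
    (h1 : x * x = 1 ∨ x * x = m1) (h2 : y * y = 1 ∨ y * y = m1) :
    (x * y = y * x ∧ (x * y) * (x * y) = (x * x) * (y * y)) ∨
      (x * y = m1 * (y * x) ∧ (x * y) * (x * y) = m1 * ((x * x) * (y * y))) := by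
  have : Nonempty ι := S.nonempty
  have h3 := hx.mul hy
  have h4 := hy.mul hx
  rw [← hc] at h4
  obtain ⟨c, hcP, hxy⟩ := h3.exists_sc h4
  have hcen : ∀ z : GL ι F, (x * x) * z = z * (x * x) := by
    intro z
    rcases h1 with h | h
    · rw [h, one_mul, mul_one]
    · rw [h, m1_comm]
  have e1 : sc (c ^ 2) = (1 : GL ι F) := by
    -- `x x y = x (c y x) = c (x y) x = c c y x x`
    have a1 : (x * x) * y = sc c * sc c * (y * (x * x)) := by
      calc (x * x) * y = x * (x * y) := by group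
        _ = x * (sc c * (y * x)) := by rw [hxy]
        _ = (x * sc c) * (y * x) := by group
        _ = (sc c * x) * (y * x) := by rw [sc_comm c x]
        _ = sc c * ((x * y) * x) := by group
        _ = sc c * (sc c * (y * x) * x) := by rw [hxy]
        _ = sc c * sc c * (y * (x * x)) := by group
    rw [hcen] at a1
    rw [sc_pow, pow_two]
    calc sc c * sc c = sc c * sc c * (y * (x * x)) * (y * (x * x))⁻¹ := by group
      _ = 1 := by rw [← a1, mul_inv_cancel]
  have e2 : c ^ 2 = 1 := by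
    apply sc_inj (ι := ι)
    rw [e1, sc_one]
  rcases S.pm_of_sq e2 with rfl | rfl
  · left
    have h5 : x * y = y * x := by rw [hxy, sc_one, one_mul]
    refine ⟨h5, ?_⟩
    calc x * y * (x * y) = x * (y * x) * y := by group
      _ = x * (x * y) * y := by rw [h5]
      _ = (x * x) * (y * y) := by group
  · right
    have h5 : x * y = m1 * (y * x) := hxy
    refine ⟨h5, ?_⟩
    have h6 : y * x = m1 * (x * y) := by rw [h5, ← mul_assoc, m1_mul_m1, one_mul]
    calc x * y * (x * y) = x * (y * x) * y := by group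
      _ = x * (m1 * (x * y)) * y := by rw [h6]
      _ = (x * m1) * (x * (y * y)) := by group
      _ = (m1 * x) * (x * (y * y)) := by rw [m1_comm x]
      _ = m1 * ((x * x) * (y * y)) := by group

/-- a lift with square `± 1` -/
theorem exists_pm {τ : T} (hτ : τ ∈ TV) : ∃ x, C.L x τ ∧ (x * x = 1 ∨ x * x = m1) := by
  obtain ⟨x, hx⟩ := C.exists_lift τ
  have h1 := hx.mul hx
  rw [S.sq τ hτ] at h1
  obtain ⟨hm, c, hc⟩ := Cov.L.one_iff.1 h1
  have h6 := S.pow c (hc ▸ hm)
  refine ⟨x * x * x, ?_, ?_⟩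
  · have := (hx.mul hx).mul hx
    rwa [S.sq τ hτ, one_mul] at this
  · have e1 : (x * x * x) * (x * x * x) = (x * x) * (x * x) * (x * x) := by group
    rw [e1, hc, ← sc_mul, ← sc_mul]
    have h2 : (c * c * c) ^ 2 = 1 := by rw [← h6]; rw [← pow_three', ← pow_mul]
    rcases S.pm_of_sq h2 with h | h
    · left; rw [h, sc_one]
    · right; rw [h, m1]

/-- **Class elements lift to involutions.** -/
theorem sq_eq_one {x : GL ι F} {τ : T} (hx : C.L x τ) (hτ : τ ∈ TV) (h1 : x * x = 1 ∨ x * x = m1) : x * x = 1 := by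
  have : Nonempty ι := S.nonempty
  rcases h1 with h1 | h1
  · exact h1
  exfalso
  -- all class elements have lifts of square `-1`
  have all : ∀ (y : GL ι F) (σ : T), C.L y σ → σ ∈ TV → (y * y = 1 ∨ y * y = m1) → y * y = m1 := by
    intro y σ hy hσ h2
    rw [← S.same_sq hx hy hτ hσ (Or.inr h1) h2, h1]
  obtain ⟨a, ha, b, hb, c, hc, hab, hac, hbc, habc⟩ := S.ex
  obtain ⟨x1, l1, q1⟩ := S.exists_pm ha
  obtain ⟨x2, l2, q2⟩ := S.exists_pm hb
  obtain ⟨x3, l3, q3⟩ := S.exists_pm hc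
  have comm_of : ∀ {σ τ : T}, σ ∈ TV → τ ∈ TV → σ * τ ∈ TV → σ * τ = τ * σ := by
    intro σ τ h h' h''
    have e1 := S.sq _ h''
    have e2 : τ * σ = (σ * σ) * (τ * σ) * (τ * τ) := by rw [S.sq _ h, S.sq _ h', one_mul, mul_one]
    rw [e2]
    calc σ * τ = σ * (1 : T) * τ := by rw [mul_one]
      _ = σ * (σ * τ * (σ * τ)) * τ := by rw [e1]
      _ = σ * σ * (τ * σ) * (τ * τ) := by group
  have anti : ∀ {u v : GL ι F} {σ τ : T}, C.L u σ → C.L v τ → σ ∈ TV → τ ∈ TV → σ * τ ∈ TV →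
      (u * u = 1 ∨ u * u = m1) → (v * v = 1 ∨ v * v = m1) → u * v = m1 * (v * u) ∧ (u * v) * (u * v) = m1 := by
    intro u v σ τ hu hv h h' h'' hq hq'
    have e1 := all u σ hu h hq
    have e2 := all v τ hv h' hq'
    rcases S.comm_sign hu hv (comm_of h h' h'') hq hq' with ⟨e3, e4⟩ | ⟨e3, e4⟩
    · exfalso
      rw [e1, e2, m1_mul_m1] at e4
      have e5 := all _ _ (hu.mul hv) h'' (Or.inl e4)
      rw [e4] at e5
      exact S.m1_ne e5.symm
    · rw [e1, e2, m1_mul_m1, mul_one] at e4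
      exact ⟨e3, e4⟩
  obtain ⟨a12, -⟩ := anti l1 l2 ha hb hab q1 q2
  obtain ⟨a13, -⟩ := anti l1 l3 ha hc hac q1 q3
  obtain ⟨-, s23⟩ := anti l2 l3 hb hc hbc q2 q3
  obtain ⟨a123, -⟩ := anti l1 (l2.mul l3) ha hbc habc q1 (Or.inr s23)
  -- but `x1` commutes with `x2 x3`
  have e1 : x1 * (x2 * x3) = (x2 * x3) * x1 := by
    calc x1 * (x2 * x3) = (x1 * x2) * x3 := by group
      _ = m1 * (x2 * x1) * x3 := by rw [a12]
      _ = m1 * (x2 * (x1 * x3)) := by group
      _ = m1 * (x2 * (m1 * (x3 * x1))) := by rw [a13]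
      _ = m1 * ((x2 * m1) * (x3 * x1)) := by group
      _ = m1 * ((m1 * x2) * (x3 * x1)) := by rw [m1_comm x2]
      _ = (m1 * m1) * ((x2 * x3) * x1) := by group
      _ = (x2 * x3) * x1 := by rw [m1_mul_m1, one_mul]
  rw [e1] at a123
  apply S.m1_ne (ι := ι)
  calc (m1 : GL ι F) = m1 * ((x2 * x3) * x1) * ((x2 * x3) * x1)⁻¹ := by group
    _ = 1 := by rw [← a123, mul_inv_cancel]

theorem exists_IL {τ : T} (hτ : τ ∈ TV) : ∃ x, IL C x τ := by
  obtain ⟨x, hx, h⟩ := S.exists_pm hτ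
  exact ⟨x, hx, S.sq_eq_one hx hτ h⟩

theorem IL_unique {x y : GL ι F} {τ : T} (hx : IL C x τ) (hy : IL C y τ) : x = y ∨ x = m1 * y := by
  have : Nonempty ι := S.nonempty
  obtain ⟨c, hc, h⟩ := hx.1.exists_sc hy.1
  have h1 : sc (c ^ 2) = (1 : GL ι F) := by
    have h2 := hx.2
    rw [h] at h2
    calc sc (c ^ 2) = sc c * sc c * (y * y) := by rw [hy.2, sc_pow, pow_two, mul_one]
      _ = sc c * (sc c * y) * y := by group
      _ = sc c * (y * sc c) * y := by rw [sc_comm c y]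
      _ = sc c * y * (sc c * y) := by group
      _ = 1 := h2
  have h2 : c ^ 2 = 1 := by apply sc_inj (ι := ι); rw [h1, sc_one]
  rcases S.pm_of_sq h2 with rfl | rfl
  · left; rw [h, sc_one, one_mul]
  · right; exact h

theorem IL_neg {x : GL ι F} {τ : T} (hx : IL C x τ) : IL C (m1 * x) τ := by
  refine ⟨hx.1.sc_mul S.neg, ?_⟩
  calc m1 * x * (m1 * x) = m1 * (x * m1) * x := by group
    _ = m1 * (m1 * x) * x := by rw [m1_comm x]
    _ = (m1 * m1) * (x * x) := by group
    _ = 1 := by rw [m1_mul_m1, hx.2, one_mul]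

omit S in
theorem IL_conj {x g : GL ι F} {τ γ : T} (hx : IL C x τ) (hg : C.L g γ) : IL C (g * x * g⁻¹) (γ * τ * γ⁻¹) := by
  refine ⟨hx.1.conj hg, ?_⟩
  calc g * x * g⁻¹ * (g * x * g⁻¹) = g * (x * x) * g⁻¹ := by group
    _ = 1 := by rw [hx.2]; group

/-- involutory lifts of `τ`, `τ'` commute if `τ τ'` is in the class -/
theorem IL_comm {x y : GL ι F} {τ τ' : T} (hx : IL C x τ) (hy : IL C y τ') (hc : τ * τ' = τ' * τ) (h : τ * τ' ∈ TV) :
    x * y = y * x ∧ IL C (x * y) (τ * τ') := by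
  have hL := hx.1.mul hy.1
  have key : ∀ e : GL ι F, (x * y) * (x * y) = e → (e = 1 ∨ e = m1) → (x * y) * (x * y) = 1 := by
    intro e he h'
    exact S.sq_eq_one hL h (by rw [he]; exact h')
  rcases S.comm_sign hx.1 hy.1 hc (Or.inl hx.2) (Or.inl hy.2) with ⟨h1, h2⟩ | ⟨h1, h2⟩
  · rw [hx.2, hy.2, one_mul] at h2
    exact ⟨h1, hL, h2⟩
  · exfalso
    rw [hx.2, hy.2, one_mul, mul_one] at h2
    have h3 := key _ h2 (Or.inr rfl)
    rw [h2] at h3
    exact S.m1_ne h3

end Setup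

end Cfsg.Agent.H913.N6
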