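import Cfsg.Agent.H913.N6Case

/-!
# Maximal overgroups contain a swapping element (helper913)
-/

set_option autoImplicit false
set_option linter.unusedSectionVars false

namespace Cfsg.Agent.H913.N6

open Cfsg Cfsg.Geo Matrix
open Module (Basis)
open Cfsg.Agent.H915.LD (Core Soc toSoc tr)
open Cfsg.Agent.H906.SL3Par Cfsg.Agent.H906.L34 Cfsg.Agent.H906.T14
open scoped Pointwise

variable {ι : Type} [Fintype ι] [DecidableEq ι] {F : Type*} [Field F] {P H A : Subgroup (GL ι F)}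
  {K : Type*} [Field K] [Fintype K] {C : Cov P (PT K)}

/-- the cycle `(0 1 2)` as a permutation -/
def cyc : Equiv.Perm (Fin 6) := ⟨![1, 2, 0, 3, 4, 5], ![2, 0, 1, 3, 4, 5], by decide, by decide⟩

theorem cyc_contra : ∀ t : Fin 6 → ℤˣ, ¬ (∀ i j, i ≠ j → Cz (cyc i) (cyc j) = (t i : ℤ) * t j * Cz i j) := by
  intro t h
  have h1 := h 0 1 (by decide)
  have h2 := h 1 4 (by decide)
  have h3 := h 0 4 (by decide)
  have e1 : Cz (cyc 0) (cyc 1) = 1 := by decide +kernel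
  have e2 : Cz (cyc 1) (cyc 4) = -1 := by decide +kernel
  have e3 : Cz (cyc 0) (cyc 4) = -1 := by decide +kernel
  have f1 : Cz 0 1 = 1 := by decide +kernel
  have f2 : Cz 1 4 = -1 := by decide +kernel
  have f3 : Cz 0 4 = 1 := by decide +kernel
  rw [e1, f1] at h1
  rw [e2, f2] at h2
  rw [e3, f3] at h3
  have g1 := Int.units_coe_mul_self (t 1)
  have : (1 : ℤ) = -1 := by
    calc (1 : ℤ) = (t 0 : ℤ) * t 1 * 1 * (-((t 1 : ℤ) * t 4 * -1)) := by rw [← h1, ← h2]; norm_num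
      _ = ((t 1 : ℤ) * t 1) * ((t 0 : ℤ) * t 4 * 1) := by ring
      _ = -1 := by rw [g1, ← h3]; norm_num
  norm_num at this

/-- **A maximal overgroup contains an element not preserving the class of `R_q`.** -/
theorem exists_bad (hK : Fintype.card K = 4) (S : Setup P C (TVK K)) (h3 : (3 : F) ≠ 0)
    {b g : Basis (Fin 6) F (ι → F)} {θ : F} (W : Two C b g θ) (hmax : IsMaximalIn A H) (hPH : P ≤ H)
    (hnorm : ∀ h ∈ H, ∀ x ∈ P, h * x * h⁻¹ ∈ P)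
    (hyA : ∀ x : GL ι F, (x : Matrix ι ι F).det = 1 → ap x (b 0) = b 1 → ap x (b 1) = b 2 → ap x (b 2) = b 0 →
      ap x (b 3) = b 3 → ap x (b 4) = b 4 → ap x (b 5) = b 5 → x ∈ A)
    (hEA : ∀ x : GL ι F, (x : Matrix ι ι F).det = 1 → ap x (b 0) = (2 : F)⁻¹ • (θ • b 0 - b 1) →
      ap x (b 1) = (2 : F)⁻¹ • (b 0 - θ • b 1) → ap x (b 2) = b 2 → ap x (b 3) = b 3 → ap x (b 4) = b 4 →
      ap x (b 5) = b 5 → x ∈ A) :
    ∃ h ∈ H, ∃ φ : MulAut (PT K), HA C h φ ∧ ∀ γ : PT K, MulAut.conj γ • φ • Rq K ≠ Rq K := by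
  by_contra hcon
  push Not at hcon
  have hcon' : ∀ h ∈ H, ∀ φ : MulAut (PT K), HA C h φ → ∃ γ : PT K, MulAut.conj γ • φ • Rq K = Rq K := by
    intro h hh φ hφ
    exact hcon h hh φ hφ
  have haut : ∀ h ∈ H, ∃ φ : MulAut (PT K), HA C h φ := by
    intro h hh
    obtain ⟨φ, hφ⟩ := C.exists_aut (h := h) (hnorm h hh) (fun x hx => by
      have := hnorm h⁻¹ (H.inv_mem hh) x hx
      rwa [inv_inv] at this)
    exact ⟨φ, hφ⟩
  -- `H` stabilises the lines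
  have hOm := W.Om_eq S hK
  have hstep : ∀ h ∈ H, ∀ v ∈ Om b θ, ap h v ∈ Om b θ := by
    intro h hh v hv
    rw [hOm] at hv ⊢
    obtain ⟨p, hp, i, k, hk, rfl⟩ := hv
    obtain ⟨φ, hφ⟩ := haut h hh
    obtain ⟨γ, hγ⟩ := hcon' h hh φ hφ
    obtain ⟨q, hq⟩ := C.exists_lift γ
    obtain ⟨σ, a, hσ⟩ := frame_map S.two W.hg W.hg ((HA.of_L hq).mul hφ) (by rw [mul_smul, hγ])
    have h1 := hσ i
    refine ⟨(h * p * h⁻¹) * q⁻¹, P.mul_mem (hnorm h hh p hp) (P.inv_mem hq.mem), σ i, k * a i, mul_ne_zero hk h1.1, ?_⟩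
    have e1 : h * p * h⁻¹ * q⁻¹ * (q * h) = h * p := by group
    have e2 : ap h (ap p (g i)) = a i • ap (h * p * h⁻¹ * q⁻¹) (g (σ i)) := by
      calc ap h (ap p (g i)) = ap (h * p) (g i) := (ap_mul _ _ _).symm
        _ = ap (h * p * h⁻¹ * q⁻¹ * (q * h)) (g i) := by rw [e1]
        _ = _ := by rw [ap_mul (h * p * h⁻¹ * q⁻¹), h1.2, ap_smul]
    rw [ap_smul, e2, smul_smul]
  have hHs : H ≤ StabOm b θ := by
    intro h hh v
    refine ⟨fun hv => ?_, hstep h hh v⟩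
    have := hstep h⁻¹ (H.inv_mem hh) _ hv
    rwa [← ap_mul, inv_mul_cancel, ap_one] at this
  have hAS : A ⊓ StabOm b θ = H := by
    rcases hmax.2 (A ⊓ StabOm b θ) (le_inf hmax.1.le hHs) inf_le_left with h | h
    · exact h
    · exfalso
      obtain ⟨x, d, x0, x1, x2, x3, x4, x5⟩ := exists_E b W.hθ S.two
      have hx : x ∈ A := hEA x d x0 x1 x2 x3 x4 x5
      rw [← h] at hx
      exact E_not_mem W.hθ S.two h3 x0 x2 hx.2
  -- the cycle
  obtain ⟨y, d, y0, y1, y2, y3, y4, y5⟩ := exists_y b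
  have hyb : ∀ i, ap y (b i) = b (cyc i) := by
    intro i
    fin_cases i
    · exact y0
    · exact y1
    · exact y2
    · exact y3
    · exact y4
    · exact y5
  have hyH : y ∈ H := by
    rw [← hAS]
    refine ⟨hyA y d y0 y1 y2 y3 y4 y5, ?_⟩
    have hs : ∀ v ∈ Om b θ, ap y v ∈ Om b θ :=
      step_Om W.hθ S.two one_ne_zero (sem_y θ y0 y1 y2 y3 y4 y5) ok10
    have hy3 : y * (y * y) = 1 := by
      apply ap_ext b
      intro i
      rw [ap_mul, ap_mul, hyb, hyb, hyb, ap_one]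
      fin_cases i <;> rfl
    intro v
    refine ⟨fun hv => ?_, hs v⟩
    have h1 := hs _ (hs _ hv)
    rw [← ap_mul, ← ap_mul] at h1
    have e : y * y * y = 1 := by rw [mul_assoc, hy3]
    have e' : y * (y * y) = 1 := hy3
    first
    | rwa [e, ap_one] at h1
    | rwa [e', ap_one] at h1
  obtain ⟨φ, hφ⟩ := haut y hyH
  have hfT := fin_T (K := K)
  -- `y` fixes `R_l`
  have hl : φ • Rl K = Rl K := by
    refine Subgroup.eq_of_le_of_card_ge ?_ (by rw [card_smul])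
    rintro _ ⟨r, hr, rfl⟩
    obtain ⟨x, hx⟩ := S.exists_IL' (rad_l hK) hr
    obtain ⟨s, hs, hxs⟩ := W.hb.diag x ⟨r, hr, hx⟩
    obtain ⟨x', ⟨r', hr', hx'⟩, hxs'⟩ := W.hb.full (s ∘ cyc.symm) (by rw [← hs]; exact Equiv.prod_comp cyc.symm s)
    have h1 : Sgn b (y * x * y⁻¹) (s ∘ cyc.symm) := by
      intro i
      have e1 : ap y⁻¹ (b i) = b (cyc.symm i) := by
        apply ap_inv_eq
        rw [hyb, Equiv.apply_symm_apply]
      rw [ap_mul, ap_mul, e1, hxs, ap_smul, hyb, Equiv.apply_symm_apply]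
      rfl
    have h2 := h1.eq hxs'
    have h3 := hφ x r hx.1
    rw [h2] at h3
    have h4 := h3.unique hx'.1
    change φ r ∈ Rl K
    rw [h4]
    exact hr'
  obtain ⟨γ, hγ⟩ := hcon' y hyH φ hφ
  have e2 : φ • Rq K = MulAut.conj γ⁻¹ • Rq K := by
    rw [← hγ, map_inv, inv_smul_smul, hγ]
  have e3 : Rl K ⊔ MulAut.conj γ⁻¹ • Rq K = ⊤ := by
    have := smul_sup_top (T := PT K) (R := Rl K) (R' := Rq K) gen_lq φ
    rwa [hl, e2] at this
  obtain ⟨ρ, hρ, hρ'⟩ := opp hK γ⁻¹ e3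
  obtain ⟨r, hr⟩ := S.exists_IL' (rad_l hK) hρ
  obtain ⟨s, -, hrs⟩ := W.hb.diag r ⟨ρ, hρ, hr⟩
  obtain ⟨σ, a, hσ⟩ := frame_map S.two W.hg W.hg ((HA.of_L hr.1).mul hφ) (by rw [mul_smul, e2, hρ'])
  refine cyc_contra (fun i => s (cyc i)) ?_
  refine alg_N W.hθ S.two h3 W.cmb (N := r * y) (fun i => ?_) hσ
  rw [ap_mul, hyb, hrs]

/-- **The main result on overgroups.** -/
theorem exists_det (hK : Fintype.card K = 4) (S : Setup P C (TVK K)) (h3 : (3 : F) ≠ 0)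
    {b g : Basis (Fin 6) F (ι → F)} {θ : F} (W : Two C b g θ) (hmax : IsMaximalIn A H) (hPH : P ≤ H)
    (hnorm : ∀ h ∈ H, ∀ x ∈ P, h * x * h⁻¹ ∈ P)
    (hyA : ∀ x : GL ι F, (x : Matrix ι ι F).det = 1 → ap x (b 0) = b 1 → ap x (b 1) = b 2 → ap x (b 2) = b 0 →
      ap x (b 3) = b 3 → ap x (b 4) = b 4 → ap x (b 5) = b 5 → x ∈ A)
    (hEA : ∀ x : GL ι F, (x : Matrix ι ι F).det = 1 → ap x (b 0) = (2 : F)⁻¹ • (θ • b 0 - b 1) →
      ap x (b 1) = (2 : F)⁻¹ • (b 0 - θ • b 1) → ap x (b 2) = b 2 → ap x (b 3) = b 3 → ap x (b 4) = b 4 →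
      ap x (b 5) = b 5 → x ∈ A) :
    ∃ h ∈ H, ∃ (σ : Equiv.Perm (Fin 6)) (x : Fin 6 → F), Mon2 b g h σ x ∧
      (h : Matrix ι ι F).det = -512 * x 0 ^ 6 := by
  obtain ⟨h, hh, φ, hφ, hno⟩ := exists_bad hK S h3 W hmax hPH hnorm hyA hEA
  obtain ⟨h', hh', φ', hφ', e1, e2⟩ := exists_swap hK S hPH hh hφ hno
  obtain ⟨σ, x, hx⟩ := frame_map S.two W.hb W.hg hφ' e1
  obtain ⟨τ, y, hy⟩ := frame_map S.two W.hg W.hb hφ' e2
  exact ⟨h', hh', σ, x, hx, det_swap W.hθ S.two h3 W.cmb hx hy⟩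

end Cfsg.Agent.H913.N6
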