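import Mathlib

/-!
# The 126 lines of the hexacode-like system: tables (helper913)

`Z2` : pairs `a + b θ`, `θ ^ 2 = -3`; lines are coded in base 4 (digits `0, 1, -1, θ`).
-/

set_option autoImplicit false
set_option linter.unusedVariables false
set_option maxRecDepth 100000

namespace Cfsg.Agent.H913.N6

/-- `a + b θ` -/
abbrev Z2 := ℤ × ℤ

def zadd (x y : Z2) : Z2 := (x.1 + y.1, x.2 + y.2)
def zsub (x y : Z2) : Z2 := (x.1 - y.1, x.2 - y.2)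
def zth (x : Z2) : Z2 := (-3 * x.2, x.1)
def zc (c : ℤ) (x : Z2) : Z2 := (c * x.1, c * x.2)
def zmul (x y : Z2) : Z2 := (x.1 * y.1 - 3 * (x.2 * y.2), x.1 * y.2 + x.2 * y.1)

/-- the conference matrix -/
def Cz : Fin 6 → Fin 6 → ℤ := ![![0, 1, 1, 1, 1, 1], ![1, 0, 1, -1, -1, 1], ![1, 1, 0, 1, -1, -1],
  ![1, -1, 1, 0, 1, -1], ![1, -1, -1, 1, 0, 1], ![1, 1, -1, -1, 1, 0]]

/-- digits -/
def dig (n : ℕ) : Z2 := if n = 0 then (0, 0) else if n = 1 then (1, 0) else if n = 2 then (-1, 0) else (0, 1)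

def dec (n : ℕ) (k : Fin 6) : Z2 := dig (n / 4 ^ (k : ℕ) % 4)

/-- the codes of the lines -/
def LT : List ℕ := [1367, 1693, 2677, 2521, 1897, 3493, 2727, 2715, 2667, 2475, 1707, 2413, 1710, 1630, 1438, 2718,
  2682, 1465, 2742, 2422, 1654, 2518, 2538, 1765, 2778, 1498, 1894, 1882, 1962, 2965, 2922, 3498,
  3478, 3430, 3750, 3673, 1387, 1435, 1627, 2395, 1513, 3685, 2485, 2905, 1447, 1639, 2407, 3433,
  1957, 2461, 1753, 1687, 2455, 2917, 1453, 3733, 1657, 2647, 2533, 3481, 1717, 2653, 2425, 1945,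
  1645, 2773, 2398, 2478, 2670, 1390, 2733, 2745, 3418, 1373, 1493, 2982, 1877, 2790, 3753, 1402,
  1462, 1510, 1722, 2490, 2793, 1397, 3738, 2970, 3413, 1770, 3690, 1750, 1942, 2985, 2902, 3670,
  20, 68, 260, 1028, 2064, 576, 80, 272, 1040, 2304, 132, 320, 1088, 528, 2052, 1280,
  36, 2112, 516, 144, 257, 33, 2049, 65, 5, 17, 9, 129, 513, 1025]

def LL (n : ℕ) : Fin 6 → Z2 := dec (LT.getD n 0)

def T0 : List (ℕ × ℤ × ℤ) := [(6,-1,0), (11,-1,0), (16,1,0), (21,1,0), (26,1,0), (31,1,0), (0,-1,0), (36,-1,0), (37,-1,0), (38,-1,0),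
  (39,-1,0), (1,-1,0), (66,-1,0), (67,-1,0), (68,-1,0), (69,-1,0), (2,1,0), (80,1,0), (71,1,0), (62,1,0),
  (56,1,0), (3,1,0), (58,1,0), (89,1,0), (65,1,0), (74,1,0), (4,1,0), (76,1,0), (48,1,0), (87,1,0),
  (53,1,0), (5,1,0), (59,1,0), (47,1,0), (78,1,0), (95,1,0), (7,-1,0), (8,-1,0), (9,-1,0), (10,-1,0),
  (81,1,0), (90,1,0), (83,1,0), (94,1,0), (57,-1,0), (52,-1,0), (51,-1,0), (33,1,0), (28,1,0), (64,-1,0),
  (91,1,0), (46,-1,0), (45,-1,0), (30,1,0), (61,-1,0), (86,1,0), (20,1,0), (44,-1,0), (22,1,0), (32,1,0),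
  (82,1,0), (54,-1,0), (19,1,0), (92,1,0), (49,-1,0), (24,1,0), (12,-1,0), (13,-1,0), (14,-1,0), (15,-1,0),
  (73,-1,0), (18,1,0), (88,1,0), (70,-1,0), (25,1,0), (93,1,0), (27,1,0), (84,1,0), (34,1,0), (85,1,0),
  (17,1,0), (40,1,0), (60,1,0), (42,1,0), (77,1,0), (79,1,0), (55,1,0), (29,1,0), (72,1,0), (23,1,0),
  (41,1,0), (50,1,0), (63,1,0), (75,1,0), (43,1,0), (35,1,0), (112,-1,0), (106,-1,0), (114,-1,0), (110,-1,0),
  (100,1,0), (101,1,0), (102,1,0), (103,1,0), (104,1,0), (105,1,0), (97,-1,0), (107,1,0), (108,1,0), (109,1,0),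
  (99,-1,0), (111,1,0), (96,-1,0), (113,1,0), (98,-1,0), (115,1,0), (124,-1,0), (121,-1,0), (125,-1,0), (123,-1,0),
  (120,-1,0), (117,-1,0), (122,-1,0), (119,-1,0), (116,-1,0), (118,-1,0)]

def T1 : List (ℕ × ℤ × ℤ) := [(7,-1,0), (12,1,0), (17,-1,0), (22,1,0), (27,1,0), (32,1,0), (36,-1,0), (0,-1,0), (44,-1,0), (45,-1,0),
  (46,-1,0), (66,1,0), (1,1,0), (64,1,0), (54,1,0), (70,1,0), (80,-1,0), (2,-1,0), (79,-1,0), (82,-1,0),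
  (83,-1,0), (58,1,0), (3,1,0), (91,1,0), (84,1,0), (40,1,0), (76,1,0), (4,1,0), (63,1,0), (75,1,0),
  (43,1,0), (59,1,0), (5,1,0), (88,1,0), (55,1,0), (90,1,0), (6,-1,0), (57,-1,0), (52,-1,0), (51,-1,0),
  (25,1,0), (95,1,0), (56,-1,0), (30,1,0), (8,-1,0), (9,-1,0), (10,-1,0), (72,1,0), (92,1,0), (67,1,0),
  (89,1,0), (39,-1,0), (38,-1,0), (94,1,0), (14,1,0), (34,1,0), (42,-1,0), (37,-1,0), (21,1,0), (31,1,0),
  (62,-1,0), (68,1,0), (60,-1,0), (28,1,0), (13,1,0), (77,1,0), (11,1,0), (49,1,0), (61,1,0), (73,1,0),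
  (15,1,0), (85,-1,0), (47,1,0), (69,1,0), (81,1,0), (29,1,0), (26,1,0), (65,1,0), (86,1,0), (18,-1,0),
  (16,-1,0), (74,1,0), (19,-1,0), (20,-1,0), (24,1,0), (71,-1,0), (78,1,0), (93,1,0), (33,1,0), (50,1,0),
  (35,1,0), (23,1,0), (48,1,0), (87,1,0), (53,1,0), (41,1,0), (112,1,0), (97,1,0), (98,1,0), (99,1,0),
  (104,-1,0), (101,1,0), (115,-1,0), (109,-1,0), (100,-1,0), (105,1,0), (106,1,0), (107,1,0), (108,1,0), (103,-1,0),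
  (110,1,0), (111,1,0), (96,1,0), (113,1,0), (114,1,0), (102,-1,0), (124,-1,0), (117,-1,0), (125,-1,0), (123,-1,0),
  (122,-1,0), (121,-1,0), (120,-1,0), (119,-1,0), (116,-1,0), (118,-1,0)]

def T2 : List (ℕ × ℤ × ℤ) := [(8,-1,0), (13,1,0), (18,1,0), (23,-1,0), (28,1,0), (33,1,0), (37,-1,0), (44,-1,0), (0,-1,0), (51,-1,0),
  (52,-1,0), (67,1,0), (64,1,0), (1,1,0), (73,1,0), (61,1,0), (71,1,0), (79,1,0), (2,1,0), (42,1,0),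
  (60,1,0), (89,-1,0), (91,-1,0), (3,-1,0), (81,-1,0), (77,-1,0), (48,1,0), (63,1,0), (4,1,0), (94,1,0),
  (93,1,0), (47,1,0), (88,1,0), (5,1,0), (41,1,0), (86,1,0), (57,-1,0), (6,-1,0), (46,-1,0), (45,-1,0),
  (65,-1,0), (34,1,0), (19,1,0), (87,1,0), (7,-1,0), (39,-1,0), (38,-1,0), (31,1,0), (26,1,0), (66,1,0),
  (58,-1,0), (9,-1,0), (10,-1,0), (75,1,0), (69,1,0), (95,1,0), (82,1,0), (36,-1,0), (50,-1,0), (72,1,0),
  (20,1,0), (15,1,0), (83,1,0), (27,1,0), (12,1,0), (40,-1,0), (49,1,0), (11,1,0), (70,1,0), (54,1,0),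
  (68,1,0), (16,1,0), (59,1,0), (14,1,0), (84,-1,0), (53,1,0), (92,1,0), (25,-1,0), (90,1,0), (17,1,0),
  (85,1,0), (24,-1,0), (56,1,0), (62,1,0), (74,-1,0), (80,1,0), (35,1,0), (43,1,0), (32,1,0), (21,-1,0),
  (78,1,0), (22,-1,0), (76,1,0), (30,1,0), (29,1,0), (55,1,0), (96,1,0), (106,1,0), (98,1,0), (99,1,0),
  (100,1,0), (107,-1,0), (115,1,0), (103,1,0), (104,1,0), (105,1,0), (97,1,0), (101,-1,0), (113,-1,0), (109,1,0),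
  (110,1,0), (111,1,0), (112,1,0), (108,-1,0), (114,1,0), (102,1,0), (124,-1,0), (121,-1,0), (125,-1,0), (119,-1,0),
  (122,-1,0), (117,-1,0), (120,-1,0), (123,-1,0), (116,-1,0), (118,-1,0)]

def T3 : List (ℕ × ℤ × ℤ) := [(9,-1,0), (14,1,0), (19,1,0), (24,1,0), (29,-1,0), (34,1,0), (38,-1,0), (45,-1,0), (51,-1,0), (0,-1,0),
  (57,-1,0), (68,1,0), (54,1,0), (73,1,0), (1,1,0), (49,1,0), (62,1,0), (82,1,0), (42,1,0), (2,1,0),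
  (85,1,0), (65,1,0), (84,1,0), (81,1,0), (3,1,0), (50,1,0), (87,-1,0), (75,-1,0), (94,-1,0), (4,-1,0),
  (92,-1,0), (78,1,0), (55,1,0), (41,1,0), (5,1,0), (72,1,0), (52,-1,0), (46,-1,0), (6,-1,0), (44,-1,0),
  (89,1,0), (33,1,0), (18,1,0), (48,-1,0), (39,-1,0), (7,-1,0), (37,-1,0), (90,1,0), (43,-1,0), (15,1,0),
  (25,1,0), (8,-1,0), (36,-1,0), (63,-1,0), (12,1,0), (32,1,0), (79,1,0), (10,-1,0), (77,1,0), (86,1,0),
  (80,1,0), (66,1,0), (16,1,0), (53,-1,0), (69,1,0), (21,1,0), (61,1,0), (70,1,0), (11,1,0), (64,1,0),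
  (67,1,0), (83,1,0), (35,1,0), (13,1,0), (91,1,0), (27,-1,0), (93,-1,0), (58,1,0), (31,1,0), (56,1,0),
  (60,1,0), (23,1,0), (17,1,0), (71,1,0), (22,1,0), (20,1,0), (59,1,0), (26,-1,0), (95,1,0), (40,1,0),
  (47,1,0), (74,1,0), (30,-1,0), (76,-1,0), (28,-1,0), (88,1,0), (96,1,0), (97,1,0), (114,1,0), (99,1,0),
  (100,1,0), (107,1,0), (102,1,0), (109,1,0), (104,1,0), (111,-1,0), (106,1,0), (101,1,0), (108,1,0), (103,1,0),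
  (110,1,0), (105,-1,0), (112,1,0), (113,1,0), (98,1,0), (115,1,0), (116,-1,0), (121,-1,0), (125,-1,0), (123,-1,0),
  (122,-1,0), (117,-1,0), (120,-1,0), (119,-1,0), (124,-1,0), (118,-1,0)]

def T4 : List (ℕ × ℤ × ℤ) := [(10,-1,0), (15,1,0), (20,1,0), (25,1,0), (30,1,0), (35,-1,0), (39,-1,0), (46,-1,0), (52,-1,0), (57,-1,0),
  (0,-1,0), (69,1,0), (70,1,0), (61,1,0), (49,1,0), (1,1,0), (56,1,0), (83,1,0), (60,1,0), (85,1,0),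
  (2,1,0), (74,1,0), (40,1,0), (77,1,0), (50,1,0), (3,1,0), (53,1,0), (43,1,0), (93,1,0), (92,1,0),
  (4,1,0), (95,-1,0), (90,-1,0), (86,-1,0), (72,-1,0), (5,-1,0), (51,-1,0), (45,-1,0), (44,-1,0), (6,-1,0),
  (22,1,0), (59,-1,0), (80,1,0), (27,1,0), (38,-1,0), (37,-1,0), (7,-1,0), (55,-1,0), (75,1,0), (14,1,0),
  (24,1,0), (36,-1,0), (8,-1,0), (26,1,0), (67,1,0), (47,-1,0), (16,1,0), (9,-1,0), (81,1,0), (41,-1,0),
  (18,1,0), (13,1,0), (79,1,0), (87,1,0), (68,1,0), (91,1,0), (73,1,0), (54,1,0), (64,1,0), (11,1,0),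
  (12,1,0), (82,1,0), (34,-1,0), (66,1,0), (21,1,0), (48,1,0), (94,1,0), (23,1,0), (88,-1,0), (62,1,0),
  (42,1,0), (58,1,0), (71,1,0), (17,1,0), (89,1,0), (19,1,0), (33,-1,0), (63,1,0), (78,-1,0), (84,1,0),
  (32,-1,0), (65,1,0), (29,1,0), (28,1,0), (76,1,0), (31,-1,0), (96,1,0), (97,1,0), (98,1,0), (110,1,0),
  (104,1,0), (101,1,0), (102,1,0), (103,1,0), (100,1,0), (111,1,0), (106,1,0), (107,1,0), (113,1,0), (109,1,0),
  (99,1,0), (105,1,0), (112,1,0), (108,1,0), (114,1,0), (115,1,0), (124,-1,0), (121,-1,0), (118,-1,0), (123,-1,0),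
  (122,-1,0), (117,-1,0), (120,-1,0), (119,-1,0), (116,-1,0), (125,-1,0)]

def T5 : List (ℕ × ℤ × ℤ) := [(0,-4,0), (1,-4,0), (2,4,0), (3,4,0), (4,4,0), (5,4,0), (6,4,0), (47,-2,2), (53,2,2), (58,2,2),
  (62,-2,2), (11,4,0), (71,-2,2), (74,-2,-2), (76,-2,-2), (78,-2,2), (31,-4,0), (48,2,-2), (69,-2,-2), (36,-2,-2),
  (87,-2,2), (26,-4,0), (37,2,-2), (56,2,2), (80,-2,-2), (68,-2,2), (21,-4,0), (67,-2,2), (95,-2,-2), (59,2,2),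
  (38,2,-2), (16,-4,0), (89,-2,2), (39,-2,-2), (66,-2,-2), (65,2,-2), (19,-2,2), (22,2,2), (30,2,2), (33,-2,2),
  (40,4,0), (41,4,0), (42,4,0), (43,4,0), (102,-8,0), (103,-8,0), (70,4,0), (7,-2,-2), (17,2,2), (105,8,0),
  (106,-4,-4), (73,-4,0), (108,-8,0), (8,2,-2), (109,-8,0), (110,4,-4), (23,2,-2), (111,-8,0), (9,2,-2), (29,2,-2),
  (112,4,-4), (113,8,0), (10,-2,-2), (114,-4,-4), (115,-8,0), (35,2,2), (34,-2,2), (27,-2,-2), (25,-2,-2), (18,-2,2),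
  (46,4,0), (12,-2,-2), (121,4,-4), (51,-4,0), (13,-2,2), (123,4,4), (14,-2,2), (124,4,4), (15,-2,-2), (125,4,-4),
  (24,-2,2), (94,-4,0), (99,4,-4), (90,-4,0), (119,4,4), (117,4,-4), (96,4,-4), (20,-2,-2), (118,4,-4), (32,-2,-2),
  (83,-4,0), (98,-4,-4), (97,-4,-4), (116,4,4), (81,-4,0), (28,-2,2), (86,1,1), (92,-1,1), (91,-1,1), (82,1,1),
  (100,4,0), (101,4,0), (44,-2,0), (45,-2,0), (120,-2,-2), (49,2,0), (50,-1,1), (122,2,-2), (52,-2,0), (54,-2,0),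
  (55,1,1), (57,-2,0), (60,1,1), (61,2,0), (63,-1,1), (64,-2,0), (93,1,-1), (85,1,1), (88,1,1), (84,1,-1),
  (104,-2,2), (72,1,1), (107,2,2), (75,1,-1), (77,1,-1), (79,1,1)]

def T6 : List (ℕ × ℤ × ℤ) := [(0,-4,0), (1,4,0), (2,-4,0), (3,4,0), (4,4,0), (5,4,0), (40,-2,2), (7,4,0), (54,-2,2), (59,2,2),
  (63,2,2), (43,2,-2), (22,-4,0), (75,-2,2), (36,-2,-2), (79,-2,-2), (70,-2,2), (17,4,0), (84,-2,2), (76,-2,-2),
  (88,-2,-2), (90,-2,2), (12,-4,0), (55,2,-2), (80,-2,-2), (44,-2,-2), (83,-2,2), (32,-4,0), (45,2,-2), (58,2,2),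
  (91,-2,-2), (46,2,-2), (27,-4,0), (82,-2,2), (66,-2,-2), (64,2,2), (14,-2,2), (71,4,0), (98,-8,0), (99,-8,0),
  (6,-2,-2), (100,-4,-4), (101,-8,0), (11,2,2), (25,-2,2), (28,2,2), (31,2,2), (47,4,0), (48,4,0), (49,4,0),
  (50,4,0), (107,-8,0), (108,-8,0), (109,-4,-4), (8,-2,-2), (23,2,2), (110,-8,0), (85,-4,0), (29,2,-2), (9,2,-2),
  (113,-8,0), (112,-4,4), (114,-8,0), (10,2,-2), (35,2,-2), (115,4,-4), (34,-2,2), (89,-4,0), (102,4,-4), (119,4,-4),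
  (16,-2,-2), (37,4,0), (92,-4,0), (122,4,-4), (123,4,-4), (13,-2,-2), (19,-2,2), (96,4,-4), (125,4,4), (15,-2,2),
  (24,-2,2), (120,4,-4), (33,-2,-2), (26,-2,-2), (18,-2,-2), (57,-4,0), (124,4,4), (118,4,4), (20,-2,2), (67,-4,0),
  (21,-2,-2), (30,-2,2), (72,-4,0), (116,4,4), (104,-4,-4), (103,-4,-4), (77,1,1), (121,-2,-2), (38,-2,0), (39,-2,0),
  (41,-1,1), (42,-2,0), (68,1,1), (95,-1,1), (94,-1,1), (105,4,0), (106,4,0), (51,-2,0), (52,-2,0), (53,-1,1),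
  (56,-2,0), (117,2,-2), (61,-1,-1), (60,-2,0), (62,-2,0), (65,1,1), (93,1,-1), (111,2,2), (87,1,-1), (69,1,1),
  (81,1,1), (97,-2,2), (73,1,1), (74,1,1), (86,1,-1), (78,1,-1)]

def T7 : List (ℕ × ℤ × ℤ) := [(0,-4,0), (1,4,0), (2,4,0), (3,-4,0), (4,4,0), (5,4,0), (41,2,2), (48,-2,2), (8,4,0), (60,-2,2),
  (64,2,2), (42,2,2), (37,2,-2), (33,-4,0), (77,-2,2), (79,-2,-2), (81,-2,-2), (47,2,-2), (28,-4,0), (86,-2,2),
  (44,-2,-2), (73,-2,-2), (71,-2,2), (23,4,0), (93,-2,2), (88,-2,-2), (51,-2,-2), (67,-2,2), (18,-4,0), (61,2,-2),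
  (91,-2,-2), (94,-2,-2), (89,-2,2), (13,-4,0), (52,2,-2), (63,2,2), (96,-8,0), (12,2,2), (98,-8,0), (74,-4,0),
  (100,-8,0), (6,2,-2), (11,2,-2), (101,4,-4), (20,-2,2), (84,4,0), (104,-8,0), (17,2,2), (7,-2,-2), (106,4,4),
  (105,-8,0), (26,-2,2), (34,2,2), (53,4,0), (54,4,0), (55,4,0), (56,4,0), (111,-8,0), (112,8,0), (113,-4,-4),
  (9,-2,-2), (29,2,2), (115,-4,4), (35,2,-2), (10,2,-2), (114,8,0), (108,-4,-4), (27,-2,-2), (118,4,4), (95,-4,0),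
  (120,4,4), (22,-2,-2), (97,-4,-4), (21,-2,2), (39,-4,0), (82,-4,0), (124,4,-4), (14,-2,-2), (125,4,4), (15,-2,2),
  (116,4,-4), (16,-2,2), (75,-4,0), (107,4,-4), (45,4,0), (117,4,-4), (19,-2,-2), (102,4,-4), (25,-2,2), (32,-2,-2),
  (122,4,4), (30,-2,2), (121,4,-4), (24,-2,-2), (31,-2,2), (69,-4,0), (36,-2,0), (72,-1,1), (38,-2,0), (123,2,-2),
  (40,-2,0), (43,1,1), (87,1,1), (119,-2,-2), (46,-2,0), (50,-2,0), (49,1,-1), (83,1,1), (66,-1,1), (109,4,0),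
  (110,4,0), (57,-2,0), (58,2,0), (59,-1,1), (65,2,0), (62,-1,-1), (80,1,1), (85,1,1), (68,1,-1), (103,-2,2),
  (70,1,-1), (92,1,1), (90,1,-1), (99,2,2), (76,1,1), (78,1,-1)]

def T8 : List (ℕ × ℤ × ℤ) := [(0,-4,0), (1,4,0), (2,4,0), (3,4,0), (4,-4,0), (5,4,0), (42,2,2), (49,2,2), (55,-2,2), (9,4,0),
  (65,-2,2), (41,2,2), (72,-2,-2), (75,-2,2), (19,-4,0), (38,2,-2), (81,-2,-2), (50,2,2), (45,2,-2), (14,-4,0),
  (87,-2,2), (51,-2,-2), (92,-2,-2), (54,2,-2), (34,-4,0), (68,-2,2), (73,-2,-2), (85,-2,-2), (84,-2,2), (29,4,0),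
  (78,-2,2), (94,-2,-2), (57,-2,-2), (82,-2,2), (24,-4,0), (62,2,-2), (76,-4,0), (97,-8,0), (15,2,2), (99,-8,0),
  (101,-4,4), (11,2,-2), (6,2,-2), (100,8,0), (102,-8,0), (18,2,2), (104,-8,0), (105,4,-4), (106,8,0), (7,2,-2),
  (17,2,-2), (21,-2,2), (93,4,0), (110,8,0), (23,2,2), (8,-2,-2), (109,4,4), (32,-2,2), (58,4,0), (59,4,0),
  (60,4,0), (61,4,0), (35,2,2), (115,8,0), (114,4,4), (10,-2,-2), (80,-4,0), (117,4,4), (25,-2,-2), (103,-4,-4),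
  (120,4,4), (121,4,4), (12,-2,2), (26,-2,2), (123,4,-4), (13,-2,-2), (36,-4,0), (86,-4,0), (30,-2,-2), (98,-4,-4),
  (66,-4,0), (16,-2,2), (33,-2,-2), (122,4,4), (28,-2,-2), (27,-2,2), (77,-4,0), (20,-2,-2), (118,4,-4), (111,4,-4),
  (107,4,-4), (125,4,-4), (22,-2,2), (52,4,0), (31,-2,2), (119,4,-4), (124,2,-2), (37,-2,0), (79,-1,1), (39,-2,0),
  (43,2,0), (40,-1,-1), (44,-2,0), (69,-1,1), (46,-2,0), (47,1,1), (48,2,0), (90,1,1), (116,-2,-2), (56,1,-1),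
  (53,2,0), (89,1,1), (112,4,0), (113,4,0), (64,1,-1), (63,2,0), (108,-2,2), (67,1,-1), (88,1,1), (95,1,1),
  (70,1,-1), (71,1,-1), (83,1,-1), (74,1,1), (96,2,2), (91,1,1)]

def T9 : List (ℕ × ℤ × ℤ) := [(0,-4,0), (1,4,0), (2,4,0), (3,4,0), (4,4,0), (5,-4,0), (43,-2,2), (50,2,2), (56,2,2), (61,-2,2),
  (10,4,0), (40,2,-2), (72,-2,-2), (39,-2,-2), (77,-2,2), (30,-4,0), (46,2,-2), (49,2,2), (69,-2,-2), (86,-2,2),
  (25,-4,0), (90,-2,2), (92,-2,-2), (53,2,2), (52,2,-2), (20,-4,0), (83,-2,2), (57,-2,-2), (95,-2,-2), (60,2,-2),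
  (15,-4,0), (70,-2,2), (85,-2,-2), (74,-2,-2), (93,-2,2), (35,4,0), (96,-8,0), (97,-8,0), (78,4,0), (13,-2,2),
  (11,2,2), (101,8,0), (100,4,4), (6,-2,-2), (88,-4,0), (103,-8,0), (16,2,2), (106,-8,0), (105,-4,4), (17,2,-2),
  (7,2,-2), (107,-8,0), (24,2,2), (23,2,-2), (110,-4,4), (109,8,0), (8,2,-2), (27,-2,2), (113,4,4), (112,-8,0),
  (29,2,2), (9,-2,-2), (62,4,0), (63,4,0), (64,4,0), (65,4,0), (116,4,-4), (111,4,-4), (87,-4,0), (18,-2,2),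
  (31,-2,-2), (121,4,4), (12,-2,2), (122,4,-4), (33,-2,2), (99,4,-4), (124,4,-4), (14,-2,-2), (38,4,0), (91,-4,0),
  (108,-4,-4), (104,-4,-4), (123,4,4), (26,-2,-2), (119,4,4), (32,-2,2), (19,-2,-2), (68,-4,0), (44,-4,0), (117,4,4),
  (21,-2,-2), (79,-4,0), (22,-2,2), (34,-2,-2), (120,4,-4), (28,-2,2), (36,-2,0), (37,-2,0), (125,-2,-2), (75,1,1),
  (42,1,-1), (41,2,0), (118,2,-2), (45,-2,0), (81,-1,1), (48,-1,-1), (47,-2,0), (51,-2,0), (80,-1,1), (55,2,0),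
  (54,-1,-1), (67,1,1), (59,-2,0), (58,1,-1), (114,4,0), (115,4,0), (66,1,1), (89,1,-1), (102,2,2), (84,1,-1),
  (94,1,1), (71,1,-1), (73,1,1), (82,1,-1), (76,1,1), (98,-2,2)]

def T10 : List (ℕ × ℤ × ℤ) := [(73,1,0), (60,1,0), (57,1,0), (58,1,0), (26,1,0), (32,1,0), (15,1,0), (70,1,0), (68,1,0), (67,1,0),
  (12,1,0), (19,1,0), (82,1,0), (56,1,0), (17,1,0), (71,1,0), (8,1,0), (44,1,0), (7,1,0), (39,1,0),
  (38,1,0), (3,1,0), (22,1,0), (91,1,0), (84,1,0), (40,1,0), (27,1,0), (4,1,0), (28,1,0), (29,1,0),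
  (30,1,0), (31,1,0), (59,1,0), (72,1,0), (86,1,0), (41,1,0), (69,1,0), (54,1,0), (64,1,0), (11,1,0),
  (81,1,0), (95,1,0), (52,1,0), (53,1,0), (14,1,0), (13,1,0), (66,1,0), (33,1,0), (92,1,0), (42,1,0),
  (23,1,0), (1,1,0), (49,1,0), (94,1,0), (80,1,0), (55,1,0), (45,1,0), (61,1,0), (21,1,0), (5,1,0),
  (51,1,0), (2,1,0), (46,1,0), (48,1,0), (20,1,0), (65,1,0), (62,1,0), (83,1,0), (16,1,0), (79,1,0),
  (18,1,0), (6,1,0), (47,1,0), (85,1,0), (74,1,0), (87,1,0), (76,1,0), (24,1,0), (34,1,0), (36,1,0),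
  (37,1,0), (25,1,0), (10,1,0), (9,1,0), (77,1,0), (0,1,0), (78,1,0), (93,1,0), (88,1,0), (89,1,0),
  (90,1,0), (50,1,0), (63,1,0), (75,1,0), (43,1,0), (35,1,0), (121,1,0), (102,1,0), (103,1,0), (104,1,0),
  (118,1,0), (101,1,0), (119,1,0), (116,1,0), (125,1,0), (105,1,0), (115,1,0), (107,1,0), (108,1,0), (124,1,0),
  (100,1,0), (111,1,0), (117,-1,0), (113,1,0), (109,1,0), (123,1,0), (98,1,0), (122,-1,0), (110,1,0), (97,1,0),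
  (96,1,0), (120,1,0), (112,1,0), (106,1,0), (114,1,0), (99,1,0)]

/-- parents : generator and index -/
def PT2 : List (ℕ × ℕ) := [(11,0), (11,0), (11,0), (11,0), (11,0), (11,0), (0,0), (1,0), (2,0), (3,0), (4,0), (0,1),
  (1,1), (2,1), (3,1), (4,1), (0,2), (1,2), (2,2), (3,2), (4,2), (0,3), (1,3), (2,3),
  (3,3), (4,3), (0,4), (1,4), (2,4), (3,4), (4,4), (0,5), (1,5), (2,5), (3,5), (4,5),
  (1,6), (2,6), (3,6), (4,6), (6,6), (7,6), (8,6), (9,6), (2,7), (3,7), (4,7), (5,7),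
  (7,7), (8,7), (9,7), (3,8), (4,8), (5,8), (6,8), (8,8), (9,8), (4,9), (5,9), (6,9),
  (7,9), (9,9), (5,10), (6,10), (7,10), (8,10), (1,11), (2,11), (3,11), (4,11), (4,12), (5,12),
  (8,12), (3,13), (5,13), (6,13), (5,14), (7,14), (5,15), (6,15), (1,16), (7,16), (3,17), (4,17),
  (6,18), (4,19), (7,19), (5,20), (6,20), (2,21), (6,21), (2,22), (8,22), (7,24), (3,28), (5,28),
  (7,36), (8,37), (6,38), (6,39), (7,40), (8,40), (5,44), (5,45), (7,46), (8,47), (9,47), (6,51),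
  (5,52), (6,53), (8,53), (5,57), (7,58), (9,58), (6,62), (7,62), (9,66), (8,67), (7,68), (6,69),
  (7,70), (8,71), (6,73), (6,74), (7,76), (6,78)]

/-- change of signs at `0` and `k` -/
def fb (k : Fin 6) (v : Fin 6 → Z2) (j : Fin 6) : Z2 := if j = 0 ∨ j = k then zc (-1) (v j) else v j

/-- the coordinate `i` of `8 v` in the frame `g` -/
def Hz (v : Fin 6 → Z2) (i : Fin 6) : Z2 :=
  let e := fun l : Fin 6 => if l = i then zc (-1) (zth (v l)) else zc (Cz i l) (v l)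
  zadd (e 0) (zadd (e 1) (zadd (e 2) (zadd (e 3) (zadd (e 4) (e 5)))))

def Gz (i j : Fin 6) (h : Z2) : Z2 := if i = j then zth h else zc (Cz i j) h

/-- four times the change of signs at `0` and `k` in the frame `g` -/
def fg (k : Fin 6) (v : Fin 6 → Z2) (j : Fin 6) : Z2 :=
  zsub (zsub (zc 4 (v j)) (Gz 0 j (Hz v 0))) (Gz k j (Hz v k))

/-- the cycle `(0 1 2)` -/
def fy (v : Fin 6 → Z2) : Fin 6 → Z2 := ![v 2, v 0, v 1, v 3, v 4, v 5]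

/-- the norm is `1, 4, 16` or `64` -/
def nz (x : Z2) : Prop := x.1 * x.1 + 3 * (x.2 * x.2) = 1 ∨ x.1 * x.1 + 3 * (x.2 * x.2) = 4 ∨
  x.1 * x.1 + 3 * (x.2 * x.2) = 16 ∨ x.1 * x.1 + 3 * (x.2 * x.2) = 64

instance decNz (x : Z2) : Decidable (nz x) := by unfold nz; infer_instance

/-- `t` is a correct entry for the image `u` of a line -/
def okT (u : Fin 6 → Z2) (t : ℕ × ℤ × ℤ) : Prop := t.1 < 126 ∧ nz t.2 ∧ ∀ j, u j = zmul t.2 (LL t.1 j)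

instance decOkT (u : Fin 6 → Z2) (t : ℕ × ℤ × ℤ) : Decidable (okT u t) := by unfold okT; infer_instance

theorem ok0 : ∀ n < 126, okT (fb 1 (LL n)) (T0.getD n (0, 0, 0)) := by decide +kernel

theorem ok1 : ∀ n < 126, okT (fb 2 (LL n)) (T1.getD n (0, 0, 0)) := by decide +kernel

theorem ok2 : ∀ n < 126, okT (fb 3 (LL n)) (T2.getD n (0, 0, 0)) := by decide +kernel

theorem ok3 : ∀ n < 126, okT (fb 4 (LL n)) (T3.getD n (0, 0, 0)) := by decide +kernel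

theorem ok4 : ∀ n < 126, okT (fb 5 (LL n)) (T4.getD n (0, 0, 0)) := by decide +kernel

theorem ok5 : ∀ n < 126, okT (fg 1 (LL n)) (T5.getD n (0, 0, 0)) := by decide +kernel

theorem ok6 : ∀ n < 126, okT (fg 2 (LL n)) (T6.getD n (0, 0, 0)) := by decide +kernel

theorem ok7 : ∀ n < 126, okT (fg 3 (LL n)) (T7.getD n (0, 0, 0)) := by decide +kernel

theorem ok8 : ∀ n < 126, okT (fg 4 (LL n)) (T8.getD n (0, 0, 0)) := by decide +kernel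

theorem ok9 : ∀ n < 126, okT (fg 5 (LL n)) (T9.getD n (0, 0, 0)) := by decide +kernel

theorem ok10 : ∀ n < 126, okT (fy (LL n)) (T10.getD n (0, 0, 0)) := by decide +kernel

/-- the parent relation -/
def okP (n : ℕ) (q : ℕ × ℕ) : Prop :=
  (q.1 = 11 ∧ n < 6) ∨ (q.2 < n ∧ (
    (q.1 = 0 ∧ (T0.getD q.2 (0, 0, 0)).1 = n) ∨ (q.1 = 1 ∧ (T1.getD q.2 (0, 0, 0)).1 = n) ∨
    (q.1 = 2 ∧ (T2.getD q.2 (0, 0, 0)).1 = n) ∨ (q.1 = 3 ∧ (T3.getD q.2 (0, 0, 0)).1 = n) ∨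
    (q.1 = 4 ∧ (T4.getD q.2 (0, 0, 0)).1 = n) ∨ (q.1 = 5 ∧ (T5.getD q.2 (0, 0, 0)).1 = n) ∨
    (q.1 = 6 ∧ (T6.getD q.2 (0, 0, 0)).1 = n) ∨ (q.1 = 7 ∧ (T7.getD q.2 (0, 0, 0)).1 = n) ∨
    (q.1 = 8 ∧ (T8.getD q.2 (0, 0, 0)).1 = n) ∨ (q.1 = 9 ∧ (T9.getD q.2 (0, 0, 0)).1 = n)))

instance decOkP (n : ℕ) (q : ℕ × ℕ) : Decidable (okP n q) := by unfold okP; infer_instance

theorem okPar : ∀ n < 126, okP n (PT2.getD n (0, 0)) := by decide +kernel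

/-- the first six lines -/
theorem okRoot : ∀ n : Fin 6, ∀ j : Fin 6, LL n j = if j = n then (0, 1) else (Cz n j, 0) := by decide +kernel

/-- no line has exactly three nonzero coordinates -/
theorem okSupp : ∀ n < 126, ¬ (LL n 0 ≠ 0 ∧ LL n 1 ≠ 0 ∧ LL n 2 ≠ 0 ∧ LL n 3 = 0 ∧ LL n 4 = 0 ∧ LL n 5 = 0) := by
  decide +kernel

/-- the line `b 0 + b 2` -/
theorem ok02 : ∃ n, n < 126 ∧ ∀ j, LL n j = if j = 0 ∨ j = 2 then (1, 0) else (0, 0) := by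
  decide +kernel

end Cfsg.Agent.H913.N6
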