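import Cfsg.Agent.H913.N6Two2
import Cfsg.Agent.H913.N6Tab

/-!
# The 126 lines: semantics (helper913)
-/

set_option autoImplicit false
set_option linter.unusedSectionVars false

namespace Cfsg.Agent.H913.N6

open Cfsg Cfsg.Geo Matrix
open Module (Basis)
open Cfsg.Agent.H915.LD (Core Soc toSoc tr)
open Cfsg.Agent.H906.SL3Par Cfsg.Agent.H906.L34 Cfsg.Agent.H906.T14

variable {ι : Type} [Fintype ι] [DecidableEq ι] {F : Type*} [Field F]

/-- the value of a pair -/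
def zF (θ : F) (x : Z2) : F := (x.1 : F) + (x.2 : F) * θ

theorem zF_zero (θ : F) : zF θ 0 = 0 := by simp [zF]
theorem zF_one (θ : F) : zF θ (1, 0) = 1 := by simp [zF]
theorem zF_add (θ : F) (x y : Z2) : zF θ (zadd x y) = zF θ x + zF θ y := by simp [zF, zadd]; ring
theorem zF_sub (θ : F) (x y : Z2) : zF θ (zsub x y) = zF θ x - zF θ y := by simp [zF, zsub]; ring
theorem zF_c (θ : F) (c : ℤ) (x : Z2) : zF θ (zc c x) = (c : F) * zF θ x := by simp [zF, zc]; ring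

section
variable {θ : F} (hθ : θ * θ = -3)
include hθ

theorem zF_th (x : Z2) : zF θ (zth x) = θ * zF θ x := by
  simp [zF, zth]; linear_combination (-(x.2 : F)) * hθ

theorem zF_mul (x y : Z2) : zF θ (zmul x y) = zF θ x * zF θ y := by
  simp [zF, zmul]; linear_combination (-(x.2 : F) * y.2) * hθ

theorem nz_ne (h2 : (2 : F) ≠ 0) {x : Z2} (hx : nz x) : zF θ x ≠ 0 := by
  intro h
  have h1 : ((x.1 * x.1 + 3 * (x.2 * x.2) : ℤ) : F) = 0 := by
    have : zF θ x * ((x.1 : F) - x.2 * θ) = 0 := by rw [h, zero_mul]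
    rw [zF] at this
    push_cast
    linear_combination this + (x.2 : F) * x.2 * hθ
  have h4 : (4 : F) ≠ 0 := by
    have : (4 : F) = 2 * 2 := by norm_num
    rw [this]; exact mul_ne_zero h2 h2
  rcases hx with hx | hx | hx | hx <;> rw [hx] at h1 <;> push_cast at h1
  · exact one_ne_zero h1
  · exact h4 h1
  · have : (16 : F) = 4 * 4 := by norm_num
    rw [this] at h1
    exact (mul_ne_zero h4 h4) h1
  · have : (64 : F) = 4 * (4 * 4) := by norm_num
    rw [this] at h1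
    exact (mul_ne_zero h4 (mul_ne_zero h4 h4)) h1

end

/-- the vector of a sequence of pairs -/
def ev (b : Fin 6 → ι → F) (θ : F) (v : Fin 6 → Z2) : ι → F := ∑ j, zF θ (v j) • b j

/-- the 126 lines -/
def Om (b : Fin 6 → ι → F) (θ : F) : Set (ι → F) := {v | ∃ n, n < 126 ∧ ∃ k : F, k ≠ 0 ∧ v = k • ev b θ (LL n)}

theorem Om.smul {b : Fin 6 → ι → F} {θ : F} {v : ι → F} (h : v ∈ Om b θ) {c : F} (hc : c ≠ 0) : c • v ∈ Om b θ := by
  obtain ⟨n, hn, k, hk, rfl⟩ := h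
  exact ⟨n, hn, c * k, mul_ne_zero hc hk, by rw [smul_smul]⟩

/-- one step of a table -/
theorem step {b : Fin 6 → ι → F} {θ : F} (hθ : θ * θ = -3) (h2 : (2 : F) ≠ 0) {x : GL ι F} {c : F} (hc : c ≠ 0)
    {f : (Fin 6 → Z2) → (Fin 6 → Z2)} (hx : ∀ v, c • ap x (ev b θ v) = ev b θ (f v)) {n : ℕ} {t : ℕ × ℤ × ℤ}
    (ht : okT (f (LL n)) t) : t.1 < 126 ∧ ∃ μ : F, μ ≠ 0 ∧ ap x (ev b θ (LL n)) = μ • ev b θ (LL t.1) := by
  obtain ⟨h1, h3, h4⟩ := ht
  refine ⟨h1, c⁻¹ * zF θ t.2, mul_ne_zero (inv_ne_zero hc) (nz_ne hθ h2 h3), ?_⟩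
  have h5 : ev b θ (f (LL n)) = zF θ t.2 • ev b θ (LL t.1) := by
    rw [ev, ev, Finset.smul_sum]
    refine Finset.sum_congr rfl fun j _ => ?_
    rw [h4 j, zF_mul hθ, smul_smul]
  rw [mul_smul, ← h5, ← hx, smul_smul, inv_mul_cancel₀ hc, one_smul]

theorem step_Om {b : Fin 6 → ι → F} {θ : F} (hθ : θ * θ = -3) (h2 : (2 : F) ≠ 0) {x : GL ι F} {c : F} (hc : c ≠ 0)
    {f : (Fin 6 → Z2) → (Fin 6 → Z2)} (hx : ∀ v, c • ap x (ev b θ v) = ev b θ (f v)) {T : List (ℕ × ℤ × ℤ)}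
    (ht : ∀ n < 126, okT (f (LL n)) (T.getD n (0, 0, 0))) : ∀ v ∈ Om b θ, ap x v ∈ Om b θ := by
  rintro v ⟨n, hn, k, hk, rfl⟩
  obtain ⟨h1, μ, hμ, h3⟩ := step hθ h2 hc hx (ht n hn)
  exact ⟨_, h1, k * μ, mul_ne_zero hk hμ, by rw [ap_smul, h3, smul_smul]⟩

/-- sign changes in `b` -/
theorem sem_b {b : Fin 6 → ι → F} (θ : F) {x : GL ι F} {k : Fin 6} (hx : Sgn b x (sij 0 k)) (v : Fin 6 → Z2) :
    (1 : F) • ap x (ev b θ v) = ev b θ (fb k v) := by
  rw [one_smul, ev, ev, ap_sum]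
  refine Finset.sum_congr rfl fun j _ => ?_
  rw [ap_smul, hx j, fb, sij]
  split_ifs with h
  · rw [zF_c, sg_neg_one, smul_smul]; push_cast; rw [mul_comm]
  · rw [sg_one, one_smul]

def Gq (i j : Fin 6) : Z2 := if i = j then (0, 1) else (Cz i j, 0)
def Hq (i l : Fin 6) : Z2 := if l = i then (0, -1) else (Cz i l, 0)

theorem okInv : ∀ l j : Fin 6, zadd (zmul (Hq 0 l) (Gq 0 j)) (zadd (zmul (Hq 1 l) (Gq 1 j)) (zadd (zmul (Hq 2 l) (Gq 2 j))
    (zadd (zmul (Hq 3 l) (Gq 3 j)) (zadd (zmul (Hq 4 l) (Gq 4 j)) (zmul (Hq 5 l) (Gq 5 j)))))) =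
    if l = j then (8, 0) else (0, 0) := by decide +kernel

theorem cmb_sum {b g : Fin 6 → ι → F} {θ : F} (h : Cmb b g θ 1) (i : Fin 6) : g i = ∑ j, zF θ (Gq i j) • b j := by
  rw [Fin.sum_univ_six]
  have e : ∀ i j : Fin 6, zF θ (Gq i j) = if i = j then θ else (Cz i j : F) := by
    intro i j
    rw [Gq, zF]
    split_ifs <;> simp
  simp only [e]
  fin_cases i
  · refine h.g0.trans ?_
    simp [Cz]; abel
  · refine h.g1.trans ?_
    simp [Cz]; abel
  · refine h.g2.trans ?_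
    simp [Cz]; abel
  · refine h.g3.trans ?_
    simp [Cz]; abel
  · refine h.g4.trans ?_
    simp [Cz]; abel
  · refine h.g5.trans ?_
    simp [Cz]; abel

theorem cmb_inv {b g : Fin 6 → ι → F} {θ : F} (hθ : θ * θ = -3) (h : Cmb b g θ 1) (l : Fin 6) :
    (8 : F) • b l = ∑ i, zF θ (Hq i l) • g i := by
  have h1 : ∑ i, zF θ (Hq i l) • g i = ∑ j, (∑ i, zF θ (Hq i l) * zF θ (Gq i j)) • b j := by
    calc ∑ i, zF θ (Hq i l) • g i = ∑ i, ∑ j, (zF θ (Hq i l) * zF θ (Gq i j)) • b j := by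
          refine Finset.sum_congr rfl fun i _ => ?_
          rw [cmb_sum h i, Finset.smul_sum]
          exact Finset.sum_congr rfl fun j _ => by rw [smul_smul]
      _ = _ := by
          rw [Finset.sum_comm]
          exact Finset.sum_congr rfl fun j _ => by rw [Finset.sum_smul]
  rw [h1]
  have h3 : ∀ j, (∑ i, zF θ (Hq i l) * zF θ (Gq i j)) = if l = j then 8 else 0 := by
    intro j
    have h4 := congrArg (zF θ) (okInv l j)
    simp only [zF_add, zF_mul hθ] at h4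
    rw [Fin.sum_univ_six]
    rw [show (if l = j then (8 : F) else 0) = zF θ (if l = j then (8, 0) else (0, 0)) by split_ifs <;> simp [zF], ← h4]
    ring
  rw [Finset.sum_eq_single l]
  · rw [h3, if_pos rfl]
  · intro j _ hj
    rw [h3, if_neg (Ne.symm hj), zero_smul]
  · intro h; exact absurd (Finset.mem_univ l) h

theorem Hz_eq {θ : F} (hθ : θ * θ = -3) (v : Fin 6 → Z2) (i : Fin 6) :
    zF θ (Hz v i) = ∑ l, zF θ (v l) * zF θ (Hq i l) := by
  have e : ∀ l, zF θ (if l = i then zc (-1) (zth (v l)) else zc (Cz i l) (v l)) = zF θ (v l) * zF θ (Hq i l) := by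
    intro l
    rw [Hq]
    split_ifs with h
    · rw [zF_c, zF_th hθ, zF]; simp [zF]; ring
    · rw [zF_c]; simp [zF]; ring
  rw [Hz, Fin.sum_univ_six]
  simp only [zF_add, e]
  ring

/-- sign changes in `g` -/
theorem sem_g {b g : Fin 6 → ι → F} {θ : F} (hθ : θ * θ = -3) (h2 : (2 : F) ≠ 0) (h : Cmb b g θ 1) {x : GL ι F}
    {k : Fin 6} (hk : k ≠ 0) (hx : Sgn g x (sij 0 k)) (v : Fin 6 → Z2) :
    (4 : F) • ap x (ev b θ v) = ev b θ (fg k v) := by
  have h1 : (8 : F) • ev b θ v = ∑ i, zF θ (Hz v i) • g i := by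
    calc (8 : F) • ev b θ v = ∑ l, zF θ (v l) • ((8 : F) • b l) := by
          rw [ev, Finset.smul_sum]
          exact Finset.sum_congr rfl fun l _ => by rw [smul_comm]
      _ = ∑ l, ∑ i, (zF θ (v l) * zF θ (Hq i l)) • g i := by
          refine Finset.sum_congr rfl fun l _ => ?_
          rw [cmb_inv hθ h l, Finset.smul_sum]
          exact Finset.sum_congr rfl fun j _ => by rw [smul_smul]
      _ = _ := by
          rw [Finset.sum_comm]
          exact Finset.sum_congr rfl fun i _ => by rw [Hz_eq hθ, Finset.sum_smul]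
  have h3 : (8 : F) • ap x (ev b θ v) = (8 : F) • ev b θ v - (2 : F) • (zF θ (Hz v 0) • g 0 + zF θ (Hz v k) • g k) := by
    rw [← ap_smul, h1, ap_sum]
    have h4 : ∀ i, ap x (zF θ (Hz v i) • g i) = (zF θ (Hz v i) * sg F (sij 0 k i)) • g i := by
      intro i
      rw [ap_smul, hx i, smul_smul]
    simp only [h4]
    rw [Fin.sum_univ_six, Fin.sum_univ_six]
    fin_cases k
    · exact absurd rfl hk
    all_goals
      simp [sij]
      module
  have h4 : (2 : F) • ((4 : F) • ap x (ev b θ v)) =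
      (2 : F) • ((4 : F) • ev b θ v - (zF θ (Hz v 0) • g 0 + zF θ (Hz v k) • g k)) := by
    rw [smul_smul, show (2 : F) * 4 = 8 by norm_num, h3]
    module
  have h5 := smul_right_injective _ h2 h4
  change (4 : F) • ap x (ev b θ v) = (4 : F) • ev b θ v - (zF θ (Hz v 0) • g 0 + zF θ (Hz v k) • g k) at h5
  rw [h5, cmb_sum h 0, cmb_sum h k, ev, ev, Finset.smul_sum, Finset.smul_sum, Finset.smul_sum, ← Finset.sum_add_distrib,
    ← Finset.sum_sub_distrib]
  refine Finset.sum_congr rfl fun j _ => ?_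
  have hG : ∀ i j (h : Z2), zF θ (Gz i j h) = zF θ h * zF θ (Gq i j) := by
    intro i j h
    rw [Gz, Gq]
    split_ifs
    · rw [zF_th hθ]; simp [zF]; ring
    · rw [zF_c]; simp [zF]; ring
  rw [fg, zF_sub, zF_sub, zF_c, hG, hG]
  push_cast
  module

/-- the cycle `(0 1 2)` -/
theorem sem_y {b : Fin 6 → ι → F} (θ : F) {x : GL ι F} (h0 : ap x (b 0) = b 1) (h1 : ap x (b 1) = b 2)
    (h2 : ap x (b 2) = b 0) (h3 : ap x (b 3) = b 3) (h4 : ap x (b 4) = b 4) (h5 : ap x (b 5) = b 5) (v : Fin 6 → Z2) :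
    (1 : F) • ap x (ev b θ v) = ev b θ (fy v) := by
  rw [one_smul, ev, ev, ap_sum, Fin.sum_univ_six, Fin.sum_univ_six]
  simp only [ap_smul, h0, h1, h2, h3, h4, h5, fy]
  simp
  abel

end Cfsg.Agent.H913.N6
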