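import Cfsg.Agent.H913.N6Frame

/-!
# Monomial elements and the parity argument (helper913)
-/

set_option autoImplicit false
set_option linter.unusedSectionVars false

namespace Cfsg.Agent.H913.N6

open Cfsg Cfsg.Geo Matrix Module
open Cfsg.Agent.H915.LD (Core Soc toSoc tr)

variable {ι : Type} [Fintype ι] [DecidableEq ι] {F : Type*} [Field F] {P H : Subgroup (GL ι F)}
  {T : Type*} [Group T] {C : Cov P T}

/-- `g` is monomial in `b` -/
def Mono (b : Fin 6 → ι → F) (g : GL ι F) (σ : Fin 6 → Fin 6) (a : Fin 6 → F) : Prop :=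
  ∀ i, a i ≠ 0 ∧ ap g (b i) = a i • b (σ i)

/-- the sign change at `i` and `j` -/
def sij (i j : Fin 6) : Fin 6 → ℤˣ := fun k => if k = i ∨ k = j then -1 else 1

theorem sij_prod {i j : Fin 6} (h : i ≠ j) : ∏ k, sij i j k = 1 := by
  revert h
  revert i j
  decide +kernel

theorem exists_mono {b : Basis (Fin 6) F (ι → F)} {D : Set (GL ι F)} (hb : Frm b D) (h2 : (2 : F) ≠ 0) {g : GL ι F}
    (hg : ∀ x ∈ D, g⁻¹ * x * g ∈ D) : ∃ σ a, Mono b g σ a := by
  classical
  have key : ∀ i, ∃ (j : Fin 6) (c : F), c ≠ 0 ∧ ap g (b i) = c • b j := by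
    intro i
    set v := ap g (b i) with hv
    have hv0 : v ≠ 0 := by
      intro h
      have h1 : b i = 0 := by
        rw [← ap_one (b i), ← inv_mul_cancel g, ap_mul, ← hv, h, ap_zero]
      exact b.ne_zero i h1
    have h1 : ∀ z ∈ D, ∃ u : ℤˣ, ap z v = sg F u • v := by
      intro z hz
      obtain ⟨s, -, hs⟩ := hb.diag _ (hg z hz)
      refine ⟨s i, ?_⟩
      have h3 := hs i
      have h4 : ap z v = ap g (ap (g⁻¹ * z * g) (b i)) := by
        have e1 : z * g = g * (g⁻¹ * z * g) := by group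
        rw [hv, ← ap_mul, ← ap_mul, ← e1]
      rw [h4, h3, ap_smul]
    obtain ⟨k, hk⟩ : ∃ k, b.repr v k ≠ 0 := by
      by_contra hcon
      push_neg at hcon
      apply hv0
      rw [← b.sum_repr v]
      exact Finset.sum_eq_zero fun k _ => by rw [hcon k, zero_smul]
    have h5 : ∀ l, l ≠ k → b.repr v l = 0 := by
      intro l hl
      by_contra hne
      obtain ⟨m, hmk, hml⟩ : ∃ m : Fin 6, m ≠ k ∧ m ≠ l := by
        clear * -
        revert k l
        decide +kernel
      obtain ⟨z, hz, hzs⟩ := hb.full (sij k m) (sij_prod hmk.symm)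
      obtain ⟨u, hu⟩ := h1 z hz
      have h6 : ∀ t, b.repr (ap z v) t = sg F (sij k m t) * b.repr v t := by
        intro t
        have h7 : ap z v = ∑ t, b.repr v t • ap z (b t) := by
          conv_lhs => rw [← b.sum_repr v]
          rw [ap_sum]
          refine Finset.sum_congr rfl fun t _ => ?_
          rw [ap_smul]
        rw [h7, map_sum, Finsupp.finset_sum_apply]
        rw [Finset.sum_eq_single t]
        · rw [hzs t, map_smul, map_smul, Finsupp.smul_apply, Finsupp.smul_apply, b.repr_self,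
            Finsupp.single_eq_same, smul_eq_mul, smul_eq_mul, mul_one, mul_comm]
        · intro t' _ ht'
          rw [hzs t', map_smul, map_smul, Finsupp.smul_apply, Finsupp.smul_apply, b.repr_self,
            Finsupp.single_eq_of_ne ht'.symm, smul_zero, smul_zero]
        · intro h; exact absurd (Finset.mem_univ t) h
      have h8 := h6 k
      have h9 := h6 l
      rw [hu, map_smul, Finsupp.smul_apply, smul_eq_mul] at h8 h9
      have e1 : sij k m k = -1 := by simp [sij]
      have e2 : sij k m l = 1 := by simp [sij, hl, hml.symm]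
      rw [e1] at h8
      rw [e2] at h9
      have h10 := sg_inj h2 (mul_right_cancel₀ hk h8)
      have h11 := sg_inj h2 (mul_right_cancel₀ hne h9)
      rw [h10] at h11
      exact absurd h11 (by decide)
    refine ⟨k, b.repr v k, hk, ?_⟩
    conv_lhs => rw [← b.sum_repr v]
    rw [Finset.sum_eq_single k]
    · intro l _ hl
      rw [h5 l hl, zero_smul]
    · intro h; exact absurd (Finset.mem_univ k) h
  choose σ a h using key
  exact ⟨σ, a, h⟩

theorem Mono.inj {b : Basis (Fin 6) F (ι → F)} {g : GL ι F} {σ : Fin 6 → Fin 6} {a : Fin 6 → F} (h : Mono b g σ a) :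
    Function.Injective σ := by
  intro i j hij
  by_contra hne
  have h1 := (h i).2
  have h2 := (h j).2
  rw [hij] at h1
  have h3 : ap g (a j • b i - a i • b j) = 0 := by
    rw [ap_sub, ap_smul, ap_smul, h1, h2, smul_smul, smul_smul, mul_comm, sub_self]
  have h4 : a j • b i - a i • b j = 0 := by
    rw [← ap_one (a j • b i - a i • b j), ← inv_mul_cancel g, ap_mul, h3, ap_zero]
  have h5 := congrArg (fun v => b.repr v j) h4
  simp only [map_sub, map_smul, Finsupp.sub_apply, Finsupp.smul_apply, b.repr_self, smul_eq_mul, map_zero,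
    Finsupp.zero_apply] at h5
  rw [Finsupp.single_eq_of_ne (Ne.symm hne), Finsupp.single_eq_same, mul_zero, mul_one, zero_sub, neg_eq_zero] at h5
  exact (h i).1 h5

/-- the trace of a monomial element -/
theorem Mono.tr {b : Basis (Fin 6) F (ι → F)} {g : GL ι F} {σ : Fin 6 → Fin 6} {a : Fin 6 → F} (h : Mono b g σ a) :
    tr g = ∑ i, if σ i = i then a i else 0 := by
  rw [tr_eq_sum b]
  refine Finset.sum_congr rfl fun i _ => ?_
  rw [(h i).2, map_smul, Finsupp.smul_apply, b.repr_self, smul_eq_mul, Finsupp.single_apply]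
  split_ifs with h1 <;> simp

theorem ev_cases : ∀ s : Ev, s.1 = 1 ∨ s.1 = (fun _ => -1) ∨ ∑ i, ((s.1 i : ℤ)) = 2 ∨ ∑ i, ((s.1 i : ℤ)) = -2 := by
  decide +kernel

theorem sum_sg (s : Fin 6 → ℤˣ) : ∑ i, sg F (s i) = ((∑ i, ((s i : ℤ)) : ℤ) : F) := by
  simp only [sg]; push_cast; rfl

theorem tr_m1_mul (x : GL ι F) : tr (m1 * x) = - tr x := by
  rw [tr, tr, Units.val_mul, m1, sc_neg_one, neg_one_mul, Matrix.trace_neg]

namespace Setup

variable {TV : Set T} (S : Setup P C TV) {R : Subgroup T}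
include S

/-- an involutory lift of a nontrivial element has trace `± 2` -/
theorem tr_dd {b : Basis (Fin 6) F (ι → F)} (hb : Frm b (DD C R)) {x : GL ι F} {r : T} (hr : r ∈ R) (hr1 : r ≠ 1)
    (hx : IL C x r) : tr x = 2 ∨ tr x = -2 := by
  obtain ⟨s, hs, hxs⟩ := hb.diag x ⟨r, hr, hx⟩
  rcases ev_cases ⟨s, hs⟩ with h | h | h | h
  · exfalso
    have h' : s = 1 := h
    subst h'
    have h1 : x = 1 := hxs.eq (Sgn.one b)
    rw [h1] at hx
    exact hr1 (hx.1.unique Cov.L.one)
  · exfalso
    have h' : s = fun _ => -1 := h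
    subst h'
    have h1 : x = m1 := hxs.eq (Sgn.m1 b)
    rw [h1] at hx
    exact hr1 (hx.1.unique (Cov.L.of_sc S.neg))
  · left
    rw [hxs.tr, sum_sg]
    change (((∑ i, ((s i : ℤ)) : ℤ)) : F) = 2
    rw [show ∑ i, ((s i : ℤ)) = 2 from h]; norm_num
  · right
    rw [hxs.tr, sum_sg]
    change (((∑ i, ((s i : ℤ)) : ℤ)) : F) = -2
    rw [show ∑ i, ((s i : ℤ)) = -2 from h]; norm_num

theorem two_ne_neg (h3 : (3 : F) ≠ 0) : (2 : F) ≠ -2 := by
  intro h
  have h1 : (2 : F) * 2 = 0 := by linear_combination h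
  rcases mul_eq_zero.1 h1 with h1 | h1 <;> exact S.two h1

/-- every class element: trace `± 2` -/
theorem tr_cl {b : Basis (Fin 6) F (ι → F)} (hR : Rad TV R) (hb : Frm b (DD C R)) {x : GL ι F} {τ : T} (hτ : τ ∈ TV)
    (hx : IL C x τ) : tr x = 2 ∨ tr x = -2 := by
  have hRf : Finite R := Nat.finite_of_card_ne_zero (by rw [hR.card]; norm_num)
  obtain ⟨r, hr, hr1⟩ : ∃ r ∈ R, r ≠ 1 := by
    have : Nontrivial R := Finite.one_lt_card_iff_nontrivial.1 (by rw [hR.card]; norm_num)
    obtain ⟨r, hr⟩ := exists_ne (1 : R)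
    exact ⟨r, r.2, fun h => hr (Subtype.ext h)⟩
  obtain ⟨g, hg⟩ := S.isConj τ hτ r (hR.mem r hr hr1)
  obtain ⟨k, hk⟩ := C.exists_lift g
  have h1 := IL_conj hx hk
  rw [hg] at h1
  have h2 := S.tr_dd hb hr hr1 h1
  rwa [H915.LD.tr_conj] at h2

/-- the involutory lift with trace `c = ± 2` -/
theorem exists_tr {b : Basis (Fin 6) F (ι → F)} (hR : Rad TV R) (hb : Frm b (DD C R)) {τ : T} (hτ : τ ∈ TV)
    {c : F} (hc : c = 2 ∨ c = -2) : ∃ x, IL C x τ ∧ tr x = c := by
  obtain ⟨x, hx⟩ := S.exists_IL hτ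
  have h1 := S.tr_cl hR hb hτ hx
  by_cases h : tr x = c
  · exact ⟨x, hx, h⟩
  · refine ⟨m1 * x, S.IL_neg hx, ?_⟩
    rw [tr_m1_mul]
    rcases h1 with h1 | h1 <;> rcases hc with rfl | rfl
    · exact absurd h1 h
    · rw [h1]
    · rw [h1]; ring
    · exact absurd h1 h

theorem tr_unique {x y : GL ι F} {τ : T} (hx : IL C x τ) (hy : IL C y τ) (h : tr x = tr y)
    (h2 : tr y = 2 ∨ tr y = -2) : x = y := by
  rcases S.IL_unique hx hy with h1 | h1
  · exact h1
  · exfalso
    rw [h1, tr_m1_mul] at h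
    have h3 : 2 * tr y = 0 := by linear_combination -h
    rcases mul_eq_zero.1 h3 with h4 | h4
    · exact S.two h4
    · rw [h4] at h2
      rcases h2 with h2 | h2
      · exact S.two h2.symm
      · exact S.two (by linear_combination h2)

end Setup

/-- sign vectors of trace 2 -/
abbrev E2 := {s : Fin 6 → ℤˣ // ∏ i, s i = 1 ∧ ∑ i, ((s i : ℤ)) = 2}

theorem prod_E2 : ∏ s : E2, s.1 0 = -1 := by decide +kernel

/-- the data of the parity argument -/
structure ParD (R : Subgroup T) {E : Type*} (f : E → T) (μ : Equiv.Perm E) : Prop where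
  inj : Function.Injective f
  mem : ∀ e, f e ∈ R
  ne : ∀ e, f e ≠ 1
  surj : ∀ t ∈ R, t ≠ 1 → ∃ e, f e = t
  prod : ∀ r, f r * f (μ r) * f (μ (μ r)) = 1
  trans : ∀ r r', ∃ γ : T, γ * f r * γ⁻¹ = f r' ∧
    γ * f (μ r) * γ⁻¹ = f (μ r') ∧ γ * f (μ (μ r)) * γ⁻¹ = f (μ (μ r'))

namespace Setup

variable {TV : Set T} (S : Setup P C TV) {R : Subgroup T}
include S

theorem parity {b : Basis (Fin 6) F (ι → F)} (hR : Rad TV R) (hb : Frm b (DD C R)) {E : Type*} {f : E → T}
    {μ : Equiv.Perm E} (hμ : ParD R f μ) {x y z : GL ι F} (r : E) (hx : IL C x (f r)) (hx2 : tr x = 2)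
    (hy : IL C y (f (μ r))) (hy2 : tr y = 2) (hz : IL C z (f (μ (μ r)))) (hz2 : tr z = 2) :
    x * y = m1 * z := by
  classical
  have hRf : Finite R := Nat.finite_of_card_ne_zero (by rw [hR.card]; norm_num)
  have : Fintype R := Fintype.ofFinite R
  have hfE : Finite E := Finite.of_injective (fun e : E => (⟨f e, hμ.mem e⟩ : R)) fun e e' h =>
    hμ.inj (congrArg Subtype.val h)
  have : Fintype E := Fintype.ofFinite E
  have hcl : ∀ r : E, f r ∈ TV := fun r => hR.mem _ (hμ.mem r) (hμ.ne r)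
  choose l hl hl2 using fun r : E => S.exists_tr hR hb (hcl r) (Or.inl rfl)
  have huniq : ∀ (r : E) (w : GL ι F), IL C w (f r) → tr w = 2 → w = l r := by
    intro r w hw hw2
    exact S.tr_unique hw (hl r) (by rw [hw2, hl2]) (Or.inl (hl2 r))
  have hmul : ∀ r, (f r) * (f (μ r)) = (f (μ (μ r))) := by
    intro r
    have h1 := hμ.prod r
    have h2 := S.sq _ (hcl (μ (μ r)))
    calc (f r) * (f (μ r)) =
        ((f r) * (f (μ r)) * (f (μ (μ r)))) * (f (μ (μ r)))⁻¹ := by group
      _ = (f (μ (μ r)))⁻¹ := by rw [h1, one_mul]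
      _ = (f (μ (μ r))) := by rw [inv_eq_iff_mul_eq_one, h2]
  have hIL : ∀ r, IL C (l r * l (μ r)) (f (μ (μ r))) := by
    intro r
    have h1 := S.IL_comm (hl r) (hl (μ r)) (hR.comm _ (hμ.mem r) _ (hμ.mem (μ r))) (by rw [hmul]; exact hcl _)
    rw [hmul] at h1
    exact h1.2
  have hpm : ∀ r, l r * l (μ r) = l (μ (μ r)) ∨ l r * l (μ r) = m1 * l (μ (μ r)) := fun r =>
    S.IL_unique (hIL r) (hl _)
  -- the sign is the same for all `r`
  have hconst : ∀ r r', l r * l (μ r) = l (μ (μ r)) → l r' * l (μ r') = l (μ (μ r')) := by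
    intro r r' h
    obtain ⟨γ, h1, h2, h3⟩ := hμ.trans r r'
    obtain ⟨g, hg⟩ := C.exists_lift γ
    have c1 : g * l r * g⁻¹ = l r' := by
      apply huniq
      · have := IL_conj (hl r) hg; rwa [h1] at this
      · rw [H915.LD.tr_conj, hl2]
    have c2 : g * l (μ r) * g⁻¹ = l (μ r') := by
      apply huniq
      · have := IL_conj (hl (μ r)) hg; rwa [h2] at this
      · rw [H915.LD.tr_conj, hl2]
    have c3 : g * l (μ (μ r)) * g⁻¹ = l (μ (μ r')) := by
      apply huniq
      · have := IL_conj (hl (μ (μ r))) hg; rwa [h3] at this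
      · rw [H915.LD.tr_conj, hl2]
    rw [← c1, ← c2, ← c3, ← h]
    group
  have hneg : ∀ r, l r * l (μ r) = m1 * l (μ (μ r)) := by
    by_contra hcon
    push_neg at hcon
    obtain ⟨r0, hr0⟩ := hcon
    have h0 := (hpm r0).resolve_right hr0
    have hall : ∀ r, l r * l (μ r) = l (μ (μ r)) := fun r => hconst r0 r h0
    -- the sign at `0`
    have hs : ∀ r, ∃ s : E2, Sgn b (l r) s.1 := by
      intro r
      obtain ⟨s, hs, hls⟩ := hb.diag _ ⟨_, hμ.mem r, hl r⟩
      have h1 := hls.tr
      rw [hl2 r, sum_sg] at h1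
      refine ⟨⟨s, hs, ?_⟩, hls⟩
      rcases ev_cases ⟨s, hs⟩ with h | h | h | h
      · exfalso
        have h' : s = 1 := h
        subst h'
        have h3 : l r = 1 := hls.eq (Sgn.one b)
        have h4 := hl r
        rw [h3] at h4
        exact hμ.ne r (h4.1.unique Cov.L.one)
      · exfalso
        have h' : s = fun _ => -1 := h
        subst h'
        have h3 : l r = m1 := hls.eq (Sgn.m1 b)
        have h4 := hl r
        rw [h3] at h4
        exact hμ.ne r (h4.1.unique (Cov.L.of_sc S.neg))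
      · exact h
      · exfalso
        rw [show ∑ i, ((s i : ℤ)) = -2 from h] at h1
        push_cast at h1
        have h5 : (2 : F) * 2 = 0 := by linear_combination h1
        rcases mul_eq_zero.1 h5 with h6 | h6 <;> exact S.two h6
    choose s hss using hs
    have hbij : Function.Bijective s := by
      constructor
      · intro r r' h
        have h1 := hss r
        rw [h] at h1
        have h2 := h1.eq (hss r')
        have h3 := hl r
        rw [h2] at h3
        exact hμ.inj (h3.1.unique (hl r').1)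
      · rintro ⟨t, ht, ht2⟩
        obtain ⟨w, ⟨τ, hτ, hw⟩, hwt⟩ := hb.full t ht
        have hτ1 : τ ≠ 1 := by
          rintro rfl
          rcases S.IL_one_iff.1 hw with h | h
          · rw [h] at hwt
            have := hwt.unique S.two (Sgn.one b)
            rw [this] at ht2
            revert ht2; decide
          · rw [h] at hwt
            have := hwt.unique S.two (Sgn.m1 b)
            rw [this] at ht2
            revert ht2; decide
        have hw2 : tr w = 2 := by rw [hwt.tr, sum_sg, ht2]; norm_num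
        obtain ⟨e, rfl⟩ := hμ.surj τ hτ hτ1
        refine ⟨e, ?_⟩
        have h1 := huniq e w hw hw2
        apply Subtype.ext
        have h2 := hss e
        rw [← h1] at h2
        exact h2.unique S.two hwt
    have hprod : ∏ r, (s r).1 0 = -1 := by
      rw [← prod_E2]
      exact Fintype.prod_bijective s hbij _ _ fun _ => rfl
    have hrel : ∀ r, (s r).1 0 * (s (μ r)).1 0 = (s (μ (μ r))).1 0 := by
      intro r
      have h1 := (hss r).mul (hss (μ r))
      rw [hall r] at h1
      have h2 := h1.unique S.two (hss (μ (μ r)))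
      have h3 := congrFun h2 0
      exact h3
    have e1 : ∏ r, (s (μ r)).1 0 = ∏ r, (s r).1 0 := Equiv.prod_comp μ fun r => (s r).1 0
    have e2 : ∏ r, (s (μ (μ r))).1 0 = ∏ r, (s r).1 0 := by
      rw [← e1]
      exact Equiv.prod_comp μ fun r => (s (μ r)).1 0
    have e3 : ∏ r, ((s r).1 0 * (s (μ r)).1 0) = ∏ r, (s (μ (μ r))).1 0 := Finset.prod_congr rfl fun r _ => hrel r
    rw [Finset.prod_mul_distrib, e1, e2, hprod] at e3
    revert e3; decide
  rw [huniq r x hx hx2, huniq _ y hy hy2, huniq _ z hz hz2]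
  exact hneg r

end Setup

end Cfsg.Agent.H913.N6
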