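import Cfsg.Agent.H913.N6Om

/-!
# The stabiliser of the 126 lines (helper913)
-/

set_option autoImplicit false
set_option linter.unusedSectionVars false

namespace Cfsg.Agent.H913.N6

open Cfsg Cfsg.Geo Matrix
open Module (Basis)
open Cfsg.Agent.H915.LD (Core Soc toSoc tr)
open Cfsg.Agent.H906.SL3Par Cfsg.Agent.H906.L34 Cfsg.Agent.H906.T14
open scoped commutatorElement

variable {ι : Type} [Fintype ι] [DecidableEq ι] {F : Type*} [Field F] {P : Subgroup (GL ι F)}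
  {K : Type*} [Field K]

/-! ### generation -/

/-- `PSL_3(K)` is generated by two opposite radicals -/
theorem gen_lq : Rl K ⊔ Rq K = ⊤ := by
  have key : Qa K ⊔ Qc K = ⊤ := by
    rw [eq_top_iff, ← Cfsg.Agent.LieClassical.SLGen.closure_transvections (ι := Fin 3) (F := K), Subgroup.closure_le]
    rintro _ ⟨i, j, hij, c, rfl⟩
    set S := Qa K ⊔ Qc K with hS
    have l1 : Qa K ≤ S := le_sup_left
    have l2 : Qc K ≤ S := le_sup_right
    change tv hij c ∈ S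
    have k02 : ∀ c : K, tv h02 c ∈ S := fun c => l1 ⟨0, c, tv02 c⟩
    have k12 : ∀ c : K, tv h12 c ∈ S := fun c => l1 ⟨c, 0, tv12 c⟩
    have k20 : ∀ c : K, tv h20 c ∈ S := fun c => l2 ⟨c, 0, by
      apply ext'
      intro i j
      rw [tv_val]
      fin_cases i <;> fin_cases j <;> simp [low]⟩
    have k21 : ∀ c : K, tv h21 c ∈ S := fun c => l2 ⟨0, c, by
      apply ext'
      intro i j
      rw [tv_val]
      fin_cases i <;> fin_cases j <;> simp [low]⟩
    have comm_mem : ∀ {x y : X K}, x ∈ S → y ∈ S → ⁅x, y⁆ ∈ S := by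
      intro x y hx hy
      rw [commutatorElement_def]
      exact S.mul_mem (S.mul_mem (S.mul_mem hx hy) (S.inv_mem hx)) (S.inv_mem hy)
    have k01 : ∀ c : K, tv h01 c ∈ S := by
      intro c
      have h3 := Cfsg.Agent.LieClassical.SLGen.commutator_transvection (F := K) h01 h02 h21 c 1
      rw [mul_one] at h3
      have h4 : ⁅tv h02 c, tv h21 1⁆ = tv h01 c := h3
      rw [← h4]
      exact comm_mem (k02 c) (k21 1)
    have k10 : ∀ c : K, tv h10 c ∈ S := by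
      intro c
      have h3 := Cfsg.Agent.LieClassical.SLGen.commutator_transvection (F := K) h10 h12 h20 c 1
      rw [mul_one] at h3
      have h4 : ⁅tv h12 c, tv h20 1⁆ = tv h10 c := h3
      rw [← h4]
      exact comm_mem (k12 c) (k20 1)
    fin_cases i <;> fin_cases j
    · exact absurd rfl hij
    · exact k01 c
    · exact k02 c
    · exact k10 c
    · exact absurd rfl hij
    · exact k12 c
    · exact k20 c
    · exact k21 c
    · exact absurd rfl hij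
  have := congrArg (Subgroup.map (pj K)) key
  rwa [Subgroup.map_sup, Subgroup.map_top_of_surjective _ (QuotientGroup.mk'_surjective _)] at this

/-- induction over lifts -/
theorem lift_induction {T : Type*} [Group T] {C : Cov P T} {R R' : Subgroup T} (h : R ⊔ R' = ⊤)
    (A : Subgroup (GL ι F)) (hs : ∀ c : Fˣ, sc c ∈ A) (h1 : ∀ r ∈ R, ∃ x ∈ A, C.L x r) (h2 : ∀ r ∈ R', ∃ x ∈ A, C.L x r) :
    P ≤ A := by
  have key : ∀ σ : T, ∃ x ∈ A, C.L x σ := by
    intro σ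
    have hσ : σ ∈ Subgroup.closure ((R : Set T) ∪ R') := by
      rw [Subgroup.closure_union, Subgroup.closure_eq, Subgroup.closure_eq, h]; exact Subgroup.mem_top σ
    induction hσ using Subgroup.closure_induction with
    | mem σ hσ =>
      rcases hσ with hσ | hσ
      · exact h1 σ hσ
      · exact h2 σ hσ
    | one => exact ⟨1, A.one_mem, Cov.L.one⟩
    | mul σ τ _ _ ih1 ih2 =>
      obtain ⟨x, hx, hx'⟩ := ih1
      obtain ⟨y, hy, hy'⟩ := ih2
      exact ⟨x * y, A.mul_mem hx hy, hx'.mul hy'⟩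
    | inv σ _ ih =>
      obtain ⟨x, hx, hx'⟩ := ih
      exact ⟨x⁻¹, A.inv_mem hx, hx'.inv⟩
  intro p hp
  obtain ⟨σ, hσ⟩ := Cov.L.of_mem C hp
  obtain ⟨x, hx, hx'⟩ := key σ
  obtain ⟨c, -, rfl⟩ := hσ.exists_sc hx'
  exact A.mul_mem (hs c) hx

/-! ### the stabiliser -/

/-- the stabiliser of the 126 lines -/
def StabOm (b : Fin 6 → ι → F) (θ : F) : Subgroup (GL ι F) where
  carrier := {x | ∀ v, ap x v ∈ Om b θ ↔ v ∈ Om b θ}
  mul_mem' := by
    intro x y hx hy v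
    rw [ap_mul, hx, hy]
  one_mem' := by
    intro v
    rw [ap_one]
  inv_mem' := by
    intro x hx v
    have := hx (ap x⁻¹ v)
    rw [← ap_mul, mul_inv_cancel, ap_one] at this
    exact this.symm

theorem mem_StabOm {b : Fin 6 → ι → F} {θ : F} {x : GL ι F} : x ∈ StabOm b θ ↔ ∀ v, ap x v ∈ Om b θ ↔ v ∈ Om b θ :=
  Iff.rfl

theorem StabOm_of_invol {b : Fin 6 → ι → F} {θ : F} {x : GL ι F} (h : x * x = 1) (h1 : ∀ v ∈ Om b θ, ap x v ∈ Om b θ) :
    x ∈ StabOm b θ := by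
  intro v
  refine ⟨fun hv => ?_, h1 v⟩
  have := h1 _ hv
  rwa [← ap_mul, h, ap_one] at this

theorem sc_mem_StabOm {b : Fin 6 → ι → F} {θ : F} (c : Fˣ) : sc c ∈ StabOm b θ := by
  intro v
  rw [ap_sc]
  constructor
  · intro h
    have := Om.smul h (inv_ne_zero c.ne_zero)
    rwa [smul_smul, inv_mul_cancel₀ c.ne_zero, one_smul] at this
  · intro h
    exact Om.smul h c.ne_zero

/-- every even sign vector is a product of the `sij 0 k` -/
theorem ev_prod : ∀ s : Ev, s.1 = (if s.1 1 = -1 then sij 0 1 else 1) * (if s.1 2 = -1 then sij 0 2 else 1) *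
    (if s.1 3 = -1 then sij 0 3 else 1) * (if s.1 4 = -1 then sij 0 4 else 1) * (if s.1 5 = -1 then sij 0 5 else 1) := by
  decide +kernel

/-- a subgroup containing the sign changes `sij 0 k` contains all even sign changes -/
theorem sgn_mem {f : Basis (Fin 6) F (ι → F)} {D : Set (GL ι F)} (hf : Frm f D) (A : Subgroup (GL ι F))
    (h : ∀ (k : Fin 6), k ≠ 0 → ∀ x ∈ D, Sgn f x (sij 0 k) → x ∈ A) : ∀ x ∈ D, x ∈ A := by
  intro x hx
  obtain ⟨s, hs, hxs⟩ := hf.diag x hx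
  have hk : ∀ (k : Fin 6), k ≠ 0 → ∃ y ∈ A, Sgn f y (if s k = -1 then sij 0 k else 1) := by
    intro k hk
    split_ifs
    · obtain ⟨y, hy, hys⟩ := hf.full (sij 0 k) (sij_prod (Ne.symm hk))
      exact ⟨y, h k hk y hy hys, hys⟩
    · exact ⟨1, A.one_mem, Sgn.one f⟩
  obtain ⟨y1, m1, s1⟩ := hk 1 (by decide)
  obtain ⟨y2, m2, s2⟩ := hk 2 (by decide)
  obtain ⟨y3, m3, s3⟩ := hk 3 (by decide)
  obtain ⟨y4, m4, s4⟩ := hk 4 (by decide)
  obtain ⟨y5, m5, s5⟩ := hk 5 (by decide)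
  have h1 := (((s1.mul s2).mul s3).mul s4).mul s5
  have h2 := ev_prod ⟨s, hs⟩
  rw [← show s = _ from h2] at h1
  rw [hxs.eq h1]
  exact A.mul_mem (A.mul_mem (A.mul_mem (A.mul_mem m1 m2) m3) m4) m5

theorem Two.P_le [Fintype K] {C : Cov P (PT K)} (S : Setup P C (TVK K)) (hK : Fintype.card K = 4)
    {b g : Basis (Fin 6) F (ι → F)} {θ : F} (W : Two C b g θ) : P ≤ StabOm b θ := by
  have hD : ∀ x, (∃ R, x ∈ DD C R) → x * x = 1 := by
    rintro x ⟨R, r, hr, hx⟩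
    exact hx.2
  have hb : ∀ x ∈ DD C (Rl K), x ∈ StabOm b θ := by
    refine sgn_mem W.hb _ fun k hk x hx hxs => StabOm_of_invol (hD x ⟨_, hx⟩) ?_
    have hsem := sem_b θ hxs
    have hT : ∃ T : List (ℕ × ℤ × ℤ), ∀ n < 126, okT (fb k (LL n)) (T.getD n (0, 0, 0)) := by
      fin_cases k
      · exact absurd rfl hk
      · exact ⟨T0, ok0⟩
      · exact ⟨T1, ok1⟩
      · exact ⟨T2, ok2⟩
      · exact ⟨T3, ok3⟩
      · exact ⟨T4, ok4⟩
    obtain ⟨T, hT⟩ := hT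
    exact step_Om W.hθ S.two one_ne_zero hsem hT
  have h4 : (4 : F) ≠ 0 := by
    have : (4 : F) = 2 * 2 := by norm_num
    rw [this]; exact mul_ne_zero S.two S.two
  have hg : ∀ x ∈ DD C (Rq K), x ∈ StabOm b θ := by
    refine sgn_mem W.hg _ fun k hk x hx hxs => StabOm_of_invol (hD x ⟨_, hx⟩) ?_
    have hsem := sem_g W.hθ S.two W.cmb hk hxs
    have hT : ∃ T : List (ℕ × ℤ × ℤ), ∀ n < 126, okT (fg k (LL n)) (T.getD n (0, 0, 0)) := by
      fin_cases k
      · exact absurd rfl hk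
      · exact ⟨T5, ok5⟩
      · exact ⟨T6, ok6⟩
      · exact ⟨T7, ok7⟩
      · exact ⟨T8, ok8⟩
      · exact ⟨T9, ok9⟩
    obtain ⟨T, hT⟩ := hT
    exact step_Om W.hθ S.two h4 hsem hT
  refine lift_induction (C := C) gen_lq _ sc_mem_StabOm ?_ ?_
  · intro r hr
    obtain ⟨x, hx⟩ := S.exists_IL' (rad_l hK) hr
    exact ⟨x, hb x ⟨r, hr, hx⟩, hx.1⟩
  · intro r hr
    obtain ⟨x, hx⟩ := S.exists_IL' (rad_q hK) hr
    exact ⟨x, hg x ⟨r, hr, hx⟩, hx.1⟩

/-- the orbit of the lines of `g` -/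
def Orb (P : Subgroup (GL ι F)) (g : Fin 6 → ι → F) : Set (ι → F) :=
  {v | ∃ p ∈ P, ∃ (i : Fin 6) (k : F), k ≠ 0 ∧ v = k • ap p (g i)}

theorem Orb.of_ap {g : Fin 6 → ι → F} {x : GL ι F} (hx : x ∈ P) {v w : ι → F} {μ : F} (hμ : μ ≠ 0)
    (h : ap x v = μ • w) (hv : v ∈ Orb P g) : w ∈ Orb P g := by
  obtain ⟨p, hp, i, k, hk, rfl⟩ := hv
  refine ⟨x * p, P.mul_mem hx hp, i, μ⁻¹ * k, mul_ne_zero (inv_ne_zero hμ) hk, ?_⟩
  have h1 : w = μ⁻¹ • (μ • w) := by rw [smul_smul, inv_mul_cancel₀ hμ, one_smul]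
  rw [h1, ← h, ap_smul, smul_smul, ap_mul]

theorem Two.Om_eq [Fintype K] {C : Cov P (PT K)} (S : Setup P C (TVK K)) (hK : Fintype.card K = 4)
    {b g : Basis (Fin 6) F (ι → F)} {θ : F} (W : Two C b g θ) : Om b θ = Orb P g := by
  have hroot : ∀ i : Fin 6, g i = ev b θ (LL i) := by
    intro i
    rw [cmb_sum W.cmb i, ev]
    refine Finset.sum_congr rfl fun j _ => ?_
    rw [okRoot i j, Gq]
    by_cases h : j = i
    · rw [if_pos h, if_pos h.symm]
    · rw [if_neg h, if_neg (Ne.symm h)]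
  have h4 : (4 : F) ≠ 0 := by
    have : (4 : F) = 2 * 2 := by norm_num
    rw [this]; exact mul_ne_zero S.two S.two
  have hn : ∀ n < 126, ev b θ (LL n) ∈ Orb P g := by
    intro n
    induction n using Nat.strong_induction_on with
    | _ n ih =>
    intro hn
    have hp := okPar n hn
    generalize PT2.getD n (0, 0) = q at hp
    -- the generators
    have gb : ∀ (k : Fin 6) (T : List (ℕ × ℤ × ℤ)), k ≠ 0 → q.2 < n → okT (fb k (LL q.2)) (T.getD q.2 (0, 0, 0)) →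
        (T.getD q.2 (0, 0, 0)).1 = n → ev b θ (LL n) ∈ Orb P g := by
      intro k T hk hq hT hTn
      obtain ⟨x, ⟨r, hr, hx⟩, hxs⟩ := W.hb.full (sij 0 k) (sij_prod (Ne.symm hk))
      obtain ⟨-, μ, hμ, h1⟩ := step W.hθ S.two one_ne_zero (sem_b θ hxs) hT
      rw [hTn] at h1
      exact Orb.of_ap hx.1.mem hμ h1 (ih _ hq (hq.trans hn))
    have gg : ∀ (k : Fin 6) (T : List (ℕ × ℤ × ℤ)), k ≠ 0 → q.2 < n → okT (fg k (LL q.2)) (T.getD q.2 (0, 0, 0)) →
        (T.getD q.2 (0, 0, 0)).1 = n → ev b θ (LL n) ∈ Orb P g := by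
      intro k T hk hq hT hTn
      obtain ⟨x, ⟨r, hr, hx⟩, hxs⟩ := W.hg.full (sij 0 k) (sij_prod (Ne.symm hk))
      obtain ⟨-, μ, hμ, h1⟩ := step W.hθ S.two h4 (sem_g W.hθ S.two W.cmb hk hxs) hT
      rw [hTn] at h1
      exact Orb.of_ap hx.1.mem hμ h1 (ih _ hq (hq.trans hn))
    rcases hp with ⟨-, hp⟩ | ⟨hq, hp⟩
    · refine ⟨1, P.one_mem, ⟨n, hp⟩, 1, one_ne_zero, ?_⟩
      rw [one_smul, ap_one, hroot]
    · have hq' := hq.trans hn
      rcases hp with hp | hp | hp | hp | hp | hp | hp | hp | hp | hp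
      · exact gb 1 T0 (by decide) hq (ok0 _ hq') hp.2
      · exact gb 2 T1 (by decide) hq (ok1 _ hq') hp.2
      · exact gb 3 T2 (by decide) hq (ok2 _ hq') hp.2
      · exact gb 4 T3 (by decide) hq (ok3 _ hq') hp.2
      · exact gb 5 T4 (by decide) hq (ok4 _ hq') hp.2
      · exact gg 1 T5 (by decide) hq (ok5 _ hq') hp.2
      · exact gg 2 T6 (by decide) hq (ok6 _ hq') hp.2
      · exact gg 3 T7 (by decide) hq (ok7 _ hq') hp.2
      · exact gg 4 T8 (by decide) hq (ok8 _ hq') hp.2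
      · exact gg 5 T9 (by decide) hq (ok9 _ hq') hp.2
  apply Set.eq_of_subset_of_subset
  · rintro v ⟨n, hn', k, hk, rfl⟩
    obtain ⟨p, hp, i, k', hk', h⟩ := hn n hn'
    exact ⟨p, hp, i, k * k', mul_ne_zero hk hk', by rw [h, smul_smul]⟩
  · rintro v ⟨p, hp, i, k, hk, rfl⟩
    apply Om.smul _ hk
    have h1 : g i ∈ Om b θ := ⟨i, by omega, 1, one_ne_zero, by rw [one_smul, hroot]⟩
    exact (W.P_le S hK hp (g i)).2 h1

end Cfsg.Agent.H913.N6
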