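import Cfsg.Agent.H913.N6Par
import Cfsg.Agent.H906.T14Cls

/-!
# `PSL_3(4)` : involutions and radicals (helper913)
-/

set_option autoImplicit false
set_option linter.unusedSectionVars false

namespace Cfsg.Agent.H913.N6

open Cfsg Cfsg.Geo Matrix
open Module (Basis)
open Cfsg.Agent.H915.LD (Core Soc toSoc tr)
open Cfsg.Agent.H906.SL3Par Cfsg.Agent.H906.L34 Cfsg.Agent.H906.T14

/-- the group `PSL_3(K)` -/
abbrev PT (K : Type*) [Field K] := Matrix.ProjectiveSpecialLinearGroup (Fin 3) K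

/-- involutions -/
def TVK (K : Type*) [Field K] : Set (PT K) := {t | t * t = 1 ∧ t ≠ 1}

section

variable {K : Type*} [Field K]

/-- lower elements -/
def low (a b : K) : X K := ⟨!![1, 0, 0; 0, 1, 0; a, b, 1], by simp [Matrix.det_fin_three]⟩

lemma low_mul (a b a' b' : K) : low a b * low a' b' = low (a + a') (b + b') := by
  apply ext'
  intro i j
  rw [mul_entry]
  fin_cases i <;> fin_cases j <;> simp [low]

lemma low_zero : low (0 : K) 0 = 1 := by
  apply ext'
  intro i j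
  fin_cases i <;> fin_cases j <;> simp [low]

lemma low_inv (a b : K) : (low a b)⁻¹ = low (-a) (-b) := by
  rw [inv_eq_iff_mul_eq_one, low_mul, add_neg_cancel, add_neg_cancel, low_zero]

lemma uni_mul' (b c b' c' : K) : uni 0 b c * uni 0 b' c' = uni 0 (b + b') (c + c') := by
  rw [uni_mul]; congr 1 <;> ring

/-- the lower unipotent group -/
def Qc (K : Type*) [Field K] : Subgroup (X K) where
  carrier := {g | ∃ a b, g = low a b}
  mul_mem' := by
    rintro _ _ ⟨b, c, rfl⟩ ⟨b', c', rfl⟩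
    exact ⟨_, _, low_mul _ _ _ _⟩
  one_mem' := ⟨0, 0, low_zero.symm⟩
  inv_mem' := by
    rintro _ ⟨b, c, rfl⟩
    exact ⟨_, _, low_inv _ _⟩

/-- a nonscalar element -/
lemma pj_ne_one {g : X K} {i j : Fin 3} (hij : i ≠ j) (h : g.1 i j ≠ 0) : pj K g ≠ 1 := by
  intro h0
  have h1 : g ∈ Subgroup.center (X K) := (QuotientGroup.eq_one_iff g).1 h0
  obtain ⟨r, -, hr⟩ := Matrix.SpecialLinearGroup.mem_center_iff.1 h1
  have := congrFun (congrFun hr i) j
  rw [Matrix.scalar_apply, Matrix.diagonal_apply_ne _ hij] at this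
  exact h this.symm

lemma pj_eq {g h : X K} (h0 : pj K g = pj K h) : ∃ r : K, r ^ 3 = 1 ∧ ∀ i j, h.1 i j = r * g.1 i j := by
  have h1 : g⁻¹ * h ∈ Subgroup.center (X K) := QuotientGroup.eq.1 h0
  obtain ⟨r, hr3, hr⟩ := Matrix.SpecialLinearGroup.mem_center_iff.1 h1
  rw [Fintype.card_fin] at hr3
  refine ⟨r, hr3, fun i j => ?_⟩
  have e1 : h.1 = g.1 * (Matrix.scalar (Fin 3)) r := by
    rw [hr]
    change h.1 = (g * (g⁻¹ * h)).1
    rw [mul_inv_cancel_left]
  rw [e1, Matrix.scalar_apply, Matrix.mul_diagonal, mul_comm]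

/-- the radical of the stabiliser of a line -/
abbrev Rl (K : Type*) [Field K] : Subgroup (PT K) := (Qa K).map (pj K)

/-- the opposite radical -/
abbrev Rq (K : Type*) [Field K] : Subgroup (PT K) := (Qc K).map (pj K)

variable [Fintype K] (hK : Fintype.card K = 4)
include hK

lemma uni_sq (b c : K) : uni 0 b c * uni 0 b c = 1 := by
  rw [uni_mul', add_self hK, add_self hK, uni_zero]

lemma uni_sq' (a c : K) : uni a 0 c * uni a 0 c = 1 := by
  rw [uni_mul, add_self hK, add_self hK, add_self hK, mul_zero, add_zero, uni_zero]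

lemma low_sq (a b : K) : low a b * low a b = 1 := by
  rw [low_mul, add_self hK, add_self hK, low_zero]

omit [Fintype K] hK in
lemma uni_ne {a b c : K} (h : a ≠ 0 ∨ b ≠ 0 ∨ c ≠ 0) : pj K (uni a b c) ≠ 1 := by
  rcases h with h | h | h
  · exact pj_ne_one (i := 0) (j := 1) (by decide) (by simpa [uni] using h)
  · exact pj_ne_one (i := 1) (j := 2) (by decide) (by simpa [uni] using h)
  · exact pj_ne_one (i := 0) (j := 2) (by decide) (by simpa [uni] using h)

omit [Fintype K] hK in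
lemma low_ne {a b : K} (h : a ≠ 0 ∨ b ≠ 0) : pj K (low a b) ≠ 1 := by
  rcases h with h | h
  · exact pj_ne_one (i := 2) (j := 0) (by decide) (by simpa [low] using h)
  · exact pj_ne_one (i := 2) (j := 1) (by decide) (by simpa [low] using h)

lemma uni_TV {b c : K} (h : b ≠ 0 ∨ c ≠ 0) : pj K (uni 0 b c) ∈ TVK K :=
  ⟨by rw [← map_mul, uni_sq hK, map_one], uni_ne (Or.inr h)⟩

lemma uni_TV' {a c : K} (h : a ≠ 0 ∨ c ≠ 0) : pj K (uni a 0 c) ∈ TVK K :=
  ⟨by rw [← map_mul, uni_sq' hK, map_one], uni_ne (h.elim Or.inl fun h => Or.inr (Or.inr h))⟩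

lemma low_TV {a b : K} (h : a ≠ 0 ∨ b ≠ 0) : pj K (low a b) ∈ TVK K :=
  ⟨by rw [← map_mul, low_sq hK, map_one], low_ne h⟩

lemma rad_l : Rad (TVK K) (Rl K) := by
  refine ⟨?_, ?_, ?_⟩
  · have cardK : Nat.card (K × K) = 16 := by
      rw [Nat.card_prod, Nat.card_eq_fintype_card, hK]
    rw [← cardK]
    symm
    refine Nat.card_congr (Equiv.ofBijective
      (fun x : K × K => (⟨pj K (uni 0 x.1 x.2), ⟨_, ⟨_, _, rfl⟩, rfl⟩⟩ : Rl K)) ⟨?_, ?_⟩)
    · rintro ⟨b, c⟩ ⟨b', c'⟩ hh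
      have h6 := pj_uni_inj (congrArg Subtype.val hh)
      have h7 := congrFun (congrFun (congrArg Subtype.val h6) 1) 2
      have h8 := congrFun (congrFun (congrArg Subtype.val h6) 0) 2
      simp [uni] at h7 h8
      rw [h7, h8]
    · rintro ⟨_, _, ⟨b, c, rfl⟩, rfl⟩
      exact ⟨(b, c), rfl⟩
  · rintro _ ⟨_, ⟨b, c, rfl⟩, rfl⟩ hne
    refine ⟨by rw [← map_mul, uni_sq hK, map_one], hne⟩
  · rintro _ ⟨_, ⟨b, c, rfl⟩, rfl⟩ _ ⟨_, ⟨b', c', rfl⟩, rfl⟩
    rw [← map_mul, ← map_mul, uni_mul', uni_mul', add_comm b, add_comm c]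

lemma rad_q : Rad (TVK K) (Rq K) := by
  refine ⟨?_, ?_, ?_⟩
  · have cardK : Nat.card (K × K) = 16 := by
      rw [Nat.card_prod, Nat.card_eq_fintype_card, hK]
    rw [← cardK]
    symm
    refine Nat.card_congr (Equiv.ofBijective
      (fun x : K × K => (⟨pj K (low x.1 x.2), ⟨_, ⟨_, _, rfl⟩, rfl⟩⟩ : Rq K)) ⟨?_, ?_⟩)
    · rintro ⟨b, c⟩ ⟨b', c'⟩ hh
      have h6 : pj K (low b c) = pj K (low b' c') := congrArg Subtype.val hh
      obtain ⟨r, -, hr⟩ := pj_eq h6
      have h7 := hr 0 0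
      have h8 := hr 2 0
      have h9 := hr 2 1
      simp [low] at h7 h8 h9
      rw [← h7, one_mul] at h8 h9
      rw [h8, h9]
    · rintro ⟨_, _, ⟨b, c, rfl⟩, rfl⟩
      exact ⟨(b, c), rfl⟩
  · rintro _ ⟨_, ⟨b, c, rfl⟩, rfl⟩ hne
    refine ⟨by rw [← map_mul, low_sq hK, map_one], hne⟩
  · rintro _ ⟨_, ⟨b, c, rfl⟩, rfl⟩ _ ⟨_, ⟨b', c', rfl⟩, rfl⟩
    rw [← map_mul, ← map_mul, low_mul, low_mul, add_comm b, add_comm c]

/-- the setup -/
theorem setupK {ι : Type} [Fintype ι] [DecidableEq ι] {F : Type*} [Field F] {P : Subgroup (GL ι F)} {C : Cov P (PT K)}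
    (two : (2 : F) ≠ 0) (card : Fintype.card ι = 6) (pow : ∀ c : Fˣ, sc c ∈ P → c ^ 6 = 1) (neg : (m1 : GL ι F) ∈ P) :
    Setup P C (TVK K) := by
  refine ⟨two, card, pow, neg, ?_, ?_, ?_, ?_, ?_⟩
  · rintro τ ⟨h1, h2⟩ g
    refine ⟨?_, ?_⟩
    · calc g * τ * g⁻¹ * (g * τ * g⁻¹) = g * (τ * τ) * g⁻¹ := by group
        _ = 1 := by rw [h1]; group
    · intro h
      apply h2
      calc τ = g⁻¹ * (g * τ * g⁻¹) * g := by group
        _ = 1 := by rw [h]; group
  · rintro τ ⟨h1, h2⟩ τ' ⟨h1', h2'⟩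
    exact conj_invol hK (by rw [pow_two]; exact h1) h2 (by rw [pow_two]; exact h1') h2'
  · rintro τ ⟨h1, h2⟩; exact h1
  · rintro ⟨h1, h2⟩; exact h2 rfl
  · obtain ⟨w, hw⟩ := exists_w hK
    have hw0 : w ≠ 0 := by rintro rfl; simp at hw
    have hw1 : (1 : K) + w ≠ 0 := by
      intro h
      have h2 := two_zero hK
      have : (1 : K) = 0 := by linear_combination hw - w * h
      exact one_ne_zero this
    refine ⟨pj K (uni 0 1 0), uni_TV hK (Or.inl one_ne_zero), pj K (uni 0 0 1), uni_TV hK (Or.inr one_ne_zero),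
      pj K (uni 0 w 0), uni_TV hK (Or.inl hw0), ?_, ?_, ?_, ?_⟩
    · rw [← map_mul, uni_mul']
      exact uni_TV hK (Or.inl (by rw [add_zero]; exact one_ne_zero))
    · rw [← map_mul, uni_mul']
      exact uni_TV hK (Or.inl hw1)
    · rw [← map_mul, uni_mul']
      exact uni_TV hK (Or.inl (by rw [zero_add]; exact hw0))
    · rw [← map_mul, ← map_mul, uni_mul', uni_mul']
      exact uni_TV hK (Or.inl (by rw [zero_add]; exact hw1))

end

/-! ### block elements -/

section Blk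

variable {K : Type*} [Field K]

/-- block diagonal elements -/
def blk (a b c d : K) (h : a * d - b * c = 1) : X K :=
  ⟨!![a, b, 0; c, d, 0; 0, 0, 1], by simp [Matrix.det_fin_three]; linear_combination h⟩

lemma blk_uni {a b c d : K} (h : a * d - b * c = 1) (x y : K) :
    blk a b c d h * uni 0 y x = uni 0 (c * x + d * y) (a * x + b * y) * blk a b c d h := by
  apply ext'
  intro i j
  rw [mul_entry, mul_entry]
  fin_cases i <;> fin_cases j <;> simp [uni, blk]

lemma blk_low {a b c d : K} (h : a * d - b * c = 1) (x y : K) :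
    low x y * blk a b c d h = blk a b c d h * low (x * a + y * c) (x * b + y * d) := by
  apply ext'
  intro i j
  rw [mul_entry, mul_entry]
  fin_cases i <;> fin_cases j <;> simp [low, blk]

lemma blk_mul {a b c d a' b' c' d' : K} (h : a * d - b * c = 1) (h' : a' * d' - b' * c' = 1)
    (h'' : (a * a' + b * c') * (c * b' + d * d') - (a * b' + b * d') * (c * a' + d * c') = 1) :
    blk a b c d h * blk a' b' c' d' h' = blk (a * a' + b * c') (a * b' + b * d') (c * a' + d * c') (c * b' + d * d')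
      h'' := by
  apply ext'
  intro i j
  rw [mul_entry]
  fin_cases i <;> fin_cases j <;> simp [blk]

lemma blk_ext {a b c d a' b' c' d' : K} {h : a * d - b * c = 1} {h' : a' * d' - b' * c' = 1}
    (e1 : a = a') (e2 : b = b') (e3 : c = c') (e4 : d = d') : blk a b c d h = blk a' b' c' d' h' := by
  subst e1 e2 e3 e4; rfl

/-- block elements normalise `R_l` -/
lemma blk_norm_l {a b c d : K} (h : a * d - b * c = 1) : ∀ r ∈ Rl K,
    pj K (blk a b c d h) * r * (pj K (blk a b c d h))⁻¹ ∈ Rl K := by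
  rintro _ ⟨_, ⟨y, x, rfl⟩, rfl⟩
  refine ⟨uni 0 (c * x + d * y) (a * x + b * y), ⟨_, _, rfl⟩, ?_⟩
  rw [eq_mul_inv_iff_mul_eq, ← map_mul, ← map_mul, blk_uni]

/-- block elements normalise `R_q` -/
lemma blk_norm_q {a b c d : K} (h : a * d - b * c = 1) : ∀ r ∈ Rq K,
    pj K (blk a b c d h) * r * (pj K (blk a b c d h))⁻¹ ∈ Rq K := by
  rintro _ ⟨_, ⟨x, y, rfl⟩, rfl⟩
  refine ⟨low (x * d - y * c) (y * a - x * b), ⟨_, _, rfl⟩, ?_⟩
  rw [eq_mul_inv_iff_mul_eq, ← map_mul, ← map_mul, blk_low]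
  congr 3
  · linear_combination x * h
  · linear_combination y * h

end Blk

end Cfsg.Agent.H913.N6
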