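import Cfsg.Agent.H913.N6T

/-!
# Canonical lifts and relations for covers of `PSL_3(4)` (helper913)
-/

set_option autoImplicit false
set_option linter.unusedSectionVars false

namespace Cfsg.Agent.H913.N6

open Cfsg Cfsg.Geo Matrix
open Module (Basis)
open Cfsg.Agent.H915.LD (Core Soc toSoc tr)
open Cfsg.Agent.H906.SL3Par Cfsg.Agent.H906.L34 Cfsg.Agent.H906.T14

section Blk

variable {K : Type*} [Field K]

lemma blk_inv {a b c d : K} (h : a * d - b * c = 1) (h' : d * a - (-b) * (-c) = 1) :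
    (blk a b c d h)⁻¹ = blk d (-b) (-c) a h' := by
  rw [inv_eq_iff_mul_eq_one]
  apply ext'
  intro i j
  rw [mul_entry]
  fin_cases i <;> fin_cases j <;> simp [blk]
  · linear_combination h
  · ring
  · ring
  · linear_combination h

lemma blk_norm_l' {a b c d : K} (h : a * d - b * c = 1) : ∀ r ∈ Rl K,
    (pj K (blk a b c d h))⁻¹ * r * pj K (blk a b c d h) ∈ Rl K := by
  intro r hr
  have h' : d * a - (-b) * (-c) = 1 := by linear_combination h
  have := blk_norm_l h' r hr
  rw [← blk_inv h h', map_inv, inv_inv] at this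
  exact this

lemma blk_norm_q' {a b c d : K} (h : a * d - b * c = 1) : ∀ r ∈ Rq K,
    (pj K (blk a b c d h))⁻¹ * r * pj K (blk a b c d h) ∈ Rq K := by
  intro r hr
  have h' : d * a - (-b) * (-c) = 1 := by linear_combination h
  have := blk_norm_q h' r hr
  rw [← blk_inv h h', map_inv, inv_inv] at this
  exact this

lemma col {x y : K} (h : x ≠ 0 ∨ y ≠ 0) : ∃ p r, x * r - p * y = 1 := by
  by_cases hx : x = 0
  · have hy : y ≠ 0 := by
      rcases h with h | h
      · exact absurd hx h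
      · exact h
    exact ⟨-y⁻¹, 0, by field_simp; ring⟩
  · exact ⟨0, x⁻¹, by field_simp; ring⟩

lemma blk_trans {x y x' y' : K} (h : x ≠ 0 ∨ y ≠ 0) (h' : x' ≠ 0 ∨ y' ≠ 0) :
    ∃ (a b c d : K) (_ : a * d - b * c = 1), a * x + b * y = x' ∧ c * x + d * y = y' := by
  obtain ⟨p, r, h1⟩ := col h
  obtain ⟨p', r', h2⟩ := col h'
  refine ⟨x' * r - p' * y, p' * x - x' * p, y' * r - r' * y, r' * x - y' * p, ?_, ?_, ?_⟩
  · linear_combination (x' * r' - p' * y') * h1 + h2
  · linear_combination x' * h1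
  · linear_combination y' * h1

/-- nonzero vectors -/
abbrev EV (K : Type*) [Field K] := {v : K × K // v.1 ≠ 0 ∨ v.2 ≠ 0}

/-- multiplication by a nonzero scalar -/
def muV (w u : K) (h : w * u = 1) : Equiv.Perm (EV K) where
  toFun v := ⟨(w * v.1.1, w * v.1.2), by
    have hw : w ≠ 0 := left_ne_zero_of_mul_eq_one h
    exact v.2.imp (mul_ne_zero hw) (mul_ne_zero hw)⟩
  invFun v := ⟨(u * v.1.1, u * v.1.2), by
    have hw : u ≠ 0 := right_ne_zero_of_mul_eq_one h
    exact v.2.imp (mul_ne_zero hw) (mul_ne_zero hw)⟩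
  left_inv v := by
    apply Subtype.ext
    apply Prod.ext
    · change u * (w * v.1.1) = v.1.1
      linear_combination v.1.1 * h
    · change u * (w * v.1.2) = v.1.2
      linear_combination v.1.2 * h
  right_inv v := by
    apply Subtype.ext
    apply Prod.ext
    · change w * (u * v.1.1) = v.1.1
      linear_combination v.1.1 * h
    · change w * (u * v.1.2) = v.1.2
      linear_combination v.1.2 * h

/-- the indexing of `R_l` -/
def fV (v : EV K) : PT K := pj K (uni 0 v.1.2 v.1.1)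

variable [Fintype K] (hK : Fintype.card K = 4)
include hK

theorem parD {w : K} (hw : w ^ 2 + w + 1 = 0) (hw' : w * w ^ 2 = 1) : ParD (Rl K) fV (muV w (w ^ 2) hw') where
  inj := by
    rintro ⟨⟨x, y⟩, h⟩ ⟨⟨x', y'⟩, h'⟩ h0
    have h6 := pj_uni_inj h0
    have h7 := congrFun (congrFun (congrArg Subtype.val h6) 1) 2
    have h8 := congrFun (congrFun (congrArg Subtype.val h6) 0) 2
    simp [uni] at h7 h8
    subst h7 h8
    rfl
  mem := fun v => ⟨_, ⟨_, _, rfl⟩, rfl⟩
  ne := fun v => uni_ne (Or.inr v.2.symm)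
  surj := by
    rintro _ ⟨_, ⟨y, x, rfl⟩, rfl⟩ hne
    refine ⟨⟨(x, y), ?_⟩, rfl⟩
    by_contra hcon
    push Not at hcon
    obtain ⟨h1, h2⟩ := hcon
    apply hne
    change x = 0 at h1
    change y = 0 at h2
    rw [h1, h2, uni_zero, map_one]
  prod := by
    rintro ⟨⟨x, y⟩, h⟩
    change pj K (uni 0 y x) * pj K (uni 0 (w * y) (w * x)) * pj K (uni 0 (w * (w * y)) (w * (w * x))) = 1
    rw [← map_mul, ← map_mul, uni_mul', uni_mul', ← map_one (pj K), ← uni_zero]
    congr 2
    · linear_combination y * hw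
    · linear_combination x * hw
  trans := by
    rintro ⟨⟨x, y⟩, h⟩ ⟨⟨x', y'⟩, h'⟩
    obtain ⟨a, b, c, d, hd, h1, h2⟩ := blk_trans h h'
    change a * x + b * y = x' at h1
    change c * x + d * y = y' at h2
    refine ⟨pj K (blk a b c d hd), ?_, ?_, ?_⟩
    · change _ * pj K (uni 0 y x) * _ = pj K (uni 0 y' x')
      rw [mul_inv_eq_iff_eq_mul, ← map_mul, ← map_mul, blk_uni, h1, h2]
    · change _ * pj K (uni 0 (w * y) (w * x)) * _ = pj K (uni 0 (w * y') (w * x'))
      rw [mul_inv_eq_iff_eq_mul, ← map_mul, ← map_mul, blk_uni, ← h1, ← h2]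
      congr 3 <;> ring
    · change _ * pj K (uni 0 (w * (w * y)) (w * (w * x))) * _ = pj K (uni 0 (w * (w * y')) (w * (w * x')))
      rw [mul_inv_eq_iff_eq_mul, ← map_mul, ← map_mul, blk_uni, ← h1, ← h2]
      congr 3 <;> ring

end Blk

/-! ### canonical lifts -/

section CL

variable {ι : Type} [Fintype ι] [DecidableEq ι] {F : Type*} [Field F] {P : Subgroup (GL ι F)}
  {T : Type*} [Group T] {C : Cov P T} {TV : Set T}

/-- the involutory lift with trace `-2` -/
def CL (C : Cov P T) (x : GL ι F) (τ : T) : Prop := IL C x τ ∧ tr x = -2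

theorem CL.conj {x g : GL ι F} {τ γ : T} (hx : CL C x τ) (hg : C.L g γ) : CL C (g * x * g⁻¹) (γ * τ * γ⁻¹) :=
  ⟨Setup.IL_conj hx.1 hg, by rw [H915.LD.tr_conj]; exact hx.2⟩

namespace Setup

variable (S : Setup P C TV)
include S

theorem CL_unique {x y : GL ι F} {τ : T} (hx : CL C x τ) (hy : CL C y τ) : x = y :=
  S.tr_unique hx.1 hy.1 (by rw [hx.2, hy.2]) (Or.inr hy.2)

theorem exists_CL {R : Subgroup T} {b : Basis (Fin 6) F (ι → F)} (hR : Rad TV R) (hb : Frm b (DD C R)) {τ : T}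
    (hτ : τ ∈ TV) : ∃ x, CL C x τ := by
  obtain ⟨x, hx, h⟩ := S.exists_tr hR hb hτ (Or.inr rfl)
  exact ⟨x, hx, h⟩

/-- canonical lifts multiply along root groups -/
theorem CL_mul {R : Subgroup T} {b : Basis (Fin 6) F (ι → F)} (hR : Rad TV R) (hb : Frm b (DD C R)) {E : Type*}
    {f : E → T} {μ : Equiv.Perm E} (hμ : ParD R f μ) {x y z : GL ι F} (r : E) (γ : T)
    (hx : CL C x (γ * f r * γ⁻¹)) (hy : CL C y (γ * f (μ r) * γ⁻¹)) (hz : CL C z (γ * f (μ (μ r)) * γ⁻¹)) :
    x * y = z := by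
  obtain ⟨g, hg⟩ := C.exists_lift γ
  have key : ∀ {x : GL ι F} {τ : T}, CL C x (γ * τ * γ⁻¹) → IL C (m1 * (g⁻¹ * x * g)) τ ∧ tr (m1 * (g⁻¹ * x * g)) = 2 := by
    intro x τ hx
    have h1 := hx.conj hg.inv
    rw [inv_inv, inv_inv] at h1
    have e : γ⁻¹ * (γ * τ * γ⁻¹) * γ = τ := by group
    rw [e] at h1
    refine ⟨S.IL_neg h1.1, ?_⟩
    rw [tr_m1_mul, h1.2, neg_neg]
  obtain ⟨a1, a2⟩ := key hx
  obtain ⟨b1, b2⟩ := key hy
  obtain ⟨c1, c2⟩ := key hz
  have h := S.parity hR hb hμ r a1 a2 b1 b2 c1 c2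
  have e1 : m1 * (g⁻¹ * x * g) * (m1 * (g⁻¹ * y * g)) = g⁻¹ * (x * y) * g := by
    calc m1 * (g⁻¹ * x * g) * (m1 * (g⁻¹ * y * g)) = m1 * ((g⁻¹ * x * g) * m1) * (g⁻¹ * y * g) := by group
      _ = m1 * (m1 * (g⁻¹ * x * g)) * (g⁻¹ * y * g) := by rw [m1_comm (g⁻¹ * x * g)]
      _ = (m1 * m1) * (g⁻¹ * (x * y) * g) := by group
      _ = g⁻¹ * (x * y) * g := by rw [m1_mul_m1, one_mul]
  have e2 : m1 * (m1 * (g⁻¹ * z * g)) = g⁻¹ * z * g := by
    rw [← mul_assoc, m1_mul_m1, one_mul]
  rw [e1, e2] at h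
  calc x * y = g * (g⁻¹ * (x * y) * g) * g⁻¹ := by group
    _ = g * (g⁻¹ * z * g) * g⁻¹ := by rw [h]
    _ = z := by group

/-- a product of two canonical lifts -/
theorem CL_order {n m : GL ι F} {N M : T} (hn : CL C n N) (hm : CL C m M) {k : ℕ}
    (h : (N * M) ^ k * N = M * (N * M) ^ k) : (n * m) ^ (2 * k + 1) = 1 := by
  have hL : C.L ((n * m) ^ k) ((N * M) ^ k) := (hn.1.1.mul hm.1.1).pow k
  have h1 := hn.conj hL
  have e : (N * M) ^ k * N * ((N * M) ^ k)⁻¹ = M := by rw [h]; group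
  rw [e] at h1
  have h2 := S.CL_unique h1 hm
  set c := n * m with hc
  have hm' : m = n * c := by rw [hc, ← mul_assoc, hn.1.2, one_mul]
  have hcn : n * c * n = c⁻¹ := by
    rw [← hm', eq_inv_iff_mul_eq_one, hc]
    calc m * n * (n * m) = m * (n * n) * m := by group
      _ = 1 := by rw [hn.1.2, mul_one, hm.1.2]
  have hck : n * c ^ k * n = (c ^ k)⁻¹ := by
    have hni : n⁻¹ = n := by rw [inv_eq_iff_mul_eq_one]; exact hn.1.2
    have h3 : n * c * n⁻¹ = c⁻¹ := by rw [hni, hcn]
    have h4 : n * c ^ k * n⁻¹ = (n * c * n⁻¹) ^ k := by rw [conj_pow]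
    rw [hni] at h4
    rw [h4]
    have h5 : n * c * n = n * c * n⁻¹ := by rw [hni]
    rw [h5, h3, inv_pow]
  have h6 : c ^ k * n = n * (c ^ k)⁻¹ := by
    rw [← hck]
    calc c ^ k * n = (n * n) * (c ^ k * n) := by rw [hn.1.2, one_mul]
      _ = n * (n * c ^ k * n) := by group
  have h7 : c ^ k * n = n * c * c ^ k := by
    rw [← hm']
    calc c ^ k * n = (c ^ k * n * (c ^ k)⁻¹) * c ^ k := by group
      _ = m * c ^ k := by rw [h2]
  rw [h6] at h7
  have h8 : (c ^ k)⁻¹ = c * c ^ k := by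
    have : n * (c ^ k)⁻¹ = n * (c * c ^ k) := by rw [h7, mul_assoc]
    exact mul_left_cancel this
  calc c ^ (2 * k + 1) = c ^ k * (c * c ^ k) := by
        rw [← pow_succ', ← pow_add]; congr 1; omega
    _ = 1 := by rw [← h8, mul_inv_cancel]

end Setup

end CL

/-! ### the generators -/

section Gens

variable {ι : Type} [Fintype ι] [DecidableEq ι] {F : Type*} [Field F] {P : Subgroup (GL ι F)}
  {K : Type*} [Field K]

/-- upper block elements -/
def up (a : K) : X K := blk 1 a 0 1 (by ring)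

/-- lower block elements -/
def dn (a : K) : X K := blk 1 0 a 1 (by ring)

/-- the generators of the block `SL_2(4)` -/
structure Gens (C : Cov P (PT K)) (w : K) (n m x d : GL ι F) : Prop where
  nL : CL C n (pj K (up 1))
  xL : CL C x (pj K (up w))
  xnL : CL C (x * n) (pj K (up (w * w)))
  mL : CL C m (pj K (dn w))
  dL : ∃ h, C.L d (pj K (blk (w * w) 0 0 w h))
  comm : x * n = n * x
  dn : d * n * d⁻¹ = x
  dx : d * x * d⁻¹ = x * n
  five : (n * m) ^ 5 = 1
  three : (x * n * m) ^ 3 = 1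

theorem exists_gens [Fintype K] (hK : Fintype.card K = 4) {C : Cov P (PT K)} (S : Setup P C (TVK K))
    {b : Basis (Fin 6) F (ι → F)} (hb : Frm b (DD C (Rl K))) {w : K} (hw : w ^ 2 + w + 1 = 0) :
    ∃ n m x d : GL ι F, Gens C w n m x d := by
  have h2 := two_zero hK
  have hw3 : w * w ^ 2 = 1 := by linear_combination (w - 1) * hw
  have hw0 : w ≠ 0 := left_ne_zero_of_mul_eq_one hw3
  have hup : ∀ {a : K}, a ≠ 0 → pj K (up a) ∈ TVK K := by
    intro a ha
    refine ⟨?_, pj_ne_one (i := 0) (j := 1) (by decide) (by simpa [up, blk] using ha)⟩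
    rw [← map_mul, up, blk_mul _ _ (by ring)]
    have : blk (1 * 1 + a * 0) (1 * a + a * 1) (0 * 1 + 1 * 0) (0 * a + 1 * 1) (by ring) = (1 : X K) := by
      apply ext'
      intro i j
      fin_cases i <;> fin_cases j <;> simp [blk]
      linear_combination a * h2
    rw [this, map_one]
  have hdn : pj K (dn w) ∈ TVK K := by
    refine ⟨?_, pj_ne_one (i := 1) (j := 0) (by decide) (by simpa [dn, blk] using hw0)⟩
    rw [← map_mul, dn, blk_mul _ _ (by ring)]
    have : blk (1 * 1 + 0 * w) (1 * 0 + 0 * 1) (w * 1 + 1 * w) (w * 0 + 1 * 1) (by ring) = (1 : X K) := by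
      apply ext'
      intro i j
      fin_cases i <;> fin_cases j <;> simp [blk]
      linear_combination w * h2
    rw [this, map_one]
  obtain ⟨n, hn⟩ := S.exists_CL (rad_l hK) hb (hup one_ne_zero)
  obtain ⟨x, hx⟩ := S.exists_CL (rad_l hK) hb (hup hw0)
  obtain ⟨z, hz⟩ := S.exists_CL (rad_l hK) hb (hup (mul_ne_zero hw0 hw0))
  obtain ⟨m, hm⟩ := S.exists_CL (rad_l hK) hb hdn
  have hdd : (w * w) * w - 0 * 0 = 1 := by linear_combination hw3
  obtain ⟨d, hd⟩ := C.exists_lift (pj K (blk (w * w) 0 0 w hdd))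
  -- the product
  have hconj : ∀ c : K, pj K (n23 K) * pj K (uni 0 0 c) * (pj K (n23 K))⁻¹ = pj K (up c) := by
    intro c
    rw [mul_inv_eq_iff_eq_mul, ← map_mul, ← map_mul]
    congr 1
    apply ext'
    intro i j
    rw [mul_entry, mul_entry]
    fin_cases i <;> fin_cases j <;> simp [up, blk, uni, n23]
    linear_combination c * h2
  have hnx : n * x = z := by
    refine S.CL_mul (rad_l hK) hb (parD hK hw hw3) (⟨(1, 0), Or.inl one_ne_zero⟩ : EV K) (pj K (n23 K)) ?_ ?_ ?_
    · change CL C n (pj K (n23 K) * pj K (uni 0 0 1) * (pj K (n23 K))⁻¹)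
      rw [hconj]; exact hn
    · change CL C x (pj K (n23 K) * pj K (uni 0 (w * 0) (w * 1)) * (pj K (n23 K))⁻¹)
      rw [mul_zero, mul_one, hconj]; exact hx
    · change CL C z (pj K (n23 K) * pj K (uni 0 (w * (w * 0)) (w * (w * 1))) * (pj K (n23 K))⁻¹)
      rw [mul_zero, mul_zero, mul_one, hconj]; exact hz
  have hcomm : x * n = n * x := by
    refine (S.IL_comm hx.1 hn.1 ?_ ?_).1
    · rw [← map_mul, ← map_mul]
      congr 1
      apply ext'
      intro i j
      rw [mul_entry, mul_entry]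
      fin_cases i <;> fin_cases j <;> simp [up, blk]
      ring
    · rw [← map_mul]
      have e : up w * up 1 = up (1 + w) := by
        apply ext'
        intro i j
        rw [mul_entry]
        fin_cases i <;> fin_cases j <;> simp [up, blk]
      rw [e]
      apply hup
      intro h
      have : (w : K) ^ 2 = 0 := by linear_combination hw - h
      exact hw0 (pow_eq_zero_iff (two_ne_zero) |>.1 this)
  have hxn : x * n = z := by rw [hcomm, hnx]
  refine ⟨n, m, x, d, hn, hx, by rw [hxn]; exact hz, hm, ⟨hdd, hd⟩, hcomm, ?_, ?_, ?_, ?_⟩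
  · refine S.CL_unique ?_ hx
    have h1 := hn.conj hd
    have e : pj K (blk (w * w) 0 0 w hdd) * pj K (up 1) * (pj K (blk (w * w) 0 0 w hdd))⁻¹ = pj K (up w) := by
      rw [mul_inv_eq_iff_eq_mul, ← map_mul, ← map_mul]
      congr 1
      apply ext'
      intro i j
      rw [mul_entry, mul_entry]
      fin_cases i <;> fin_cases j <;> simp [up, blk]
    rw [e] at h1
    exact h1
  · rw [hxn]
    refine S.CL_unique ?_ hz
    have h1 := hx.conj hd
    have e : pj K (blk (w * w) 0 0 w hdd) * pj K (up w) * (pj K (blk (w * w) 0 0 w hdd))⁻¹ = pj K (up (w * w)) := by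
      rw [mul_inv_eq_iff_eq_mul, ← map_mul, ← map_mul]
      congr 1
      apply ext'
      intro i j
      rw [mul_entry, mul_entry]
      fin_cases i <;> fin_cases j <;> simp [up, blk]
    rw [e] at h1
    exact h1
  · refine S.CL_order hn hm (k := 2) ?_
    rw [← map_mul, ← map_pow, ← map_mul, ← map_mul]
    congr 1
    have e1 : (up 1 * dn w : X K).1 = !![1 + w, 1, 0; w, 1, 0; 0, 0, 1] := by
      ext i j
      rw [mul_entry]
      fin_cases i <;> fin_cases j <;> simp [up, dn, blk]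
    have e2 : ((up 1 * dn w) * (up 1 * dn w) : X K).1 = !![w ^ 2 + w + 1, w, 0; w ^ 2, 1 + w, 0; 0, 0, 1] := by
      ext i j
      rw [mul_entry, e1]
      fin_cases i <;> fin_cases j <;> simp
      · linear_combination w * h2
      · linear_combination h2
      · linear_combination w * h2
      · ring
    rw [pow_two]
    generalize (up 1 * dn w) * (up 1 * dn w) = A at e2 ⊢
    apply ext'
    intro i j
    rw [mul_entry, mul_entry, e2]
    fin_cases i <;> fin_cases j <;> simp [up, dn, blk]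
    · exact hw
    · exact Or.inr hw
    · ring
  · have h3 := S.CL_order (n := x * n) (m := m) (by rw [hxn]; exact hz) hm (k := 1) (by
      rw [pow_one, ← map_mul, ← map_mul, ← map_mul]
      congr 1
      have e1 : (up (w * w) * dn w : X K).1 = !![1 + w * w * w, w * w, 0; w, 1, 0; 0, 0, 1] := by
        ext i j
        rw [mul_entry]
        fin_cases i <;> fin_cases j <;> simp [up, dn, blk]
      generalize (up (w * w) * dn w) = A at e1 ⊢
      apply ext'
      intro i j
      rw [mul_entry, mul_entry, e1]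
      have e0 : 1 + w * w * w = 0 := by linear_combination hw3 + h2
      fin_cases i <;> fin_cases j <;> simp [up, dn, blk]
      · exact Or.inl e0
      · exact Or.inr e0)
    exact h3

end Gens

end Cfsg.Agent.H913.N6
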