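import Cfsg.Agent.H913.N6Ico2
import Cfsg.Agent.H913.N6T2

/-!
# Two opposite frames (helper913)
-/

set_option autoImplicit false
set_option linter.unusedSectionVars false

namespace Cfsg.Agent.H913.N6

open Cfsg Cfsg.Geo Matrix
open Module (Basis)
open Cfsg.Agent.H915.LD (Core Soc toSoc tr)
open Cfsg.Agent.H906.SL3Par Cfsg.Agent.H906.L34 Cfsg.Agent.H906.T14

variable {ι : Type} [Fintype ι] [DecidableEq ι] {F : Type*} [Field F]

/-- the conference matrix of order 6 -/
def Cm : Fin 6 → Fin 6 → ℤ := ![![0, 1, 1, 1, 1, 1], ![1, 0, 1, -1, -1, 1], ![1, 1, 0, 1, -1, -1],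
  ![1, -1, 1, 0, 1, -1], ![1, -1, -1, 1, 0, 1], ![1, 1, -1, -1, 1, 0]]

/-- the combination `α b_i + β (C b)_i` -/
structure Cmb (b g : Fin 6 → ι → F) (α β : F) : Prop where
  g0 : g 0 = α • b 0 + β • (b 1 + b 2 + b 3 + b 4 + b 5)
  g1 : g 1 = α • b 1 + β • (b 0 + b 2 - b 3 - b 4 + b 5)
  g2 : g 2 = α • b 2 + β • (b 0 + b 1 + b 3 - b 4 - b 5)
  g3 : g 3 = α • b 3 + β • (b 0 - b 1 + b 2 + b 4 - b 5)
  g4 : g 4 = α • b 4 + β • (b 0 - b 1 - b 2 + b 3 + b 5)
  g5 : g 5 = α • b 5 + β • (b 0 + b 1 - b 2 - b 3 + b 4)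

theorem exists_cmb {b g : Basis (Fin 6) F (ι → F)} {n m x : GL ι F} (hb : NF b n m x) (hg : NF g n m x) :
    ∃ α β : F, Cmb b g α β := by
  have e0 : g 0 = b.repr (g 0) 0 • b 0 + b.repr (g 0) 1 • b 1 + b.repr (g 0) 2 • b 2 + b.repr (g 0) 3 • b 3 +
      b.repr (g 0) 4 • b 4 + b.repr (g 0) 5 • b 5 := by
    conv_lhs => rw [← b.sum_repr (g 0)]
    rw [Fin.sum_univ_six]
  generalize b.repr (g 0) 0 = a0 at e0
  generalize b.repr (g 0) 1 = a1 at e0
  generalize b.repr (g 0) 2 = a2 at e0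
  generalize b.repr (g 0) 3 = a3 at e0
  generalize b.repr (g 0) 4 = a4 at e0
  generalize b.repr (g 0) 5 = a5 at e0
  have e1 : a0 • b 0 + a1 • b 1 + a2 • b 2 + a3 • b 3 + a4 • b 4 + a5 • b 5 =
      a0 • b 0 + a1 • b 2 + a2 • b 3 + a3 • b 4 + a4 • b 5 + a5 • b 1 := by
    rw [← e0, ← hg.c0, e0]
    simp only [ap_add, ap_smul, hb.c0, hb.c1, hb.c2, hb.c3, hb.c4, hb.c5]
  have f1 := congrArg (fun v => b.repr v 1) e1
  have f2 := congrArg (fun v => b.repr v 2) e1
  have f3 := congrArg (fun v => b.repr v 3) e1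
  have f4 := congrArg (fun v => b.repr v 4) e1
  simp [Finsupp.single_apply] at f1 f2 f3 f4
  subst f4 f3 f2 f1
  have e2 : g 0 = a0 • b 0 + a4 • (b 1 + b 2 + b 3 + b 4 + b 5) := by rw [e0]; module
  have e3 : g 1 = a0 • b 1 + a4 • (b 0 + b 2 - b 3 - b 4 + b 5) := by
    rw [← hg.x0, e2]
    simp only [ap_add, ap_smul, hb.x0, hb.x1, hb.x2, hb.x3, hb.x4, hb.x5]
    module
  have e4 : g 2 = a0 • b 2 + a4 • (b 0 + b 1 + b 3 - b 4 - b 5) := by
    rw [← hg.c1, e3]
    simp only [ap_add, ap_sub, ap_smul, hb.c0, hb.c1, hb.c2, hb.c3, hb.c4, hb.c5]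
    module
  have e5 : g 3 = a0 • b 3 + a4 • (b 0 - b 1 + b 2 + b 4 - b 5) := by
    rw [← hg.c2, e4]
    simp only [ap_add, ap_sub, ap_smul, hb.c0, hb.c1, hb.c2, hb.c3, hb.c4, hb.c5]
    module
  have e6 : g 4 = a0 • b 4 + a4 • (b 0 - b 1 - b 2 + b 3 + b 5) := by
    rw [← hg.c3, e5]
    simp only [ap_add, ap_sub, ap_smul, hb.c0, hb.c1, hb.c2, hb.c3, hb.c4, hb.c5]
    module
  have e7 : g 5 = a0 • b 5 + a4 • (b 0 + b 1 - b 2 - b 3 + b 4) := by
    rw [← hg.c4, e6]
    simp only [ap_add, ap_sub, ap_smul, hb.c0, hb.c1, hb.c2, hb.c3, hb.c4, hb.c5]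
    module
  exact ⟨a0, a4, e2, e3, e4, e5, e6, e7⟩

theorem Cmb.inv0 {b g : Fin 6 → ι → F} {α β : F} (h : Cmb b g α β) :
    (α ^ 2 - 5 * β ^ 2) • b 0 = α • g 0 - β • (g 1 + g 2 + g 3 + g 4 + g 5) := by
  rw [h.g0, h.g1, h.g2, h.g3, h.g4, h.g5]
  module

/-- the algebra behind the ratio -/
theorem ratio_aux (h2 : (2 : F) ≠ 0) {b g : Basis (Fin 6) F (ι → F)} {α β : F} (h : Cmb b g α β) (hβ : β ≠ 0)
    {t u : GL ι F} (ht : Sgn g t (sij 0 1)) (hu : Sgn b u (sij 0 1)) {s : F} {i : Fin 6} (hi : i = 0 ∨ i = 1)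
    (hy : ap (t * u * (t * u)) (b 0) = s • b i) : α ^ 2 = -3 * β ^ 2 := by
  have u0 : ap u (b 0) = - b 0 := by
    have := hu 0
    rw [show sij 0 1 0 = -1 by decide, sg_neg_one, neg_one_smul] at this
    exact this
  have u1 : ap u (b 1) = - b 1 := by
    have := hu 1
    rw [show sij 0 1 1 = -1 by decide, sg_neg_one, neg_one_smul] at this
    exact this
  have u2 : ap u (b 2) = b 2 := by
    have := hu 2
    rw [show sij 0 1 2 = 1 by decide, sg_one, one_smul] at this
    exact this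
  have u3 : ap u (b 3) = b 3 := by
    have := hu 3
    rw [show sij 0 1 3 = 1 by decide, sg_one, one_smul] at this
    exact this
  have u4 : ap u (b 4) = b 4 := by
    have := hu 4
    rw [show sij 0 1 4 = 1 by decide, sg_one, one_smul] at this
    exact this
  have u5 : ap u (b 5) = b 5 := by
    have := hu 5
    rw [show sij 0 1 5 = 1 by decide, sg_one, one_smul] at this
    exact this
  have t0 : ap t (g 0) = - g 0 := by
    have := ht 0
    rw [show sij 0 1 0 = -1 by decide, sg_neg_one, neg_one_smul] at this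
    exact this
  have t1 : ap t (g 1) = - g 1 := by
    have := ht 1
    rw [show sij 0 1 1 = -1 by decide, sg_neg_one, neg_one_smul] at this
    exact this
  have t2 : ap t (g 2) = g 2 := by
    have := ht 2
    rw [show sij 0 1 2 = 1 by decide, sg_one, one_smul] at this
    exact this
  have t3 : ap t (g 3) = g 3 := by
    have := ht 3
    rw [show sij 0 1 3 = 1 by decide, sg_one, one_smul] at this
    exact this
  have t4 : ap t (g 4) = g 4 := by
    have := ht 4
    rw [show sij 0 1 4 = 1 by decide, sg_one, one_smul] at this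
    exact this
  have t5 : ap t (g 5) = g 5 := by
    have := ht 5
    rw [show sij 0 1 5 = 1 by decide, sg_one, one_smul] at this
    exact this
  set Δ := α ^ 2 - 5 * β ^ 2 with hΔ
  set ε := α ^ 2 - β ^ 2 with hε
  -- `p = α g₀ - β g₁`
  obtain ⟨p, hp⟩ : ∃ p, p = α • g 0 - β • g 1 := ⟨_, rfl⟩
  have hp2 : p = ε • b 0 + (α * β - β ^ 2) • (b 2 + b 5) + (α * β + β ^ 2) • (b 3 + b 4) := by
    rw [hp, h.g0, h.g1, hε]; module
  have tp : ap t p = - p := by
    rw [hp, ap_sub, ap_smul, ap_smul, t0, t1]; module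
  have up : ap u p = p - (2 * ε) • b 0 := by
    rw [hp2]
    simp only [ap_add, ap_smul, u0, u2, u3, u4, u5]
    module
  have tb : Δ • ap t (b 0) = Δ • b 0 - (2 : F) • p := by
    rw [← ap_smul, h.inv0, hp]
    simp only [ap_sub, ap_add, ap_smul, t0, t1, t2, t3, t4, t5]
    module
  have key : (Δ ^ 2) • ap (t * u * (t * u)) (b 0) = (Δ * (Δ - 4 * ε)) • b 0 - (4 * (Δ - 2 * ε)) • p := by
    have e1 : Δ • ap u (ap t (ap u (b 0))) = (Δ - 4 * ε) • b 0 + (2 : F) • p := by
      rw [u0, ap_neg, ap_neg, smul_neg, ← ap_smul, tb, ap_sub, ap_smul, ap_smul, up, u0]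
      module
    rw [ap_mul, ap_mul, ap_mul, pow_two, mul_smul, ← ap_smul, e1, ap_add, ap_smul, ap_smul, tp, smul_add, smul_smul,
      mul_comm Δ, mul_smul, tb]
    module
  rw [hy, hp2] at key
  have f2 := congrArg (fun v => b.repr v 2) key
  have f3 := congrArg (fun v => b.repr v 3) key
  have hi2 : i ≠ 2 := by rcases hi with rfl | rfl <;> decide
  have hi3 : i ≠ 3 := by rcases hi with rfl | rfl <;> decide
  simp [Finsupp.single_apply, hi2, hi3] at f2 f3
  have h4 : (8 : F) ≠ 0 := by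
    intro h8
    have : (2 : F) ^ 3 = 0 := by rw [← h8]; norm_num
    exact h2 (pow_eq_zero_iff (by norm_num) |>.1 this)
  have f2' : 4 * (Δ - 2 * ε) * (α * β - β ^ 2) = 0 := by
    rcases f2 with (h | h) | h
    · rw [h]; ring
    · rw [h]; ring
    · rw [h]; ring
  have h5 : 8 * β ^ 2 * (Δ - 2 * ε) = 0 := by linear_combination f3 - f2'
  rcases mul_eq_zero.1 h5 with h6 | h6
  · rcases mul_eq_zero.1 h6 with h7 | h7
    · exact absurd h7 h4
    · exact absurd (pow_eq_zero_iff two_ne_zero |>.1 h7) hβ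
  · rw [hΔ, hε] at h6
    linear_combination -h6

section TT

variable {P : Subgroup (GL ι F)} {K : Type*} [Field K]

lemma pj_low_inj {a b a' b' : K} (h : pj K (low a b) = pj K (low a' b')) : a = a' ∧ b = b' := by
  obtain ⟨r, -, hr⟩ := pj_eq h
  have h7 := hr 0 0
  have h8 := hr 2 0
  have h9 := hr 2 1
  simp [low] at h7 h8 h9
  rw [← h7, one_mul] at h8 h9
  exact ⟨h8.symm, h9.symm⟩

lemma pj_uni_inj' {a b c a' b' c' : K} (h : pj K (uni a b c) = pj K (uni a' b' c')) : a = a' ∧ b = b' ∧ c = c' := by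
  have h6 := pj_uni_inj h
  have h7 := congrFun (congrFun (congrArg Subtype.val h6) 1) 2
  have h8 := congrFun (congrFun (congrArg Subtype.val h6) 0) 2
  have h9 := congrFun (congrFun (congrArg Subtype.val h6) 0) 1
  simp [uni] at h7 h8 h9
  exact ⟨h9, h7, h8⟩

lemma up_comm_low {a b : K} (h : pj K (up 1) * pj K (low a b) = pj K (low a b) * pj K (up 1)) : a = 0 := by
  rw [← map_mul, ← map_mul, up, blk_low, map_mul, map_mul] at h
  have h1 := (pj_low_inj (mul_left_cancel h)).2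
  linear_combination -h1

lemma up_comm_uni {b c : K} (h : pj K (up 1) * pj K (uni 0 b c) = pj K (uni 0 b c) * pj K (up 1)) : b = 0 := by
  rw [← map_mul, ← map_mul, up, blk_uni, map_mul, map_mul] at h
  have h1 := (pj_uni_inj' (mul_right_cancel h)).2.2
  linear_combination h1

lemma low_uni_sq (h2 : (2 : K) = 0) (b c : K) : (low 0 b * uni 0 0 c) * (low 0 b * uni 0 0 c) = up (c * b) := by
  have e1 : (low 0 b * uni 0 0 c).1 = !![1, 0, c; 0, 1, 0; 0, b, 1] := by
    ext i j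
    rw [mul_entry]
    fin_cases i <;> fin_cases j <;> simp [low, uni]
  generalize low 0 b * uni 0 0 c = A at e1 ⊢
  apply ext'
  intro i j
  rw [mul_entry, e1]
  fin_cases i <;> fin_cases j <;> simp [up, blk]
  · linear_combination c * h2
  · linear_combination b * h2

lemma elts {w : K} (hw : w ^ 2 + w + 1 = 0) {k : K} (hk : k ^ 3 = 1) : k = 1 ∨ k = w ∨ k = w * w := by
  have h : (k - 1) * ((k - w) * (k - w * w)) = 0 := by
    linear_combination hk + (k - 1) * (w - 1 - k) * hw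
  rcases mul_eq_zero.1 h with h | h
  · left; linear_combination h
  rcases mul_eq_zero.1 h with h | h
  · right; left; linear_combination h
  · right; right; linear_combination h

end TT

end Cfsg.Agent.H913.N6
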