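import Cfsg.Agent.H913.N6Two

/-!
# Two opposite frames: existence (helper913)
-/

set_option autoImplicit false
set_option linter.unusedSectionVars false

namespace Cfsg.Agent.H913.N6

open Cfsg Cfsg.Geo Matrix
open Module (Basis)
open Cfsg.Agent.H915.LD (Core Soc toSoc tr)
open Cfsg.Agent.H906.SL3Par Cfsg.Agent.H906.L34 Cfsg.Agent.H906.T14

variable {ι : Type} [Fintype ι] [DecidableEq ι] {F : Type*} [Field F] {P : Subgroup (GL ι F)}
  {K : Type*} [Field K]

/-- two opposite frames in relative position `θ + C` -/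
structure Two (C : Cov P (PT K)) (b g : Basis (Fin 6) F (ι → F)) (θ : F) : Prop where
  hb : Frm b (DD C (Rl K))
  hg : Frm g (DD C (Rq K))
  hθ : θ * θ = -3
  cmb : Cmb b g θ 1
  nf : ∃ n ∈ P, ∃ m ∈ P, ∃ x ∈ P, NF b n m x

/-- the frames of an invariant radical are monomial for the generators -/
theorem mono_of_norm {C : Cov P (PT K)} {R : Subgroup (PT K)} {b : Basis (Fin 6) F (ι → F)} (h2 : (2 : F) ≠ 0)
    (hb : Frm b (DD C R)) {y : GL ι F} {γ : PT K} (hy : C.L y γ) (hn : ∀ r ∈ R, γ⁻¹ * r * γ ∈ R) :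
    ∃ σ a, Mono b y σ a := by
  refine exists_mono hb h2 fun z hz => ?_
  have h1 := Setup.dd_conj hz hy.inv (by
    intro r hr
    rw [inv_inv]
    exact hn r hr)
  rwa [inv_inv] at h1

theorem NF_of_gens [Fintype K] {C : Cov P (PT K)} (S : Setup P C (TVK K)) {R : Subgroup (PT K)}
    {b : Basis (Fin 6) F (ι → F)} (hb : Frm b (DD C R)) {w : K} {n m x d : GL ι F} (G : Gens C w n m x d)
    (hR : ∀ (a b c d : K) (h : a * d - b * c = 1), ∀ r ∈ R, (pj K (blk a b c d h))⁻¹ * r * pj K (blk a b c d h) ∈ R)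
    (hne : ∃ r ∈ R, (∃ z, IL C z r) ∧ pj K (up 1) * pj K (dn w) * r ≠ r * (pj K (up 1) * pj K (dn w))) :
    ∃ w : Basis (Fin 6) F (ι → F), Reb b w ∧ NF w n m x := by
  obtain ⟨hdd, hd⟩ := G.dL
  refine exists_NF S.two (mono_of_norm S.two hb G.nL.1.1 (hR _ _ _ _ _)) (mono_of_norm S.two hb G.mL.1.1 (hR _ _ _ _ _))
    (mono_of_norm S.two hb G.xL.1.1 (hR _ _ _ _ _)) (mono_of_norm S.two hb hd (hR _ _ _ _ _)) G.nL.1.2 G.mL.1.2
    G.xL.1.2 G.comm G.nL.2 G.dn G.dx G.five G.three ?_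
  by_contra hcon
  push Not at hcon
  obtain ⟨r, hr, ⟨z, hz⟩, hne⟩ := hne
  apply hne
  obtain ⟨s, -, hzs⟩ := hb.diag z ⟨r, hr, hz⟩
  have h1 : n * m * z = z * (n * m) := by
    apply ap_ext b
    intro i
    obtain ⟨t, ht⟩ := hcon i
    rw [ap_mul (n * m) z, ap_mul z (n * m), hzs i, ht, ap_smul, ap_smul, ht, hzs i, smul_comm]
  have h2 := (G.nL.1.1.mul G.mL.1.1).mul hz.1
  have h3 := hz.1.mul (G.nL.1.1.mul G.mL.1.1)
  rw [h1] at h2
  exact h2.unique h3

theorem exists_two [Fintype K] (hK : Fintype.card K = 4) {C : Cov P (PT K)} (S : Setup P C (TVK K))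
    (hdet : ∀ x ∈ P, (x : Matrix ι ι F).det = 1) : ∃ (b g : Basis (Fin 6) F (ι → F)) (θ : F), Two C b g θ := by
  obtain ⟨b0, hb0⟩ := S.exists_frame (rad_l hK) hdet
  obtain ⟨g0, hg0⟩ := S.exists_frame (rad_q hK) hdet
  obtain ⟨w, hw⟩ := exists_w hK
  have k2 := two_zero hK
  have hw3 : w * w ^ 2 = 1 := by linear_combination (w - 1) * hw
  have hw0 : w ≠ 0 := left_ne_zero_of_mul_eq_one hw3
  obtain ⟨n, m, x, d, G⟩ := exists_gens hK S hb0 hw
  have eA : up 1 * dn w = blk (1 + w) 1 w 1 (by ring) := by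
    apply ext'
    intro i j
    rw [mul_entry]
    fin_cases i <;> fin_cases j <;> simp [up, dn, blk]
  obtain ⟨b, hrb, nb⟩ := NF_of_gens S hb0 G (fun a b c d h => blk_norm_l' h) (by
    refine ⟨pj K (uni 0 0 1), ⟨_, ⟨_, _, rfl⟩, rfl⟩, S.exists_IL (uni_TV hK (Or.inr one_ne_zero)), ?_⟩
    rw [← map_mul, ← map_mul, ← map_mul, eA, blk_uni, map_mul, map_mul]
    intro h
    have h1 := (pj_uni_inj' (mul_right_cancel h)).2.1
    apply hw0
    linear_combination h1)
  obtain ⟨g, hrg, ng⟩ := NF_of_gens S hg0 G (fun a b c d h => blk_norm_q' h) (by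
    refine ⟨pj K (low 1 0), ⟨_, ⟨_, _, rfl⟩, rfl⟩, S.exists_IL (low_TV hK (Or.inl one_ne_zero)), ?_⟩
    rw [← map_mul, ← map_mul, ← map_mul, eA, blk_low, map_mul, map_mul]
    intro h
    have h1 := (pj_low_inj (mul_left_cancel h)).2
    have h2 : (1 : K) = 0 := by linear_combination -h1
    exact one_ne_zero h2)
  have hb := hb0.reb hrb
  have hg := hg0.reb hrg
  obtain ⟨α, β, hc⟩ := exists_cmb nb ng
  obtain ⟨t, ⟨_, ⟨_, ⟨a1, b1, rfl⟩, rfl⟩, ht⟩, hts⟩ := hg.full (sij 0 1) (by decide)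
  obtain ⟨u, ⟨_, ⟨_, ⟨b2, c2, rfl⟩, rfl⟩, hu⟩, hus⟩ := hb.full (sij 0 1) (by decide)
  have comm_n : ∀ {f : Basis (Fin 6) F (ι → F)} {z : GL ι F}, NF f n m x → Sgn f z (sij 0 1) → n * z = z * n := by
    intro f z hf hz
    have z0 : ap z (f 0) = - f 0 := by
      have := hz 0
      rwa [show sij 0 1 0 = -1 by decide, sg_neg_one, neg_one_smul] at this
    have z1 : ap z (f 1) = - f 1 := by
      have := hz 1
      rwa [show sij 0 1 1 = -1 by decide, sg_neg_one, neg_one_smul] at this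
    have z2 : ap z (f 2) = f 2 := by
      have := hz 2
      rwa [show sij 0 1 2 = 1 by decide, sg_one, one_smul] at this
    have z3 : ap z (f 3) = f 3 := by
      have := hz 3
      rwa [show sij 0 1 3 = 1 by decide, sg_one, one_smul] at this
    have z4 : ap z (f 4) = f 4 := by
      have := hz 4
      rwa [show sij 0 1 4 = 1 by decide, sg_one, one_smul] at this
    have z5 : ap z (f 5) = f 5 := by
      have := hz 5
      rwa [show sij 0 1 5 = 1 by decide, sg_one, one_smul] at this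
    apply ap_ext f
    intro i
    rw [ap_mul, ap_mul]
    fin_cases i
    · change ap n (ap z (f 0)) = ap z (ap n (f 0))
      rw [z0, hf.n0, ap_neg, ap_neg, hf.n0, z0]
    · change ap n (ap z (f 1)) = ap z (ap n (f 1))
      rw [z1, hf.n1, ap_neg, ap_neg, hf.n1, z1]
    · change ap n (ap z (f 2)) = ap z (ap n (f 2))
      rw [z2, hf.n2, ap_neg, z5]
    · change ap n (ap z (f 3)) = ap z (ap n (f 3))
      rw [z3, hf.n3, ap_neg, z4]
    · change ap n (ap z (f 4)) = ap z (ap n (f 4))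
      rw [z4, hf.n4, ap_neg, z3]
    · change ap n (ap z (f 5)) = ap z (ap n (f 5))
      rw [z5, hf.n5, ap_neg, z2]
  have ha1 : a1 = 0 := by
    apply up_comm_low (b := b1)
    have h1 := G.nL.1.1.mul ht.1
    rw [comm_n ng hts] at h1
    exact h1.unique (ht.1.mul G.nL.1.1)
  have hb2 : b2 = 0 := by
    apply up_comm_uni (c := c2)
    have h1 := G.nL.1.1.mul hu.1
    rw [comm_n nb hus] at h1
    exact h1.unique (hu.1.mul G.nL.1.1)
  subst ha1 hb2
  have hconst : ∀ (f : Basis (Fin 6) F (ι → F)) (z : GL ι F), Sgn f z (sij 0 1) → IL C z 1 → False := by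
    intro f z hf hz
    rcases S.IL_one_iff.1 hz with rfl | rfl
    · have := hf.unique S.two (Sgn.one f)
      exact absurd (congrFun this 0) (by decide)
    · have := hf.unique S.two (Sgn.m1 f)
      exact absurd (congrFun this 2) (by decide)
  have hb1 : b1 ≠ 0 := by
    rintro rfl
    rw [low_zero, map_one] at ht
    exact hconst g t hts ht
  have hc2 : c2 ≠ 0 := by
    rintro rfl
    rw [uni_zero, map_one] at hu
    exact hconst b u hus hu
  -- the commutator
  have hy : C.L (t * u * (t * u)) (pj K (up (c2 * b1))) := by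
    rw [← low_uni_sq k2, map_mul, map_mul]
    exact (ht.1.mul hu.1).mul (ht.1.mul hu.1)
  have hcb : (c2 * b1) ^ 3 = 1 := cube_one hK (mul_ne_zero hc2 hb1)
  have hyb : ∃ (s : F) (i : Fin 6), (i = 0 ∨ i = 1) ∧ ap (t * u * (t * u)) (b 0) = s • b i := by
    rcases elts hw hcb with h | h | h
    · rw [h] at hy
      obtain ⟨c, -, hc⟩ := hy.exists_sc G.nL.1.1
      refine ⟨-(c : F), 0, Or.inl rfl, ?_⟩
      rw [hc, ap_mul, nb.n0, ap_sc, smul_neg, neg_smul]
    · rw [h] at hy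
      obtain ⟨c, -, hc⟩ := hy.exists_sc G.xL.1.1
      refine ⟨(c : F), 1, Or.inr rfl, ?_⟩
      rw [hc, ap_mul, nb.x0, ap_sc]
    · rw [h] at hy
      obtain ⟨c, -, hc⟩ := hy.exists_sc G.xnL.1.1
      refine ⟨-(c : F), 1, Or.inr rfl, ?_⟩
      rw [hc, ap_mul, ap_mul, nb.n0, ap_neg, nb.x0, ap_sc, smul_neg, neg_smul]
  have hβ : β ≠ 0 := by
    rintro rfl
    have hα : ∀ i, g i = α • b i := by
      intro i
      fin_cases i
      · exact (hc.g0).trans (by rw [zero_smul, add_zero]; rfl)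
      · exact (hc.g1).trans (by rw [zero_smul, add_zero]; rfl)
      · exact (hc.g2).trans (by rw [zero_smul, add_zero]; rfl)
      · exact (hc.g3).trans (by rw [zero_smul, add_zero]; rfl)
      · exact (hc.g4).trans (by rw [zero_smul, add_zero]; rfl)
      · exact (hc.g5).trans (by rw [zero_smul, add_zero]; rfl)
    have hus' : Sgn g u (sij 0 1) := by
      intro i
      rw [hα i, ap_smul, hus i, smul_comm]
    have htu : t = u := hts.eq hus'
    have h1 : t * u * (t * u) = 1 := by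
      rw [htu, hu.2, one_mul]
    rw [h1] at hy
    have h2 := hy.unique Cov.L.one
    exact pj_ne_one (i := 0) (j := 1) (by decide) (by simpa [up, blk] using mul_ne_zero hc2 hb1) h2
  obtain ⟨s, i, hi, hyb⟩ := hyb
  have hratio := ratio_aux S.two hc hβ hts hus hi hyb
  -- rescale
  obtain ⟨g', hg'⟩ := exists_reb g (Equiv.refl _) (fun _ => β⁻¹) (fun _ => inv_ne_zero hβ)
  have hrg' : Reb g g' := ⟨Equiv.refl _, _, fun i => ⟨inv_ne_zero hβ, hg' i⟩⟩
  have hg'' : ∀ i, g' i = β⁻¹ • g i := hg'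
  refine ⟨b, g', α / β, hb, hg.reb hrg', ?_, ?_, ⟨n, G.nL.1.1.mem, m, G.mL.1.1.mem, x, G.xL.1.1.mem, nb⟩⟩
  · rw [div_mul_div_comm, div_eq_iff (mul_ne_zero hβ hβ)]
    linear_combination hratio
  · have e1 : β⁻¹ * α = α / β := by rw [div_eq_mul_inv, mul_comm]
    have e2 : β⁻¹ * β = 1 := inv_mul_cancel₀ hβ
    constructor
    · rw [hg'', hc.g0, smul_add, smul_smul, smul_smul, e1, e2]
    · rw [hg'', hc.g1, smul_add, smul_smul, smul_smul, e1, e2]
    · rw [hg'', hc.g2, smul_add, smul_smul, smul_smul, e1, e2]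
    · rw [hg'', hc.g3, smul_add, smul_smul, smul_smul, e1, e2]
    · rw [hg'', hc.g4, smul_add, smul_smul, smul_smul, e1, e2]
    · rw [hg'', hc.g5, smul_add, smul_smul, smul_smul, e1, e2]

end Cfsg.Agent.H913.N6
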