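import Cfsg.Agent.H913.N6Stab

/-!
# Classes of radicals in `PSL_3(4)` (helper913)
-/

set_option autoImplicit false
set_option linter.unusedSectionVars false

namespace Cfsg.Agent.H913.N6

open Cfsg Cfsg.Geo Matrix
open Module (Basis)
open Cfsg.Agent.H906.SL3Par Cfsg.Agent.H906.L34 Cfsg.Agent.H906.T14
open scoped Pointwise

variable {K : Type*} [Field K]

/-- a `p`-subgroup is conjugate into a given subgroup of Sylow order -/
lemma conj_into_sub {T : Type*} [Group T] [Finite T] (p : ℕ) [Fact p.Prime] (S Z : Subgroup T) {k m : ℕ}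
    (hS : Nat.card S = p ^ k) (hT : Nat.card T = p ^ k * m) (hm : ¬ p ∣ m) (hZ : IsPGroup p Z) :
    ∃ g : T, ∀ t ∈ Z, g * t * g⁻¹ ∈ S := by
  have hSp : IsPGroup p S := IsPGroup.of_card hS
  have hidx : ¬ p ∣ S.index := by
    intro hd
    have h1 := Subgroup.card_mul_index S
    rw [hS, hT] at h1
    have h2 : S.index = m := Nat.eq_of_mul_eq_mul_left (pow_pos (Fact.out : p.Prime).pos k) h1
    rw [h2] at hd
    exact hm hd
  let Q : Sylow p T := hSp.toSylow hidx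
  obtain ⟨R, hR⟩ := hZ.exists_le_sylow
  obtain ⟨g, hg⟩ := MulAction.exists_smul_eq T R Q
  refine ⟨g, fun t ht => ?_⟩
  have h3 : g * t * g⁻¹ ∈ (MulAut.conj g • (R : Subgroup T)) := by
    have := Subgroup.smul_mem_pointwise_smul t (MulAut.conj g) (R : Subgroup T) (hR ht)
    exact this
  have h4 : MulAut.conj g • (R : Subgroup T) = S := by
    have h5 : ((g • R : Sylow p T) : Subgroup T) = (Q : Subgroup T) := by rw [hg]
    exact h5
  rwa [h4] at h3

/-- the radical of a point stabiliser containing the upper unitriangular group -/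
abbrev Rp (K : Type*) [Field K] : Subgroup (PT K) := (Qb K).map (pj K)

theorem conj_into_two [Fintype K] (hK : Fintype.card K = 4) (Z : Subgroup (PT K)) (hZ : ∀ z ∈ Z, z * z = 1) :
    ∃ γ : PT K, (∀ z ∈ Z, γ * z * γ⁻¹ ∈ Rl K) ∨ (∀ z ∈ Z, γ * z * γ⁻¹ ∈ Rp K) := by
  have := fin_T (K := K)
  have hf : Fact (Nat.Prime 2) := ⟨Nat.prime_two⟩
  have hcard : Nat.card ((U K).map (pj K)) = 2 ^ 6 := by
    have h1 : Nat.card (K × K × K) = 2 ^ 6 := by
      rw [Nat.card_prod, Nat.card_prod, Nat.card_eq_fintype_card, hK]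
      norm_num
    rw [← h1]
    symm
    refine Nat.card_congr (Equiv.ofBijective (fun x : K × K × K =>
      (⟨pj K (uni x.1 x.2.1 x.2.2), ⟨_, ⟨_, _, _, rfl⟩, rfl⟩⟩ : (U K).map (pj K))) ⟨?_, ?_⟩)
    · rintro ⟨a, b, c⟩ ⟨a', b', c'⟩ hh
      obtain ⟨h1, h2, h3⟩ := pj_uni_inj' (congrArg Subtype.val hh)
      change a = a' at h1
      change b = b' at h2
      change c = c' at h3
      rw [h1, h2, h3]
    · rintro ⟨_, _, ⟨a, b, c, rfl⟩, rfl⟩
      exact ⟨(a, b, c), rfl⟩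
  obtain ⟨γ, hγ⟩ := conj_into_sub 2 ((U K).map (pj K)) Z hcard (m := 315) (by rw [card_T hK]; norm_num) (by norm_num)
    (fun z => ⟨1, by
      apply Subtype.ext
      change (z : PT K) ^ 2 ^ 1 = 1
      rw [pow_one, pow_two]
      exact hZ z z.2⟩)
  refine ⟨γ, ?_⟩
  have hab : ∀ z ∈ Z, ∀ a b c : K, γ * z * γ⁻¹ = pj K (uni a b c) → a = 0 ∨ b = 0 := by
    intro z hz a b c h
    have h1 : pj K (uni a b c) * pj K (uni a b c) = 1 := by
      rw [← h]
      calc γ * z * γ⁻¹ * (γ * z * γ⁻¹) = γ * (z * z) * γ⁻¹ := by group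
        _ = 1 := by rw [hZ z hz]; group
    have h2 : pj K (uni 0 0 (a * b)) = pj K (uni 0 0 0) := by
      rw [uni_zero, map_one, ← h1, ← map_mul, uni_mul, add_self hK, add_self hK, add_self hK, zero_add]
    exact mul_eq_zero.1 (pj_uni_inj' h2).2.2
  by_cases hcase : ∀ z ∈ Z, γ * z * γ⁻¹ ∈ Rl K
  · exact Or.inl hcase
  right
  push Not at hcase
  obtain ⟨z1, hz1, hn⟩ := hcase
  obtain ⟨_, ⟨a1, b1, c1, rfl⟩, h1⟩ := hγ z1 hz1
  have ha1 : a1 ≠ 0 := by
    rintro rfl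
    exact hn ⟨_, ⟨b1, c1, rfl⟩, h1⟩
  have hb1 : b1 = 0 := (hab z1 hz1 a1 b1 c1 h1.symm).resolve_left ha1
  subst hb1
  intro z hz
  obtain ⟨_, ⟨a, b, c, rfl⟩, h⟩ := hγ z hz
  have hb : b = 0 := by
    have h3 := hab (z1 * z) (Z.mul_mem hz1 hz) (a1 + a) (0 + b) (c1 + c + a1 * b) (by
      rw [← uni_mul, map_mul]
      have h1' : pj K (uni a1 0 c1) = γ * z1 * γ⁻¹ := h1
      have h' : pj K (uni a b c) = γ * z * γ⁻¹ := h
      rw [h1', h']
      group)
    have h4 := hab z hz a b c h.symm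
    rcases h4 with h4 | h4
    · subst h4
      rcases h3 with h3 | h3
      · rw [add_zero] at h3; exact absurd h3 ha1
      · rwa [zero_add] at h3
    · exact h4
  subst hb
  exact ⟨_, ⟨a, c, rfl⟩, h⟩

/-- the swap of the first and last coordinate -/
def w02 (K : Type*) [Field K] : X K := ⟨!![0, 0, 1; 0, -1, 0; 1, 0, 0], by simp [Matrix.det_fin_three]⟩

theorem w02_conj (a c : K) : w02 K * uni a 0 c = low c (-a) * w02 K := by
  apply ext'
  intro i j
  rw [mul_entry, mul_entry]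
  fin_cases i <;> fin_cases j <;> simp [w02, uni, low]

theorem rad_class [Fintype K] (hK : Fintype.card K = 4) (Z : Subgroup (PT K)) (h16 : Nat.card Z = 16)
    (hZ : ∀ z ∈ Z, z * z = 1) : ∃ γ : PT K, MulAut.conj γ • Z = Rl K ∨ MulAut.conj γ • Z = Rq K := by
  have := fin_T (K := K)
  have hcard : ∀ γ : PT K, Nat.card (MulAut.conj γ • Z : Subgroup (PT K)) = 16 := by
    intro γ
    rw [← h16]
    exact Nat.card_congr (Subgroup.equivSMul (MulAut.conj γ) Z).toEquiv.symm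
  obtain ⟨γ, h | h⟩ := conj_into_two hK Z hZ
  · refine ⟨γ, Or.inl ?_⟩
    refine Subgroup.eq_of_le_of_card_ge ?_ (by rw [hcard, (rad_l hK).card])
    rintro _ ⟨z, hz, rfl⟩
    exact h z hz
  · refine ⟨pj K (w02 K) * γ, Or.inr ?_⟩
    refine Subgroup.eq_of_le_of_card_ge ?_ (by rw [hcard, (rad_q hK).card])
    rintro _ ⟨z, hz, rfl⟩
    change (pj K (w02 K) * γ) * z * (pj K (w02 K) * γ)⁻¹ ∈ Rq K
    obtain ⟨_, ⟨a, c, rfl⟩, hz'⟩ := h z hz
    have e : (pj K (w02 K) * γ) * z * (pj K (w02 K) * γ)⁻¹ = pj K (w02 K) * (γ * z * γ⁻¹) * (pj K (w02 K))⁻¹ := by group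
    rw [e, ← hz']
    refine ⟨low c (-a), ⟨_, _, rfl⟩, ?_⟩
    rw [eq_mul_inv_iff_mul_eq]
    change _ = pj K (w02 K) * pj K (uni a 0 c)
    rw [← map_mul, ← map_mul, w02_conj]

/-- the two classes are different -/
theorem not_conj (γ : PT K) : ¬ (∀ r ∈ Rl K, γ * r * γ⁻¹ ∈ Rq K) := by
  intro h
  obtain ⟨g, rfl⟩ := QuotientGroup.mk'_surjective _ γ
  have key : ∀ b c : K, ∃ r : K, ∀ i : Fin 3, i ≠ 2 →
      (g.1 i 0 = r * g.1 i 0 ∧ g.1 i 1 = r * g.1 i 1 ∧ g.1 i 2 = r * (g.1 i 0 * c + g.1 i 1 * b + g.1 i 2)) := by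
    intro b c
    obtain ⟨_, ⟨a', b', rfl⟩, h1⟩ := h (pj K (uni 0 b c)) ⟨_, ⟨b, c, rfl⟩, rfl⟩
    have h2 : pj K (g * uni 0 b c) = pj K (low a' b' * g) := by
      rw [map_mul, map_mul, h1]
      group
    obtain ⟨r, -, hr⟩ := pj_eq h2
    refine ⟨r, fun i hi => ?_⟩
    have e0 := hr i 0
    have e1 := hr i 1
    have e2 := hr i 2
    rw [mul_entry, mul_entry] at e0 e1 e2
    fin_cases i
    · simp [low, uni] at e0 e1 e2
      exact ⟨e0, e1, e2⟩
    · simp [low, uni] at e0 e1 e2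
      exact ⟨e0, e1, e2⟩
    · exact absurd rfl hi
  obtain ⟨r, hr⟩ := key 0 1
  obtain ⟨s, hs⟩ := key 1 0
  have z0 : ∀ i : Fin 3, i ≠ 2 → g.1 i 0 = 0 := by
    intro i hi
    obtain ⟨e0, e1, e2⟩ := hr i hi
    by_cases h1 : r = 1
    · rw [h1] at e2
      linear_combination -e2
    · have : (1 - r) * g.1 i 0 = 0 := by linear_combination e0
      exact (mul_eq_zero.1 this).resolve_left (sub_ne_zero.2 (Ne.symm h1))
  have z1 : ∀ i : Fin 3, i ≠ 2 → g.1 i 1 = 0 := by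
    intro i hi
    obtain ⟨e0, e1, e2⟩ := hs i hi
    by_cases h1 : s = 1
    · rw [h1] at e2
      linear_combination -e2
    · have : (1 - s) * g.1 i 1 = 0 := by linear_combination e1
      exact (mul_eq_zero.1 this).resolve_left (sub_ne_zero.2 (Ne.symm h1))
  have hd := det_eq g
  rw [z0 0 (by decide), z0 1 (by decide), z1 0 (by decide), z1 1 (by decide)] at hd
  simp at hd

/-- an opposite radical is conjugate to `R_q` under `R_l` -/
theorem opp [Fintype K] (hK : Fintype.card K = 4) (γ : PT K) (hgen : Rl K ⊔ MulAut.conj γ • Rq K = ⊤) :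
    ∃ ρ ∈ Rl K, MulAut.conj ρ • MulAut.conj γ • Rq K = Rq K := by
  have := fin_T (K := K)
  obtain ⟨g, rfl⟩ := QuotientGroup.mk'_surjective _ γ
  by_cases h22 : g.1 2 2 = 0
  · exfalso
    have hle : Rl K ⊔ MulAut.conj (pj K g) • Rq K ≤ (Pa K).map (pj K) := by
      apply sup_le
      · rintro _ ⟨_, ⟨b, c, rfl⟩, rfl⟩
        exact ⟨_, uni_mem_Pa _ _ _, rfl⟩
      · rintro _ ⟨_, ⟨_, ⟨a, b, rfl⟩, rfl⟩, rfl⟩
        refine ⟨g * low a b * g⁻¹, ?_, by rw [map_mul, map_mul, map_inv]; rfl⟩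
        have hrow : ∀ j : Fin 3, (g * low a b).1 2 j = g.1 2 j := by
          intro j
          rw [mul_entry, h22]
          fin_cases j <;> simp [low, h22]
        have hrow2 : ∀ j : Fin 3, (g * low a b * g⁻¹).1 2 j = (1 : X K).1 2 j := by
          intro j
          rw [mul_entry, hrow, hrow, hrow, ← mul_entry, mul_inv_cancel]
        constructor
        · rw [hrow2]; simp
        · rw [hrow2]; simp
    have hgen' : Rl K ⊔ MulAut.conj (pj K g) • Rq K = ⊤ := hgen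
    rw [hgen'] at hle
    obtain ⟨h, hh, he⟩ := hle (Subgroup.mem_top (pj K (low 1 0)))
    obtain ⟨r, -, hr⟩ := pj_eq he
    have := hr 2 0
    rw [hh.1] at this
    simp [low] at this
  · set ρ0 : X K := uni 0 (-(g.1 1 2) / g.1 2 2) (-(g.1 0 2) / g.1 2 2) with hρ0
    refine ⟨pj K ρ0, ⟨_, ⟨_, _, rfl⟩, rfl⟩, ?_⟩
    rw [smul_smul, ← map_mul]
    change MulAut.conj (pj K ρ0 * pj K g) • Rq K = Rq K
    rw [← map_mul]
    obtain ⟨k, hk⟩ : ∃ k, k = ρ0 * g := ⟨_, rfl⟩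
    rw [← hk]
    have k02 : k.1 0 2 = 0 := by
      rw [hk, mul_entry, hρ0]
      simp [uni]
      field_simp
      ring
    have k12 : k.1 1 2 = 0 := by
      rw [hk, mul_entry, hρ0]
      simp [uni]
      field_simp
      ring
    have hd := det_eq k
    rw [k02, k12] at hd
    refine Subgroup.eq_of_le_of_card_ge ?_ (by
      rw [Nat.card_congr (Subgroup.equivSMul (MulAut.conj (pj K k)) (Rq K)).toEquiv.symm])
    rintro _ ⟨_, ⟨_, ⟨a, b, rfl⟩, rfl⟩, rfl⟩
    refine ⟨low (k.1 2 2 ^ 2 * (a * k.1 1 1 - b * k.1 1 0)) (k.1 2 2 ^ 2 * (b * k.1 0 0 - a * k.1 0 1)), ⟨_, _, rfl⟩, ?_⟩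
    change _ = pj K k * pj K (low a b) * (pj K k)⁻¹
    rw [eq_mul_inv_iff_mul_eq, ← map_mul, ← map_mul]
    congr 1
    apply ext'
    intro i j
    rw [mul_entry, mul_entry]
    have hd' : (k.1 0 0 * k.1 1 1 - k.1 0 1 * k.1 1 0) * k.1 2 2 = 1 := by linear_combination hd
    fin_cases i <;> fin_cases j <;> simp [low, k02, k12]
    · linear_combination (a * k.1 2 2) * hd'
    · linear_combination (b * k.1 2 2) * hd'

end Cfsg.Agent.H913.N6
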