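import Mathlib
import Cfsg.Prelude.Def_GeometricClasses
import Cfsg.Agent.LieClassical.HermBasic
import Cfsg.Agent.ClassicalGeometry.HermOrtho
import Cfsg.Agent.H913.GeoBasic

/-!
# Non-degenerate decompositions for the standard Hermitian form (helper913)
-/

set_option autoImplicit false

namespace Cfsg.Agent.H913.NdDecomp

open Cfsg Cfsg.Geo Module
open scoped MatrixGroups Matrix
open Cfsg.Agent.LieClassical.HermBasic Cfsg.Agent.H913.GeoBasic
open Cfsg.Agent.ClassicalGeometry.HermOrtho

variable {F : Type*} [Field F] [Fintype F] {q n : ℕ}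

theorem ndOn_iff (hF : Fintype.card F = q ^ 2) (W : Submodule F (Fin n → F)) :
    IsNondegenerateOn (hermForm n F q) W ↔
      ∀ u ∈ W, (∀ v ∈ W, hermForm n F q u v = 0) → u = 0 := by
  constructor
  · intro h u hu h0
    by_contra hne
    obtain ⟨x, hx, hx'⟩ := (h u hu hne).2
    exact hx' (h0 x hx)
  · intro h w hw hne
    have h1 : ∃ x ∈ W, hermForm n F q w x ≠ 0 := by
      by_contra hcon
      push Not at hcon
      exact hne (h w hw hcon)
    obtain ⟨x, hx, hx'⟩ := h1
    exact ⟨⟨x, hx, fun h0 => hx' (herm_eq_zero_swap hF h0)⟩, x, hx, hx'⟩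

omit [Fintype F] in
theorem indep_of {t : ℕ} {D : Fin t → Submodule F (Fin n → F)}
    (hnd : ∀ i, ∀ u ∈ D i, (∀ v ∈ D i, hermForm n F q u v = 0) → u = 0)
    (ho : ∀ i j, i ≠ j → ∀ u ∈ D i, ∀ v ∈ D j, hermForm n F q u v = 0) : iSupIndep D := by
  intro i
  rw [disjoint_iff, Submodule.eq_bot_iff]
  rintro x ⟨hx, hx'⟩
  refine hnd i x hx fun v hv => ?_
  have h1 : (⨆ j, ⨆ (_ : j ≠ i), D j) ≤ LinearMap.ker (hermLeft q v) := by
    refine iSup_le fun j => iSup_le fun hj => ?_
    intro y hy
    rw [LinearMap.mem_ker, hermLeft_apply]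
    exact ho j i hj y hy v hv
  have h2 := h1 hx'
  rwa [LinearMap.mem_ker, hermLeft_apply] at h2

omit [Fintype F] in
theorem iSup_eq_top_of {t m : ℕ} {D : Fin t → Submodule F (Fin n → F)} (hi : iSupIndep D)
    (hn : t * m = n) (hr : ∀ i, finrank F (D i) = m) : iSup D = ⊤ := by
  classical
  apply Submodule.eq_top_of_finrank_eq
  rw [Module.finrank_fin_fun]
  apply le_antisymm
  · calc finrank F (iSup D : Submodule F (Fin n → F)) ≤ finrank F (Fin n → F) := Submodule.finrank_le _
      _ = n := Module.finrank_fin_fun F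
  · have hinj := hi.dfinsupp_lsum_injective
    let L : (Π₀ i, D i) →ₗ[F] (Fin n → F) := DFinsupp.lsum ℕ fun i => (D i).subtype
    have hL : ∀ x, L x ∈ (iSup D : Submodule F (Fin n → F)) := by
      intro x
      have := (Submodule.iSup_eq_range_dfinsupp_lsum D)
      rw [this]
      exact ⟨x, rfl⟩
    have h1 : finrank F (Π₀ i, D i) ≤ finrank F (iSup D : Submodule F (Fin n → F)) :=
      LinearMap.finrank_le_finrank_of_injective (f := L.codRestrict _ hL) (by
        intro x y hxy
        apply hinj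
        exact congrArg Subtype.val hxy)
    have h2 : finrank F (Π₀ i, D i) = n := by
      rw [LinearEquiv.finrank_eq (DFinsupp.linearEquivFunOnFintype (M := fun i => D i) (R := F)),
        Module.finrank_pi_fintype]
      simp [hr, hn]
    omega

theorem ndDecomp_of (hF : Fintype.card F = q ^ 2) {t m : ℕ} {D : Fin t → Submodule F (Fin n → F)}
    (ht : 2 ≤ t) (hm : 0 < m) (hn : t * m = n) (hr : ∀ i, finrank F (D i) = m)
    (hnd : ∀ i, ∀ u ∈ D i, (∀ v ∈ D i, hermForm n F q u v = 0) → u = 0)
    (ho : ∀ i j, i ≠ j → ∀ u ∈ D i, ∀ v ∈ D j, hermForm n F q u v = 0) :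
    IsNondegenerateMDecomposition (hermForm n F q) m D where
  decomp :=
    { two_le := ht
      pos := hm
      finrank_eq := hr
      indep := indep_of hnd ho
      iSup_eq_top := iSup_eq_top_of (indep_of hnd ho) hn hr }
  nondegenerate i := (ndOn_iff hF (D i)).2 (hnd i)
  orthogonal i j hij u hu v hv := ho i j hij u hu v hv

end Cfsg.Agent.H913.NdDecomp
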