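import Mathlib
import Cfsg.Prelude.Def_GeometricClasses
import Cfsg.Agent.LieClassical.HermBasic
import Cfsg.Agent.H913.GeoBasic

/-!
# Tensor product subgroups: action on pure tensors, form on pure tensors (helper913)
-/

set_option autoImplicit false

namespace Cfsg.Agent.H913.Tensor

open Cfsg Cfsg.Geo Module
open scoped MatrixGroups Matrix Kronecker
open Cfsg.Agent.H913.GeoBasic

variable {ι : Type} [Fintype ι] [DecidableEq ι] {F : Type*} [Field F] {n₁ n₂ : ℕ}

/-- pure tensor -/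
def pt (u : Fin n₁ → F) (y : Fin n₂ → F) : Fin n₁ × Fin n₂ → F := fun p => u p.1 * y p.2

theorem kron_mulVec_pt (a : Matrix (Fin n₁) (Fin n₁) F) (b : Matrix (Fin n₂) (Fin n₂) F)
    (u : Fin n₁ → F) (y : Fin n₂ → F) : (a ⊗ₖ b) *ᵥ pt u y = pt (a *ᵥ u) (b *ᵥ y) := by
  funext p
  simp only [Matrix.mulVec, dotProduct, pt, Matrix.kroneckerMap_apply, Fintype.sum_prod_type,
    Finset.sum_mul_sum]
  refine Finset.sum_congr rfl fun i _ => Finset.sum_congr rfl fun j _ => by ring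

theorem reindex_mulVec {κ : Type} [Fintype κ] [DecidableEq κ] (e : ι ≃ κ)
    (M : Matrix κ κ F) (x : κ → F) :
    (Matrix.reindexAlgEquiv F F e.symm M) *ᵥ (x ∘ e) = (M *ᵥ x) ∘ e := by
  funext i
  simp only [Matrix.mulVec, dotProduct, Matrix.coe_reindexAlgEquiv, Matrix.reindex_apply,
    Matrix.submatrix_apply, Function.comp_apply, Equiv.symm_symm]
  exact Equiv.sum_comp e (fun k => M (e i) k * x k)

/-- elements of a tensor product subgroup act on pure tensors -/
theorem exists_of_mem {e : ι ≃ Fin n₁ × Fin n₂} {P g : GL ι F}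
    (hg : g ∈ tensorProductSubgroup n₁ n₂ e P) :
    ∃ (a : GL (Fin n₁) F) (b : GL (Fin n₂) F),
      (g : Matrix ι ι F) = (P : Matrix ι ι F) * (Matrix.reindexAlgEquiv F F e.symm
        ((a : Matrix (Fin n₁) (Fin n₁) F) ⊗ₖ (b : Matrix (Fin n₂) (Fin n₂) F))) *
        ((P⁻¹ : GL ι F) : Matrix ι ι F) := by
  rw [tensorProductSubgroup, Subgroup.mem_map] at hg
  obtain ⟨g1, hg1, rfl⟩ := hg
  rw [Subgroup.mem_map] at hg1
  obtain ⟨k, ⟨a, b, hk⟩, rfl⟩ := hg1
  refine ⟨a, b, ?_⟩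
  rw [← hk]
  simp only [MulEquiv.coe_toMonoidHom, MulAut.conj_apply, Units.val_mul]
  rfl

theorem mulVec_pt {e : ι ≃ Fin n₁ × Fin n₂} {P g : GL ι F} {a : Matrix (Fin n₁) (Fin n₁) F}
    {b : Matrix (Fin n₂) (Fin n₂) F}
    (hg : (g : Matrix ι ι F) = (P : Matrix ι ι F) * (Matrix.reindexAlgEquiv F F e.symm (a ⊗ₖ b)) *
        ((P⁻¹ : GL ι F) : Matrix ι ι F)) (u : Fin n₁ → F) (y : Fin n₂ → F) :
    (g : Matrix ι ι F) *ᵥ ((P : Matrix ι ι F) *ᵥ (pt u y ∘ e)) =
      (P : Matrix ι ι F) *ᵥ (pt (a *ᵥ u) (b *ᵥ y) ∘ e) := by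
  rw [hg, ← Matrix.mulVec_mulVec, ← Matrix.mulVec_mulVec, inv_mulVec_mulVec, reindex_mulVec,
    kron_mulVec_pt]

theorem formOfGram_pt (σ : F →* F) (G₁ : Matrix (Fin n₁) (Fin n₁) F)
    (G₂ : Matrix (Fin n₂) (Fin n₂) F) (u v : Fin n₁ → F) (y z : Fin n₂ → F) :
    formOfGram σ (G₁ ⊗ₖ G₂) (pt u y) (pt v z) =
      (∑ a, ∑ b, u a * G₁ a b * σ (v b)) * (∑ a, ∑ b, y a * G₂ a b * σ (z b)) := by
  simp only [formOfGram, pt, Matrix.kroneckerMap_apply, Fintype.sum_prod_type, map_mul]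
  simp only [Finset.sum_mul_sum]
  refine Finset.sum_congr rfl fun i _ => ?_
  refine Finset.sum_congr rfl fun j _ => ?_
  refine Finset.sum_congr rfl fun k _ => Finset.sum_congr rfl fun l _ => by ring

section Unitary

variable [Fintype F] {q : ℕ} {n : ℕ}

open Cfsg.Agent.LieClassical.HermBasic

theorem add_right (hF : Fintype.card F = q ^ 2) {f : (Fin n → F) → (Fin n → F) → F}
    (hf : IsUnitaryFormPow q f) (v x y : Fin n → F) : f v (x + y) = f v x + f v y := by
  rw [hf.herm, hf.add_left, add_pow_q hF, ← hf.herm, ← hf.herm]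

omit [Fintype F] in
theorem smul_right {f : (Fin n → F) → (Fin n → F) → F}
    (hf : IsUnitaryFormPow q f) (c : F) (v x : Fin n → F) : f v (c • x) = c ^ q * f v x := by
  rw [hf.herm, hf.smul_left, mul_pow, ← hf.herm]

omit [Fintype F] in
theorem zero_left {f : (Fin n → F) → (Fin n → F) → F}
    (hf : IsUnitaryFormPow q f) (x : Fin n → F) : f 0 x = 0 := by
  have := hf.smul_left 0 0 x
  simpa using this

theorem zero_right (hF : Fintype.card F = q ^ 2) {f : (Fin n → F) → (Fin n → F) → F}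
    (hf : IsUnitaryFormPow q f) (x : Fin n → F) : f x 0 = 0 := by
  rw [hf.herm, zero_left hf, zero_pow_q hF]

omit [Fintype F] in
theorem sum_left {f : (Fin n → F) → (Fin n → F) → F}
    (hf : IsUnitaryFormPow q f) {κ : Type*} (s : Finset κ) (x : κ → Fin n → F) (v : Fin n → F) :
    f (∑ i ∈ s, x i) v = ∑ i ∈ s, f (x i) v := by
  classical
  induction s using Finset.induction_on with
  | empty => simp [zero_left hf]
  | insert a s ha ih => rw [Finset.sum_insert ha, Finset.sum_insert ha, hf.add_left, ih]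

theorem sum_right (hF : Fintype.card F = q ^ 2) {f : (Fin n → F) → (Fin n → F) → F}
    (hf : IsUnitaryFormPow q f) {κ : Type*} (s : Finset κ) (x : κ → Fin n → F) (v : Fin n → F) :
    f v (∑ i ∈ s, x i) = ∑ i ∈ s, f v (x i) := by
  classical
  induction s using Finset.induction_on with
  | empty => simp [zero_right hF hf]
  | insert a s ha ih => rw [Finset.sum_insert ha, Finset.sum_insert ha, add_right hF hf, ih]

/-- a unitary form is given by its Gram matrix -/
theorem eq_gram (hF : Fintype.card F = q ^ 2) {f : (Fin n → F) → (Fin n → F) → F}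
    (hf : IsUnitaryFormPow q f) (u v : Fin n → F) :
    f u v = ∑ a, ∑ b, u a * gramMatrix f a b * (powMonoidHom q : F →* F) (v b) := by
  classical
  have hu : u = ∑ a, u a • (Pi.single a 1 : Fin n → F) := by
    funext i; simp [Finset.sum_apply, Pi.single_apply]
  have hv : v = ∑ a, v a • (Pi.single a 1 : Fin n → F) := by
    funext i; simp [Finset.sum_apply, Pi.single_apply]
  conv_lhs => rw [hu, hv]
  rw [sum_left hf]
  refine Finset.sum_congr rfl fun a _ => ?_
  rw [sum_right hF hf]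
  refine Finset.sum_congr rfl fun b _ => ?_
  rw [hf.smul_left, smul_right hf, gramMatrix, powMonoidHom_apply]
  ring

/-- the form on pure tensors -/
theorem form_pt (hF : Fintype.card F = q ^ 2) {f : (ι → F) → (ι → F) → F}
    {f₁ : (Fin n₁ → F) → (Fin n₁ → F) → F} {f₂ : (Fin n₂ → F) → (Fin n₂ → F) → F}
    (h₁ : IsUnitaryFormPow q f₁) (h₂ : IsUnitaryFormPow q f₂) {e : ι ≃ Fin n₁ × Fin n₂} {P : GL ι F}
    {c : F} (hc : ∀ x y : Fin n₁ × Fin n₂ → F,
      f ((P : Matrix ι ι F) *ᵥ (x ∘ e)) ((P : Matrix ι ι F) *ᵥ (y ∘ e)) =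
      c * formOfGram (fun x : F => x ^ q) (gramMatrix f₁ ⊗ₖ gramMatrix f₂) x y)
    (u v : Fin n₁ → F) (y z : Fin n₂ → F) :
    f ((P : Matrix ι ι F) *ᵥ (pt u y ∘ e)) ((P : Matrix ι ι F) *ᵥ (pt v z ∘ e)) =
      c * (f₁ u v * f₂ y z) := by
  rw [hc]
  have := formOfGram_pt (powMonoidHom q : F →* F) (gramMatrix f₁) (gramMatrix f₂) u v y z
  rw [← eq_gram hF h₁, ← eq_gram hF h₂] at this
  rw [← this]
  rfl

end Unitary

end Cfsg.Agent.H913.Tensor
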