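import Mathlib
import Cfsg.Prelude.Def_GeometricClasses
import Cfsg.Agent.H913.GeoBasic
import Cfsg.Agent.H913.Tensor

/-!
# `SL_6(2)`: three 2-spaces and `2 ⊗ 3` (helper913)

* `two_spaces_le` : over the field with two elements the stabiliser of a decomposition into 2-spaces preserves a
  symplectic form (any number of 2-spaces);
* `tensor_le` : over the field with two elements `GL_2 ⊗ GL_m` normalises a subfield of degree two.
-/

set_option autoImplicit false

namespace Cfsg.Agent.H913.SL6Small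

open Cfsg Cfsg.Geo Module
open scoped MatrixGroups Matrix Kronecker
open Cfsg.Agent.H913.GeoBasic Cfsg.Agent.H913.Tensor

variable {ι : Type} [Fintype ι] [DecidableEq ι] {F : Type*} [Field F] [Fintype F]

theorem eq_zero_or_one (hF : Fintype.card F = 2) (x : F) : x = 0 ∨ x = 1 := by
  have hx : x ^ 2 = x := by
    have := FiniteField.pow_card x
    rwa [hF] at this
  have h : x * (x - 1) = 0 := by rw [mul_sub, mul_one, ← pow_two, hx, sub_self]
  rcases mul_eq_zero.1 h with h | h
  · exact Or.inl h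
  · exact Or.inr (sub_eq_zero.1 h)

theorem two_eq_zero (hF : Fintype.card F = 2) : (1 : F) + 1 = 0 := by
  have h : ((Fintype.card F : ℕ) : F) = 0 := FiniteField.cast_card_eq_zero F
  rw [hF] at h
  rw [one_add_one_eq_two]
  exact_mod_cast h

/-- the symplectic form of a plane over the field with two elements, in coordinates -/
def om2 (u v : Fin 2 → F) : F := u 0 * v 1 - u 1 * v 0

/-- the form is canonical -/
theorem om2_ne_zero_iff (hF : Fintype.card F = 2) (u v : Fin 2 → F) :
    om2 u v ≠ 0 ↔ u ≠ 0 ∧ v ≠ 0 ∧ u ≠ v := by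
  have h11 := two_eq_zero hF
  have hu : u = ![u 0, u 1] := by funext i; fin_cases i <;> rfl
  have hv : v = ![v 0, v 1] := by funext i; fin_cases i <;> rfl
  rw [hu, hv]
  have e0 : ∀ a b : F, (![a, b] : Fin 2 → F) = 0 ↔ a = 0 ∧ b = 0 := by
    intro a b
    constructor
    · intro h
      exact ⟨by simpa using congrFun h 0, by simpa using congrFun h 1⟩
    · rintro ⟨rfl, rfl⟩
      funext i; fin_cases i <;> rfl
  have e1 : ∀ a b c d : F, (![a, b] : Fin 2 → F) = ![c, d] ↔ a = c ∧ b = d := by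
    intro a b c d
    constructor
    · intro h
      exact ⟨by simpa using congrFun h 0, by simpa using congrFun h 1⟩
    · rintro ⟨rfl, rfl⟩
      rfl
  simp only [ne_eq, e0, e1, om2]
  rcases eq_zero_or_one hF (u 0) with h0 | h0 <;> rcases eq_zero_or_one hF (u 1) with h1 | h1 <;>
    rcases eq_zero_or_one hF (v 0) with h2 | h2 <;> rcases eq_zero_or_one hF (v 1) with h3 | h3 <;>
    simp [h0, h1, h2, h3]

theorem om2_map (hF : Fintype.card F = 2) {u v u' v' : Fin 2 → F}
    (h0 : u = 0 ↔ u' = 0) (h1 : v = 0 ↔ v' = 0) (h2 : u = v ↔ u' = v') :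
    om2 u' v' = om2 u v := by
  have h3 := om2_ne_zero_iff hF u v
  have h4 := om2_ne_zero_iff hF u' v'
  have h5 : (u ≠ 0 ∧ v ≠ 0 ∧ u ≠ v) ↔ (u' ≠ 0 ∧ v' ≠ 0 ∧ u' ≠ v') :=
    and_congr (not_congr h0) (and_congr (not_congr h1) (not_congr h2))
  rw [h5, ← h4] at h3
  rcases eq_zero_or_one hF (om2 u v) with h | h <;> rcases eq_zero_or_one hF (om2 u' v') with h' | h'
  · rw [h, h']
  · exfalso
    rw [h, h'] at h3
    exact (h3.2 one_ne_zero) rfl
  · exfalso
    rw [h, h'] at h3
    exact (h3.1 one_ne_zero) rfl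
  · rw [h, h']

omit [Fintype ι] [DecidableEq ι] [Fintype F] in
/-- components with respect to a decomposition -/
theorem exists_cmp {t : ℕ} {D : Fin t → Submodule F (ι → F)} (hi : iSupIndep D) (hs : iSup D = ⊤) :
    ∃ cmp : ∀ i, (ι → F) →ₗ[F] D i, (∀ x, x = ∑ i, (cmp i x : ι → F)) ∧
      ∀ (y : ∀ i, D i) (x : ι → F), x = ∑ i, (y i : ι → F) → ∀ i, cmp i x = y i := by
  classical
  have hint : DirectSum.IsInternal D :=
    (DirectSum.isInternal_submodule_iff_iSupIndep_and_iSup_eq_top D).2 ⟨hi, hs⟩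
  let L : (∀ i, D i) →ₗ[F] (ι → F) := (DirectSum.coeLinearMap D).comp
    (DFinsupp.linearEquivFunOnFintype (M := fun i => D i) (R := F)).symm.toLinearMap
  have hL : ∀ y, L y = ∑ i, (y i : ι → F) := by
    intro y
    change DirectSum.coeLinearMap D ((DFinsupp.linearEquivFunOnFintype
      (M := fun i => D i) (R := F)).symm y) = _
    rw [DirectSum.coeLinearMap_eq_dfinsuppSum, DFinsupp.sum_eq_sum_fintype]
    · rfl
    · intro i
      rfl
  have hLb : Function.Bijective L := by
    have h1 : Function.Bijective (DirectSum.coeLinearMap D) := hint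
    exact h1.comp (DFinsupp.linearEquivFunOnFintype (M := fun i => D i) (R := F)).symm.bijective
  let E : (∀ i, D i) ≃ₗ[F] (ι → F) := LinearEquiv.ofBijective L hLb
  refine ⟨fun i => (LinearMap.proj i).comp E.symm.toLinearMap, fun x => ?_, fun y x hx i => ?_⟩
  · have h1 : E (E.symm x) = x := E.apply_symm_apply x
    have h2 : E (E.symm x) = ∑ i, ((E.symm x) i : ι → F) := hL _
    exact h1.symm.trans h2
  · have h1 : E y = x := (hL y).trans hx.symm
    have h2 : E.symm x = y := by rw [← h1, E.symm_apply_apply]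
    change (E.symm x) i = y i
    rw [h2]

/-- Over the field with two elements the stabiliser of a decomposition into 2-spaces preserves a symplectic form. -/
theorem two_spaces_le (hF : Fintype.card F = 2) {t : ℕ} {D : Fin t → Submodule F (ι → F)}
    (hD : IsMDecomposition 2 D) :
    ∃ f : (ι → F) → (ι → F) → F, IsSymplecticForm f ∧ decompositionStabilizer D ≤ similarityGroup f := by
  classical
  obtain ⟨cmp, hsum, huniq⟩ := exists_cmp hD.indep hD.iSup_eq_top
  let b : ∀ i, Basis (Fin 2) F (D i) := fun i => Module.finBasisOfFinrankEq F (D i) (hD.finrank_eq i)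
  let co : ∀ _ : Fin t, (ι → F) →ₗ[F] (Fin 2 → F) := fun i => (b i).equivFun.toLinearMap.comp (cmp i)
  let f : (ι → F) → (ι → F) → F := fun x y => ∑ i, om2 (co i x) (co i y)
  have hbil : IsBilinearForm f := by
    constructor
    · intro x y v
      simp only [f, om2, map_add, Pi.add_apply, ← Finset.sum_add_distrib]
      exact Finset.sum_congr rfl fun i _ => by ring
    · intro c x v
      simp only [f, om2, map_smul, Pi.smul_apply, smul_eq_mul, Finset.mul_sum]
      exact Finset.sum_congr rfl fun i _ => by ring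
    · intro v x y
      simp only [f, om2, map_add, Pi.add_apply, ← Finset.sum_add_distrib]
      exact Finset.sum_congr rfl fun i _ => by ring
    · intro c x v
      simp only [f, om2, map_smul, Pi.smul_apply, smul_eq_mul, Finset.mul_sum]
      exact Finset.sum_congr rfl fun i _ => by ring
  have hskew : ∀ v w, f v w = - f w v := by
    intro v w
    simp only [f, om2, ← Finset.sum_neg_distrib]
    exact Finset.sum_congr rfl fun i _ => by ring
  have hsingle : ∀ (i : Fin t) (u : D i) (j : Fin t), co j (u : ι → F) =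
      if h : j = i then (b i).equivFun u else 0 := by
    intro i u j
    have h1 := huniq (fun j => if h : j = i then h ▸ u else 0) (u : ι → F) (by
      rw [Finset.sum_eq_single i]
      · simp
      · intro k _ hk
        simp [hk]
      · intro hi; exact absurd (Finset.mem_univ i) hi) j
    change (b j).equivFun (cmp j (u : ι → F)) = _
    rw [h1]
    by_cases h : j = i
    · subst h; simp
    · simp [h]
  have hnd : IsNondegenerateForm f := by
    have key : ∀ v : ι → F, v ≠ 0 → ∃ x, f v x ≠ 0 := by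
      intro v hv
      -- a component is non-zero
      obtain ⟨i, hi⟩ : ∃ i, co i v ≠ 0 := by
        by_contra hcon
        push Not at hcon
        apply hv
        rw [hsum v]
        refine Finset.sum_eq_zero fun i _ => ?_
        have : cmp i v = 0 := (b i).equivFun.injective (by rw [map_zero]; exact hcon i)
        rw [this]; rfl
      obtain ⟨w, hw⟩ : ∃ w : Fin 2 → F, om2 (co i v) w ≠ 0 := by
        by_contra hcon
        push Not at hcon
        apply hi
        have h1 := hcon (Pi.single 1 1)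
        have h2 := hcon (Pi.single 0 1)
        simp [om2] at h1 h2
        funext j
        fin_cases j
        · exact h1
        · exact h2
      refine ⟨(((b i).equivFun.symm w : D i) : ι → F), ?_⟩
      have h1 : f v (((b i).equivFun.symm w : D i) : ι → F) = om2 (co i v) w := by
        simp only [f]
        rw [Finset.sum_eq_single i]
        · rw [hsingle, dif_pos rfl, LinearEquiv.apply_symm_apply]
        · intro j _ hj
          rw [hsingle, dif_neg hj]
          simp [om2]
        · intro hi'; exact absurd (Finset.mem_univ i) hi'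
      rw [h1]
      exact hw
    intro v hv
    obtain ⟨x, hx⟩ := key v hv
    exact ⟨⟨x, fun h => hx (by rw [hskew, h, neg_zero])⟩, x, hx⟩
  refine ⟨f, ⟨hbil, hskew, fun v => ?_, hnd⟩, ?_⟩
  · simp only [f, om2]
    exact Finset.sum_eq_zero fun i _ => by ring
  · intro g hg
    obtain ⟨σ, hσ⟩ := exists_perm_of_mem hg
    refine ⟨1, fun u v => ?_⟩
    rw [Units.val_one, one_mul]
    simp only [f]
    rw [← Equiv.sum_comp σ (fun i => om2 (co i ((g : Matrix ι ι F) *ᵥ u))
      (co i ((g : Matrix ι ι F) *ᵥ v)))]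
    -- components of the image
    have hcomp : ∀ (x : ι → F) (i : Fin t),
        (cmp (σ i) ((g : Matrix ι ι F) *ᵥ x) : ι → F) = (g : Matrix ι ι F) *ᵥ (cmp i x : ι → F) := by
      intro x i
      obtain ⟨cx, hcx⟩ : ∃ cx : Fin t → (ι → F), ∀ j, (cmp j x : ι → F) = cx j :=
        ⟨fun j => (cmp j x : ι → F), fun _ => rfl⟩
      have hcxD : ∀ j, cx j ∈ D j := fun j => by rw [← hcx]; exact (cmp j x).2
      have h1 := huniq (fun j => ⟨(g : Matrix ι ι F) *ᵥ cx (σ.symm j), by
        have := hσ (σ.symm j) _ (hcxD (σ.symm j))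
        rwa [Equiv.apply_symm_apply] at this⟩) ((g : Matrix ι ι F) *ᵥ x) (by
          rw [← Equiv.sum_comp σ]
          simp only [Equiv.symm_apply_apply]
          conv_lhs => rw [hsum x, Matrix.mulVec_sum]
          exact Finset.sum_congr rfl fun j _ => by rw [hcx]) (σ i)
      rw [h1, hcx]
      simp only [Equiv.symm_apply_apply]
    refine Finset.sum_congr rfl fun i _ => ?_
    have hco0 : ∀ (x : ι → F) (j : Fin t), co j x = 0 ↔ (cmp j x : ι → F) = 0 := by
      intro x j
      change (b j).equivFun (cmp j x) = 0 ↔ _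
      rw [LinearEquiv.map_eq_zero_iff, Submodule.coe_eq_zero]
    have hg0 : ∀ x : ι → F, (g : Matrix ι ι F) *ᵥ x = 0 ↔ x = 0 := by
      intro x
      constructor
      · intro h
        have := congrArg (fun z => ((g⁻¹ : GL ι F) : Matrix ι ι F) *ᵥ z) h
        rwa [inv_mulVec_mulVec, Matrix.mulVec_zero] at this
      · rintro rfl
        rw [Matrix.mulVec_zero]
    have hA : ∀ x : ι → F, co i x = 0 ↔ co (σ i) ((g : Matrix ι ι F) *ᵥ x) = 0 := by
      intro x
      rw [hco0, hco0, hcomp, hg0]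
    refine om2_map hF (hA u) (hA v) ?_
    have h1 := hA (u - v)
    rw [Matrix.mulVec_sub, map_sub, map_sub, sub_eq_zero, sub_eq_zero] at h1
    exact h1

/-! ### `2 ⊗ m` over the field with two elements -/

/-- the element of order three of `SL_2(2)` -/
def X (F : Type*) [Field F] : Matrix (Fin 2) (Fin 2) F := !![0, 1; 1, 1]

theorem X_sq (hF : Fintype.card F = 2) : X F * X F = X F + 1 := by
  have h11 := two_eq_zero hF
  ext i j
  fin_cases i <;> fin_cases j <;> simp [X, Matrix.mul_apply, Fin.sum_univ_two, h11]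

/-- the subalgebra `{a + b X}` of `M_2` over the field with two elements -/
def K2 (hF : Fintype.card F = 2) : Subalgebra F (Matrix (Fin 2) (Fin 2) F) where
  carrier := {M | ∃ a b : F, M = a • (1 : Matrix (Fin 2) (Fin 2) F) + b • X F}
  mul_mem' := by
    rintro _ _ ⟨a, b, rfl⟩ ⟨c, d, rfl⟩
    refine ⟨a * c + b * d, a * d + b * c + b * d, ?_⟩
    rw [add_mul, mul_add, mul_add, smul_mul_smul_comm, smul_mul_smul_comm, smul_mul_smul_comm,
      smul_mul_smul_comm, X_sq hF, one_mul, mul_one, one_mul]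
    module
  add_mem' := by
    rintro _ _ ⟨a, b, rfl⟩ ⟨c, d, rfl⟩
    exact ⟨a + c, b + d, by module⟩
  algebraMap_mem' := fun r => ⟨r, 0, by rw [Algebra.algebraMap_eq_smul_one]; module⟩

theorem mem_K2 (hF : Fintype.card F = 2) (M : Matrix (Fin 2) (Fin 2) F) :
    M ∈ K2 hF ↔ ∃ a b : F, M = a • (1 : Matrix (Fin 2) (Fin 2) F) + b • X F := Iff.rfl

theorem K2_comm (hF : Fintype.card F = 2) : ∀ x ∈ K2 hF, ∀ y ∈ K2 hF, x * y = y * x := by
  rintro _ ⟨a, b, rfl⟩ _ ⟨c, d, rfl⟩
  rw [add_mul, mul_add, mul_add, add_mul, mul_add, mul_add]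
  simp only [smul_mul_smul_comm, one_mul, mul_one]
  rw [mul_comm c a, mul_comm c b, mul_comm d a, mul_comm d b]
  abel

theorem K2_inv (hF : Fintype.card F = 2) : ∀ x ∈ K2 hF, x ≠ 0 → ∃ y ∈ K2 hF, x * y = 1 := by
  have h11 := two_eq_zero hF
  rintro _ ⟨a, b, rfl⟩ hne
  have hX1 : X F * (X F + 1) = 1 := by
    rw [mul_add, X_sq hF, mul_one]
    have : X F + 1 + X F = (1 + 1 : F) • X F + 1 := by module
    rw [this, h11, zero_smul, zero_add]
  rcases eq_zero_or_one hF a with ha | ha <;> rcases eq_zero_or_one hF b with hb | hb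
  · exact absurd (by rw [ha, hb]; simp) hne
  · refine ⟨X F + 1, ⟨1, 1, by module⟩, ?_⟩
    rw [ha, hb, zero_smul, zero_add, one_smul, hX1]
  · refine ⟨1, ⟨1, 0, by module⟩, ?_⟩
    rw [ha, hb]; simp
  · refine ⟨X F, ⟨0, 1, by module⟩, ?_⟩
    rw [ha, hb, one_smul, one_smul, K2_comm hF _ ⟨1, 1, by module⟩ _ ⟨0, 1, by module⟩,
      add_comm (1 : Matrix (Fin 2) (Fin 2) F), hX1]

theorem K2_finrank (hF : Fintype.card F = 2) : finrank F (K2 hF) = 2 := by
  let L : (Fin 2 → F) →ₗ[F] Matrix (Fin 2) (Fin 2) F :=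
    { toFun := fun v => v 0 • (1 : Matrix (Fin 2) (Fin 2) F) + v 1 • X F
      map_add' := fun v w => by simp only [Pi.add_apply]; module
      map_smul' := fun c v => by simp only [Pi.smul_apply, smul_eq_mul, RingHom.id_apply]; module }
  have hinj : Function.Injective L := by
    rw [injective_iff_map_eq_zero]
    intro v hv
    have h0 := congrFun (congrFun hv 0) 0
    have h1 := congrFun (congrFun hv 0) 1
    simp [L, X] at h0 h1
    funext i
    fin_cases i
    · exact h0
    · exact h1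
  have hr : Subalgebra.toSubmodule (K2 hF) = LinearMap.range L := by
    ext M
    rw [Subalgebra.mem_toSubmodule, mem_K2]
    constructor
    · rintro ⟨a, b, rfl⟩
      exact ⟨![a, b], by simp [L]⟩
    · rintro ⟨v, rfl⟩
      exact ⟨v 0, v 1, rfl⟩
  change finrank F (Subalgebra.toSubmodule (K2 hF)) = 2
  rw [hr, LinearMap.finrank_range_of_inj hinj, Module.finrank_fin_fun]

/-- every element of `GL_2(2)` normalises the field -/
theorem K2_normal (hF : Fintype.card F = 2) (a : GL (Fin 2) F) :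
    (a : Matrix (Fin 2) (Fin 2) F) * X F * ((a⁻¹ : GL (Fin 2) F) : Matrix (Fin 2) (Fin 2) F) = X F ∨
    (a : Matrix (Fin 2) (Fin 2) F) * X F * ((a⁻¹ : GL (Fin 2) F) : Matrix (Fin 2) (Fin 2) F) =
      X F + 1 := by
  have h11 := two_eq_zero hF
  have hmm : (-1 : F) = 1 := by linear_combination -h11
  set Y := (a : Matrix (Fin 2) (Fin 2) F) * X F *
    ((a⁻¹ : GL (Fin 2) F) : Matrix (Fin 2) (Fin 2) F) with hY
  have htr : Y.trace = 1 := by
    rw [hY, Matrix.trace_mul_comm, ← mul_assoc, ← Units.val_mul, inv_mul_cancel, Units.val_one,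
      one_mul]
    simp [X, Matrix.trace_fin_two]
  have hdet : Y.det = 1 := by
    rw [hY, Matrix.det_mul, Matrix.det_mul, mul_right_comm, ← Matrix.det_mul, ← Units.val_mul,
      mul_inv_cancel, Units.val_one, Matrix.det_one, one_mul]
    simp [X, Matrix.det_fin_two, hmm]
  rw [Matrix.trace_fin_two] at htr
  rw [Matrix.det_fin_two] at hdet
  have hprod : Y 0 0 * Y 1 1 = 0 := by
    rcases eq_zero_or_one hF (Y 0 0) with h | h
    · rw [h, zero_mul]
    · have : Y 1 1 = 0 := by rw [h] at htr; linear_combination htr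
      rw [this, mul_zero]
  have h2 : Y 0 1 * Y 1 0 = 1 := by
    rw [hprod] at hdet
    linear_combination (-1 : F) * hdet - h11
  have h01 : Y 0 1 = 1 := by
    rcases eq_zero_or_one hF (Y 0 1) with h | h
    · rw [h, zero_mul] at h2; exact absurd h2 zero_ne_one
    · exact h
  have h10 : Y 1 0 = 1 := by rwa [h01, one_mul] at h2
  rcases eq_zero_or_one hF (Y 0 0) with h | h
  · left
    have h' : Y 1 1 = 1 := by rwa [h, zero_add] at htr
    ext i j
    fin_cases i <;> fin_cases j <;> simp [X, h, h', h01, h10]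
  · right
    have h' : Y 1 1 = 0 := by rw [h] at htr; linear_combination htr
    ext i j
    fin_cases i <;> fin_cases j <;> simp [X, h, h', h01, h10, h11]

/-- the algebra homomorphism `k ↦ P (k ⊗ 1) P⁻¹` -/
def emb {n₁ n₂ : ℕ} (e : ι ≃ Fin n₁ × Fin n₂) (P : GL ι F) :
    Matrix (Fin n₁) (Fin n₁) F →ₐ[F] Matrix ι ι F where
  toFun k := (P : Matrix ι ι F) * (Matrix.reindexAlgEquiv F F e.symm
    (k ⊗ₖ (1 : Matrix (Fin n₂) (Fin n₂) F))) * ((P⁻¹ : GL ι F) : Matrix ι ι F)
  map_one' := by
    rw [Matrix.one_kronecker_one, map_one, mul_one, ← Units.val_mul, mul_inv_cancel, Units.val_one]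
  map_mul' x y := by
    have h1 : (x * y) ⊗ₖ (1 : Matrix (Fin n₂) (Fin n₂) F) = (x ⊗ₖ 1) * (y ⊗ₖ 1) := by
      rw [← Matrix.mul_kronecker_mul, one_mul]
    rw [h1, map_mul]
    simp only [mul_assoc]
    congr 2
    rw [← mul_assoc ((P⁻¹ : GL ι F) : Matrix ι ι F), ← Units.val_mul, inv_mul_cancel,
      Units.val_one, one_mul]
  map_zero' := by rw [Matrix.zero_kronecker, map_zero, mul_zero, zero_mul]
  map_add' x y := by rw [Matrix.add_kronecker, map_add, mul_add, add_mul]
  commutes' r := by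
    have h1 : (algebraMap F (Matrix (Fin n₁) (Fin n₁) F) r) ⊗ₖ (1 : Matrix (Fin n₂) (Fin n₂) F) =
        r • 1 := by
      rw [Algebra.algebraMap_eq_smul_one, Matrix.smul_kronecker, Matrix.one_kronecker_one]
    rw [h1, map_smul, map_one, mul_smul_comm, mul_one, smul_mul_assoc, ← Units.val_mul,
      mul_inv_cancel, Units.val_one, Algebra.algebraMap_eq_smul_one]

omit [Fintype F] in
theorem emb_apply {n₁ n₂ : ℕ} (e : ι ≃ Fin n₁ × Fin n₂) (P : GL ι F)
    (k : Matrix (Fin n₁) (Fin n₁) F) :
    emb e P k = (P : Matrix ι ι F) * (Matrix.reindexAlgEquiv F F e.symm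
    (k ⊗ₖ (1 : Matrix (Fin n₂) (Fin n₂) F))) * ((P⁻¹ : GL ι F) : Matrix ι ι F) := rfl

omit [Fintype F] in
theorem emb_injective {n₁ n₂ : ℕ} (hn : 0 < n₂) (e : ι ≃ Fin n₁ × Fin n₂) (P : GL ι F) :
    Function.Injective (emb e P) := by
  rw [injective_iff_map_eq_zero]
  intro k hk
  rw [emb_apply] at hk
  have h1 : Matrix.reindexAlgEquiv F F e.symm (k ⊗ₖ (1 : Matrix (Fin n₂) (Fin n₂) F)) = 0 := by
    have h2 := congrArg (fun z => ((P⁻¹ : GL ι F) : Matrix ι ι F) * z * (P : Matrix ι ι F)) hk
    simpa [mul_assoc, ← Units.val_mul, ← mul_assoc ((P⁻¹ : GL ι F) : Matrix ι ι F)] using h2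
  have h3 : k ⊗ₖ (1 : Matrix (Fin n₂) (Fin n₂) F) = 0 :=
    (Matrix.reindexAlgEquiv F F e.symm).injective (by rw [h1, map_zero])
  ext i j
  have h4 := congrFun (congrFun h3 (i, ⟨0, hn⟩)) (j, ⟨0, hn⟩)
  simpa [Matrix.kroneckerMap_apply] using h4

/-- Over the field with two elements `GL_2 ⊗ GL_m` normalises a subfield of degree two. -/
theorem tensor_le (hF : Fintype.card F = 2) {m : ℕ} (hm : 0 < m) (e : ι ≃ Fin 2 × Fin m)
    (P : GL ι F) : ∃ K : Subalgebra F (Matrix ι ι F), IsFieldSubalgebra 2 K ∧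
      tensorProductSubgroup 2 m e P ≤ subalgebraNormalizer K := by
  have hinj := emb_injective (F := F) hm e P
  refine ⟨(K2 hF).map (emb e P), ⟨?_, ?_, ?_⟩, ?_⟩
  · rintro _ ⟨x, hx, rfl⟩ _ ⟨y, hy, rfl⟩
    change emb e P x * emb e P y = emb e P y * emb e P x
    rw [← map_mul, ← map_mul, K2_comm hF x hx y hy]
  · rintro _ ⟨x, hx, rfl⟩ hne
    obtain ⟨y, hy, hxy⟩ := K2_inv hF x hx (by
      rintro rfl; exact hne (map_zero _))
    refine ⟨emb e P y, ⟨y, hy, rfl⟩, ?_⟩
    change emb e P x * emb e P y = 1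
    rw [← map_mul, hxy, map_one]
  · exact (LinearEquiv.finrank_eq ((K2 hF).equivMapOfInjective (emb e P) hinj).toLinearEquiv).symm.trans
      (K2_finrank hF)
  · -- one inclusion for every element
    have key : ∀ g ∈ tensorProductSubgroup 2 m e P, ∀ k ∈ (K2 hF).map (emb e P),
        (g : Matrix ι ι F) * k * ((g⁻¹ : GL ι F) : Matrix ι ι F) ∈ (K2 hF).map (emb e P) := by
      rintro g hg _ ⟨x, hx, rfl⟩
      obtain ⟨a, b, hab⟩ := exists_of_mem hg
      obtain ⟨c, d, rfl⟩ := hx
      have hconj : (g : Matrix ι ι F) * emb e P (c • (1 : Matrix (Fin 2) (Fin 2) F) + d • X F) *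
          ((g⁻¹ : GL ι F) : Matrix ι ι F) = emb e P ((a : Matrix (Fin 2) (Fin 2) F) *
          (c • (1 : Matrix (Fin 2) (Fin 2) F) + d • X F) *
            ((a⁻¹ : GL (Fin 2) F) : Matrix (Fin 2) (Fin 2) F)) := by
        have h1 : (g : Matrix ι ι F) * emb e P (c • (1 : Matrix (Fin 2) (Fin 2) F) + d • X F) =
            emb e P ((a : Matrix (Fin 2) (Fin 2) F) *
          (c • (1 : Matrix (Fin 2) (Fin 2) F) + d • X F) *
            ((a⁻¹ : GL (Fin 2) F) : Matrix (Fin 2) (Fin 2) F)) * (g : Matrix ι ι F) := by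
          rw [hab, emb_apply, emb_apply]
          set u := c • (1 : Matrix (Fin 2) (Fin 2) F) + d • X F with hu
          have h2 : ∀ A B : Matrix ι ι F, (P : Matrix ι ι F) * A * ((P⁻¹ : GL ι F) : Matrix ι ι F) *
              ((P : Matrix ι ι F) * B * ((P⁻¹ : GL ι F) : Matrix ι ι F)) =
              (P : Matrix ι ι F) * (A * B) * ((P⁻¹ : GL ι F) : Matrix ι ι F) := by
            intro A B
            have h3 : ((P⁻¹ : GL ι F) : Matrix ι ι F) * (P : Matrix ι ι F) = 1 := by
              rw [← Units.val_mul, inv_mul_cancel, Units.val_one]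
            calc _ = (P : Matrix ι ι F) * A * (((P⁻¹ : GL ι F) : Matrix ι ι F) * (P : Matrix ι ι F)) *
                  B * ((P⁻¹ : GL ι F) : Matrix ι ι F) := by simp only [mul_assoc]
              _ = _ := by rw [h3]; simp only [mul_assoc, mul_one, one_mul]
          rw [h2, h2, ← map_mul, ← map_mul, ← Matrix.mul_kronecker_mul, ← Matrix.mul_kronecker_mul]
          have h4 : (a : Matrix (Fin 2) (Fin 2) F) * u *
              ((a⁻¹ : GL (Fin 2) F) : Matrix (Fin 2) (Fin 2) F) * (a : Matrix (Fin 2) (Fin 2) F) =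
              (a : Matrix (Fin 2) (Fin 2) F) * u := by
            rw [mul_assoc, ← Units.val_mul, inv_mul_cancel, Units.val_one, mul_one]
          rw [h4, mul_one, one_mul]
        rw [h1, mul_assoc, ← Units.val_mul, mul_inv_cancel, Units.val_one, mul_one]
      change (g : Matrix ι ι F) * emb e P (c • (1 : Matrix (Fin 2) (Fin 2) F) + d • X F) *
          ((g⁻¹ : GL ι F) : Matrix ι ι F) ∈ _
      rw [hconj]
      refine ⟨_, ?_, rfl⟩
      have h5 : (a : Matrix (Fin 2) (Fin 2) F) * (c • (1 : Matrix (Fin 2) (Fin 2) F) + d • X F) *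
            ((a⁻¹ : GL (Fin 2) F) : Matrix (Fin 2) (Fin 2) F) =
          c • (1 : Matrix (Fin 2) (Fin 2) F) + d • ((a : Matrix (Fin 2) (Fin 2) F) * X F *
            ((a⁻¹ : GL (Fin 2) F) : Matrix (Fin 2) (Fin 2) F)) := by
        rw [mul_add, add_mul, mul_smul_comm, mul_smul_comm, smul_mul_assoc, smul_mul_assoc, mul_one,
          ← Units.val_mul, mul_inv_cancel, Units.val_one]
      rcases K2_normal hF a with h6 | h6
      · exact ⟨c, d, by rw [h5, h6]⟩
      · exact ⟨c + d, d, by rw [h5, h6]; module⟩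
    intro g hg k
    refine ⟨fun hk => key g hg k hk, fun hk => ?_⟩
    have h1 := key g⁻¹ (inv_mem hg) _ hk
    have h2 : ((g⁻¹ : GL ι F) : Matrix ι ι F) * ((g : Matrix ι ι F) * k *
        ((g⁻¹ : GL ι F) : Matrix ι ι F)) * (((g⁻¹)⁻¹ : GL ι F) : Matrix ι ι F) = k := by
      rw [inv_inv]
      have h3 : ((g⁻¹ : GL ι F) : Matrix ι ι F) * (g : Matrix ι ι F) = 1 := by
        rw [← Units.val_mul, inv_mul_cancel, Units.val_one]
      calc _ = (((g⁻¹ : GL ι F) : Matrix ι ι F) * (g : Matrix ι ι F)) * k *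
            (((g⁻¹ : GL ι F) : Matrix ι ι F) * (g : Matrix ι ι F)) := by simp only [mul_assoc]
        _ = k := by rw [h3, one_mul, mul_one]
    rwa [h2] at h1

end Cfsg.Agent.H913.SL6Small
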