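import Mathlib
import Cfsg.Agent.H913.Cubic2
import Cfsg.Agent.H912.Core4
import Cfsg.Agent.H921.UnitBase
import Cfsg.Agent.H924.Adj

/-!
# `SU_6(2)`: the normaliser of an adjoint-closed cubic field lies in a symplectic subfield group (helper913)
-/

set_option autoImplicit false
set_option linter.unusedSectionVars false

namespace Cfsg.Agent.H913.SU6Cubic

open Cfsg Cfsg.Geo Module
open scoped MatrixGroups Matrix
open Cfsg.Agent.LieClassical.HermBasic Cfsg.Agent.H913.SubfieldMem Cfsg.Agent.H913.Cubic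
open Cfsg.Agent.H924 (adjM)

variable {F : Type*} [Field F] [Fintype F]

/-- the adjoint as an automorphism of an adjoint-closed commutative subalgebra -/
noncomputable def stK {n q : ℕ} (hF : Fintype.card F = q ^ 2) {K : Subalgebra F (Matrix (Fin n) (Fin n) F)}
    (hcomm : ∀ x ∈ K, ∀ y ∈ K, x * y = y * x)
    (hadj : IsAdjointClosedFor (hermForm n F q) K) : K ≃+* K where
  toFun k := ⟨adjM (conj hF) (hermForm n F q) k, H924.adjM_mem (H921.herm_hermForm hF) hadj k.2⟩
  invFun k := ⟨adjM (conj hF) (hermForm n F q) k, H924.adjM_mem (H921.herm_hermForm hF) hadj k.2⟩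
  left_inv k := Subtype.ext (H924.adjM_adjM (H921.herm_hermForm hF) _)
  right_inv k := Subtype.ext (H924.adjM_adjM (H921.herm_hermForm hF) _)
  map_mul' x y := Subtype.ext (by
    change adjM (conj hF) (hermForm n F q) ((x : Matrix (Fin n) (Fin n) F) * y) =
      adjM (conj hF) (hermForm n F q) x * adjM (conj hF) (hermForm n F q) y
    rw [hcomm _ x.2 _ y.2, H924.adjM_mul (H921.herm_hermForm hF)])
  map_add' x y := Subtype.ext (H924.adjM_add (H921.herm_hermForm hF) _ _)

theorem cubic_le (hF : Fintype.card F = 2 ^ 2) {K : Subalgebra F (Matrix (Fin 6) (Fin 6) F)}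
    (hK : IsFieldSubalgebra 3 K) (hadj : IsAdjointClosedFor (hermForm 6 F 2) K) :
    ∃ (F₀ : Subfield F) (P : GL (Fin 6) F), Fintype.card F = Nat.card F₀ ^ 2 ∧
      IsFormRationalStructure (hermForm 6 F 2) F₀ 1 P ∧
      (∀ u : Fin 6 → F, (∀ i, u i ∈ F₀) → hermForm 6 F 2
        ((P : Matrix (Fin 6) (Fin 6) F) *ᵥ u) ((P : Matrix (Fin 6) (Fin 6) F) *ᵥ u) = 0) ∧
      subalgebraNormalizer K ⊓ (GU 6 F 2 ⊓ specialLinear (Fin 6) F) ≤ subfieldSubgroup F₀ P := by
  classical
  let _ : Field K := (H912.isField_of_fieldSub hK).toField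
  let _ : Fintype K := Fintype.ofFinite K
  have hH := H921.herm_hermForm (n := 6) hF
  set f := hermForm 6 F 2 with hf
  set st := stK hF hK.comm hadj with hst
  have hcardK : Fintype.card K = 8 ^ 2 := by
    have h1 := Module.card_eq_pow_finrank (K := F) (V := K)
    rw [hK.finrank_eq, hF] at h1
    rw [h1]; norm_num
  have D : Dat (V := Fin 6 → F) f st :=
    { cardF := hF
      cardK := hcardK
      add_left := fun x y v => herm_add_left x y v
      smul_left := fun c x v => herm_smul_left c x v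
      herm := fun v w => herm_swap hF w v
      nd := fun v h => herm_nondeg hF h
      adj := fun k u v => H924.isAdj_adjM hH (k : Matrix (Fin 6) (Fin 6) F) u v
      st_alg := fun c => by
        apply Subtype.ext
        change adjM (conj hF) f (algebraMap F (Matrix (Fin 6) (Fin 6) F) c) =
          algebraMap F (Matrix (Fin 6) (Fin 6) F) (c ^ 2)
        rw [Algebra.algebraMap_eq_smul_one, H924.adjM_smul hH, H924.adjM_one hH,
          Algebra.algebraMap_eq_smul_one]
        rfl
      st_st := fun k => st.left_inv k }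
  have hrank : finrank K (Fin 6 → F) = 2 := by
    have h1 := Module.finrank_mul_finrank F K (Fin 6 → F)
    rw [hK.finrank_eq, Module.finrank_fin_fun] at h1
    omega
  obtain ⟨e, e', hee, he'e', hee', he'e, hex⟩ := D.exists_hyp hrank
  obtain ⟨b, hb⟩ := D.exists_basis hee he'e' hee' he'e
  set F₀ := fixedSub D.cardF with hF₀
  have hcardF₀ : Nat.card F₀ = 2 := card_fixedSub D.cardF
  -- the matrix of the basis
  set M : Matrix (Fin 6) (Fin 6) F := Matrix.of fun i j => (b j : Fin 6 → F) i with hM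
  have hMv : ∀ x : Fin 6 → F, M *ᵥ x = ∑ j, x j • (b j : Fin 6 → F) := by
    intro x
    ext i
    simp only [hM, Matrix.mulVec, dotProduct, Matrix.of_apply, Finset.sum_apply, Pi.smul_apply,
      smul_eq_mul]
    exact Finset.sum_congr rfl fun j _ => mul_comm _ _
  have hMu : IsUnit M := by
    rw [← Matrix.mulVec_injective_iff_isUnit]
    intro x y hxy
    have h1 : ∑ j, (x j - y j) • (b j : Fin 6 → F) = 0 := by
      have hxy' : M *ᵥ x = M *ᵥ y := hxy
      rw [hMv, hMv] at hxy'
      simp only [sub_smul, Finset.sum_sub_distrib, hxy', sub_self]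
    have h2 := Fintype.linearIndependent_iff.1 hb _ h1
    funext j
    exact sub_eq_zero.1 (h2 j)
  obtain ⟨P, hP⟩ := hMu
  have hPv : ∀ x : Fin 6 → F, (P : Matrix (Fin 6) (Fin 6) F) *ᵥ x = ∑ j, x j • (b j : Fin 6 → F) := by
    intro x; rw [hP, hMv]
  have hPmem : ∀ u : Fin 6 → F, (∀ i, u i ∈ F₀) →
      (P : Matrix (Fin 6) (Fin 6) F) *ᵥ u ∈ V0 st e e' := by
    intro u hu
    rw [hPv]
    have h1 : ∑ j, u j • (b j : Fin 6 → F) = ((∑ j, (⟨u j, hu j⟩ : F₀) • b j : D.V0s e e') : Fin 6 → F) := by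
      simp only [Submodule.coe_sum, Submodule.coe_smul]
      rfl
    rw [h1]
    exact (∑ j, (⟨u j, hu j⟩ : F₀) • b j : D.V0s e e').2
  have hVP : ∀ v ∈ V0 st e e', ∃ a : Fin 6 → F, (∀ i, a i ∈ F₀) ∧
      v = (P : Matrix (Fin 6) (Fin 6) F) *ᵥ a := by
    intro v hv
    refine ⟨fun i => (b.repr ⟨v, hv⟩ i : F), fun i => (b.repr ⟨v, hv⟩ i).2, ?_⟩
    rw [hPv]
    have h1 := congrArg (Subtype.val) (b.sum_repr ⟨v, hv⟩)
    rw [Submodule.coe_sum] at h1
    exact h1.symm
  refine ⟨F₀, P, by rw [hcardF₀, hF], ?_, ?_, ?_⟩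
  · intro u v hu hv
    rw [one_mul]
    exact D.form_V0 hee he'e' hee' he'e (hPmem u hu) (hPmem v hv)
  · intro u hu
    exact D.form_V0_self hee he'e' hee' he'e (hPmem u hu)
  · rintro g ⟨hgN, hgU, hgS⟩
    have hnorm : H912.NormAlg (subalgebraNormalizer K) K := fun h hh a ha => (hh a).1 ha
    set τ : K ≃ₐ[F] K := H912.conjSub hnorm ⟨g, hgN⟩ with hτ
    have hτk : ∀ (k : K) (v : Fin 6 → F), (g : Matrix (Fin 6) (Fin 6) F) *ᵥ (k • v) =
        τ k • ((g : Matrix (Fin 6) (Fin 6) F) *ᵥ v) := by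
      intro k v
      change (g : Matrix (Fin 6) (Fin 6) F) *ᵥ ((k : Matrix (Fin 6) (Fin 6) F) *ᵥ v) =
        ((τ k : K) : Matrix (Fin 6) (Fin 6) F) *ᵥ ((g : Matrix (Fin 6) (Fin 6) F) *ᵥ v)
      rw [H912.conjSub_coe, Matrix.mulVec_mulVec, Matrix.mulVec_mulVec]
      congr 1
      simp only [mul_assoc]
      rw [← Units.val_mul, inv_mul_cancel, Units.val_one, mul_one]
    obtain ⟨z, hz1, hz0, hzV⟩ := D.exists_z hee he'e' hee' he'e hex
      (g := fun v => (g : Matrix (Fin 6) (Fin 6) F) *ᵥ v)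
      (fun u v => Matrix.mulVec_add _ _ _) (fun u v => hgU u v) hτk
    -- `z` as a matrix
    let zG : GL (Fin 6) F := ⟨(z : Matrix (Fin 6) (Fin 6) F), ((z⁻¹ : K) : Matrix (Fin 6) (Fin 6) F), by
      have := congrArg Subtype.val (mul_inv_cancel₀ hz0)
      exact this, by
      have := congrArg Subtype.val (inv_mul_cancel₀ hz0)
      exact this⟩
    have hzGinv : ∀ v : Fin 6 → F, ((zG⁻¹ : GL (Fin 6) F) : Matrix (Fin 6) (Fin 6) F) *ᵥ v = z⁻¹ • v :=
      fun v => rfl
    set s : GL (Fin 6) F := zG⁻¹ * g with hs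
    have hsV : ∀ v ∈ V0 st e e', (s : Matrix (Fin 6) (Fin 6) F) *ᵥ v ∈ V0 st e e' := by
      intro v hv
      rw [hs, Units.val_mul, ← Matrix.mulVec_mulVec, hzGinv]
      exact hzV v hv
    have hscol : ∀ j, ∃ a : Fin 6 → F, (∀ i, a i ∈ F₀) ∧
        (s : Matrix (Fin 6) (Fin 6) F) *ᵥ ((P : Matrix (Fin 6) (Fin 6) F) *ᵥ Pi.single j 1) =
          (P : Matrix (Fin 6) (Fin 6) F) *ᵥ a := by
      intro j
      apply hVP
      apply hsV
      apply hPmem
      intro i
      rw [Pi.single_apply]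
      split_ifs
      · exact F₀.one_mem
      · exact F₀.zero_mem
    have hsmem : s ∈ subfieldSubgroup F₀ P := mem_subfieldSubgroup_of hscol
    -- the determinant of `s` is one
    have hdets : (s : Matrix (Fin 6) (Fin 6) F).det = 1 := by
      obtain ⟨A, hA⟩ := exists_matrix_of hscol
      have h1 := det_eq_of hA
      have h2 : ((A.det : F₀) : F) ^ 2 = (A.det : F₀) := (A.det).2
      rw [h1]
      have h3 : ((A.det : F₀) : F) ≠ 0 := by
        rw [← h1]; exact det_ne_zero s
      have h4 : ((A.det : F₀) : F) * ((A.det : F₀) : F) = ((A.det : F₀) : F) * 1 := by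
        rw [mul_one, ← pow_two]; exact h2
      exact mul_left_cancel₀ h3 h4
    have hg : g = zG * s := by rw [hs, mul_inv_cancel_left]
    have hdetz : (z : Matrix (Fin 6) (Fin 6) F).det = 1 := by
      have h1 := (GeoBasic.mem_specialLinear_iff g).1 hgS
      rw [hg, Units.val_mul, Matrix.det_mul, hdets, mul_one] at h1
      exact h1
    -- the determinant is a norm
    have hN : Algebra.norm F (z ^ 2) = 1 :=
      Dat.norm_of_det hrank (Matrix.toLin' (z : Matrix (Fin 6) (Fin 6) F))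
        (fun v => Matrix.toLin'_apply _ _) (by rw [LinearMap.det_toLin', hdetz])
    obtain ⟨c, hc⟩ := D.exists_scalar hz1 hN
    have hc0 : c ≠ 0 := by
      rintro rfl
      rw [map_zero] at hc
      exact hz0 hc
    have hzsc : zG ∈ scalars (Fin 6) F := by
      rw [mem_scalars_iff]
      refine ⟨Units.mk0 c hc0, ?_⟩
      have h1 := congrArg Subtype.val hc
      change (z : Matrix (Fin 6) (Fin 6) F) = _
      rw [h1, Units.val_mk0, ← Algebra.algebraMap_eq_smul_one]
      rfl
    rw [hg]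
    exact mul_mem (scalars_le_subfieldSubgroup F₀ P hzsc) hsmem

end Cfsg.Agent.H913.SU6Cubic
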