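import Mathlib
import Cfsg.Prelude.Def_GeometricClasses
import Cfsg.Agent.LieClassical.HermBasic
import Cfsg.Agent.H913.GeoBasic
import Cfsg.Agent.H913.Tensor
import Cfsg.Agent.H913.NdDecomp

/-!
# `SU_6(2)`: the stabiliser of `2 ⊗ 3` is inside the stabiliser of two orthogonal 3-spaces (helper913)

* `exists_onb_two` : orthonormal basis of a unitary form on `F ^ 2`;
* `tensor_le` : over the field with four elements `GU_2 ⊗ GU_3 ⊓ GU_6` preserves a non-degenerate 3-decomposition.
-/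

set_option autoImplicit false

namespace Cfsg.Agent.H913.SU6Tensor

open Cfsg Cfsg.Geo Module
open scoped MatrixGroups Matrix
open Cfsg.Agent.LieClassical.HermBasic Cfsg.Agent.H913.GeoBasic Cfsg.Agent.H913.NdDecomp
open Cfsg.Agent.H913.Tensor

variable {F : Type*} [Field F] [Fintype F] {q n : ℕ}

/-- A unitary form on a non-zero space takes the value one on some pair `(v, v)`; version for a subspace `W` on
which it is not identically zero. -/
theorem exists_self_ne (hF : Fintype.card F = q ^ 2) {f : (Fin n → F) → (Fin n → F) → F}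
    (hf : IsUnitaryFormPow q f) {u v : Fin n → F} (huv : f u v ≠ 0) :
    ∃ c : F, f (c • u + v) (c • u + v) ≠ 0 ∨ f u u ≠ 0 ∨ f v v ≠ 0 := by
  by_contra hcon
  push Not at hcon
  apply huv
  refine eq_zero_of_forall_trace hF fun c => ?_
  have h1 := (hcon c).1
  rw [hf.add_left, add_right hF hf, add_right hF hf, hf.smul_left c u (c • u), smul_right hf,
    (hcon c).2.1, (hcon c).2.2, mul_zero, mul_zero, zero_add, add_zero, hf.smul_left] at h1
  rw [hf.herm v (c • u), hf.smul_left] at h1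
  exact h1

theorem exists_self_one (hF : Fintype.card F = q ^ 2) {f : (Fin n → F) → (Fin n → F) → F}
    (hf : IsUnitaryFormPow q f) {v : Fin n → F} (hv : f v v ≠ 0) :
    ∃ c : F, c ≠ 0 ∧ f (c • v) (c • v) = 1 := by
  obtain ⟨c, hc0, hc⟩ := exists_norm_eq_ne hF (c := (f v v)⁻¹)
    (by rw [inv_pow, ← hf.herm]) (inv_ne_zero hv)
  refine ⟨c, hc0, ?_⟩
  rw [hf.smul_left, smul_right hf, ← mul_assoc, hc, inv_mul_cancel₀ hv]

/-- orthonormal basis of a unitary form on `F ^ 2`, with the expansion of a vector -/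
theorem exists_onb_two (hF : Fintype.card F = q ^ 2) {f : (Fin 2 → F) → (Fin 2 → F) → F}
    (hf : IsUnitaryFormPow q f) :
    ∃ u : Fin 2 → (Fin 2 → F), (∀ i j, f (u i) (u j) = if i = j then 1 else 0) ∧
      ∀ x, x = f x (u 0) • u 0 + f x (u 1) • u 1 := by
  classical
  -- a vector of norm one
  obtain ⟨v, hv⟩ : ∃ v, f v v ≠ 0 := by
    obtain ⟨x, hx⟩ := (hf.nondegenerate (Pi.single 0 1) (by
      intro h; have := congrFun h 0; simp at this)).2
    obtain ⟨c, h | h | h⟩ := exists_self_ne hF hf hx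
    · exact ⟨_, h⟩
    · exact ⟨_, h⟩
    · exact ⟨_, h⟩
  obtain ⟨u0, hc⟩ : ∃ u0, f u0 u0 = 1 := by
    obtain ⟨c, hc0, hc⟩ := exists_self_one hF hf hv
    exact ⟨_, hc⟩
  have hu0ne : u0 ≠ 0 := by
    intro h; rw [h, zero_left hf] at hc; exact zero_ne_one hc
  -- a second vector
  obtain ⟨w, hw⟩ : ∃ w : Fin 2 → F, w ∉ Submodule.span F {u0} := by
    by_contra hcon
    push Not at hcon
    have h1 : Submodule.span F {u0} = ⊤ := eq_top_iff.2 fun x _ => hcon x
    have h2 : finrank F (Submodule.span F ({u0} : Set (Fin 2 → F))) ≤ 1 :=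
      finrank_span_singleton (K := F) hu0ne |>.le
    rw [h1, finrank_top, Module.finrank_fin_fun] at h2
    omega
  have hsub : ∀ x y z : Fin 2 → F, f (x - y) z = f x z - f y z := by
    intro x y z
    have := hf.add_left (x - y) y z
    rw [sub_add_cancel] at this
    rw [this]; ring
  obtain ⟨w', hw'0, hwu⟩ : ∃ w' : Fin 2 → F, w' ≠ 0 ∧ f w' u0 = 0 := by
    refine ⟨w - f w u0 • u0, ?_, ?_⟩
    · intro h
      apply hw
      rw [sub_eq_zero] at h
      rw [h]
      exact Submodule.smul_mem _ _ (Submodule.mem_span_singleton_self u0)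
    · rw [hsub, hf.smul_left, hc, mul_one, sub_self]
  have huw : f u0 w' = 0 := by rw [hf.herm, hwu, zero_pow_q hF]
  have hspan : ∀ x : Fin 2 → F, ∃ a b : F, x = a • u0 + b • w' := by
    have hli : LinearIndependent F ![u0, w'] := by
      rw [LinearIndependent.pair_iff]
      intro s t hst
      have h1 := congrArg (fun z => f z u0) hst
      beta_reduce at h1
      rw [hf.add_left, hf.smul_left, hf.smul_left, hc, hwu, mul_one, mul_zero, add_zero,
        zero_left hf] at h1
      subst h1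
      rw [zero_smul, zero_add] at hst
      rcases smul_eq_zero.1 hst with h | h
      · exact ⟨rfl, h⟩
      · exact absurd h hw'0
    have htop : Submodule.span F (Set.range ![u0, w']) = ⊤ :=
      hli.span_eq_top_of_card_eq_finrank' (by simp)
    intro x
    have hx : x ∈ Submodule.span F (Set.range ![u0, w']) := by rw [htop]; trivial
    rw [Matrix.range_cons, Matrix.range_cons, Matrix.range_empty, Set.union_empty,
      Set.singleton_union, Submodule.mem_span_pair] at hx
    obtain ⟨a, b, h⟩ := hx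
    exact ⟨a, b, h.symm⟩
  have hww : f w' w' ≠ 0 := by
    intro h0
    obtain ⟨x, hx⟩ := (hf.nondegenerate w' hw'0).1
    obtain ⟨a, b, rfl⟩ := hspan x
    apply hx
    rw [hf.add_left, hf.smul_left, hf.smul_left, huw, h0, mul_zero, mul_zero, add_zero]
  obtain ⟨u1, d, hu1, hd0, hd⟩ : ∃ (u1 : Fin 2 → F) (d : F), u1 = d • w' ∧ d ≠ 0 ∧ f u1 u1 = 1 := by
    obtain ⟨d, hd0, hd⟩ := exists_self_one hF hf hww
    exact ⟨_, d, rfl, hd0, hd⟩
  have h10 : f u1 u0 = 0 := by rw [hu1, hf.smul_left, hwu, mul_zero]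
  have h01 : f u0 u1 = 0 := by rw [hf.herm, h10, zero_pow_q hF]
  refine ⟨![u0, u1], ?_, ?_⟩
  · intro i j
    fin_cases i <;> fin_cases j <;> simp [hc, hd, h01, h10]
  · intro x
    obtain ⟨a, b, rfl⟩ := hspan x
    simp only [Matrix.cons_val_zero, Matrix.cons_val_one]
    have e1 : f (a • u0 + b • w') u0 = a := by
      rw [hf.add_left, hf.smul_left, hf.smul_left, hc, hwu, mul_one, mul_zero, add_zero]
    have e2 : f (a • u0 + b • w') u1 • u1 = b • w' := by
      have h3 : w' = d⁻¹ • u1 := by rw [hu1, smul_smul, inv_mul_cancel₀ hd0, one_smul]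
      have h4 : f w' u1 = d⁻¹ := by
        conv_lhs => rw [h3]
        rw [hf.smul_left, hd, mul_one]
      rw [hf.add_left, hf.smul_left, hf.smul_left, h01, mul_zero, zero_add, h4, hu1, smul_smul,
        mul_assoc, inv_mul_cancel₀ hd0, mul_one]
    rw [e1, e2]

/-- over the field with four elements a cube is `0` or `1` -/
theorem cube_eq_one (hF : Fintype.card F = 2 ^ 2) {x : F} (hx : x ≠ 0) : x * x ^ 2 = 1 := by
  have h := FiniteField.pow_card_sub_one_eq_one x hx
  rw [hF] at h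
  rw [← h]
  ring

theorem two_eq_zero (hF : Fintype.card F = 2 ^ 2) : (1 : F) + 1 = 0 := by
  have h : ((Fintype.card F : ℕ) : F) = 0 := FiniteField.cast_card_eq_zero F
  rw [hF] at h
  have h4 : (2 : F) ^ 2 = 0 := by exact_mod_cast h
  have := pow_eq_zero_iff (n := 2) (by norm_num) |>.1 h4
  rw [one_add_one_eq_two, this]

/-- the linear map `y ↦ P (u ⊗ y)` -/
def slot {n₁ n₂ : ℕ} (e : Fin n ≃ Fin n₁ × Fin n₂) (P : GL (Fin n) F) (u : Fin n₁ → F) :
    (Fin n₂ → F) →ₗ[F] (Fin n → F) :=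
  (Matrix.toLin' (P : Matrix (Fin n) (Fin n) F)).comp
    ({ toFun := fun y => pt u y ∘ e
       map_add' := fun x y => by funext i; simp [pt, mul_add]
       map_smul' := fun c x => by
        funext i
        simp only [pt, Function.comp_apply, Pi.smul_apply, smul_eq_mul, RingHom.id_apply]
        ring } : (Fin n₂ → F) →ₗ[F] (Fin n → F))

omit [Fintype F] in
theorem slot_apply {n₁ n₂ : ℕ} (e : Fin n ≃ Fin n₁ × Fin n₂) (P : GL (Fin n) F) (u : Fin n₁ → F)
    (y : Fin n₂ → F) :
    slot e P u y = (P : Matrix (Fin n) (Fin n) F) *ᵥ (pt u y ∘ e) := by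
  rfl

omit [Fintype F] in
theorem slot_injective {n₁ n₂ : ℕ} (e : Fin n ≃ Fin n₁ × Fin n₂) (P : GL (Fin n) F)
    {u : Fin n₁ → F} (hu : u ≠ 0) : Function.Injective (slot e P u) := by
  rw [injective_iff_map_eq_zero]
  intro y hy
  rw [slot_apply] at hy
  have h1 : pt u y ∘ e = 0 := by
    have := congrArg (fun z => ((P⁻¹ : GL (Fin n) F) : Matrix (Fin n) (Fin n) F) *ᵥ z) hy
    rwa [inv_mulVec_mulVec, Matrix.mulVec_zero] at this
  obtain ⟨a, ha⟩ := Function.ne_iff.1 hu
  funext b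
  have h2 := congrFun h1 (e.symm (a, b))
  simp only [Function.comp_apply, Equiv.apply_symm_apply, pt, Pi.zero_apply, mul_eq_zero] at h2
  exact h2.resolve_left ha

/-- `GU_2(2) ⊗ GU_3(2)` preserves a decomposition into two orthogonal non-degenerate 3-spaces. -/
theorem tensor_le (hF : Fintype.card F = 2 ^ 2) {e : Fin 6 ≃ Fin 2 × Fin 3} {P : GL (Fin 6) F}
    {f₁ : (Fin 2 → F) → (Fin 2 → F) → F} {f₂ : (Fin 3 → F) → (Fin 3 → F) → F}
    (h₁ : IsUnitaryFormPow 2 f₁) (h₂ : IsUnitaryFormPow 2 f₂)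
    (hT : IsTensorFormStructure (fun x : F => x ^ 2) (hermForm 6 F 2) f₁ f₂ e P) :
    ∃ D : Fin 2 → Submodule F (Fin 6 → F), IsNondegenerateMDecomposition (hermForm 6 F 2) 3 D ∧
      tensorProductSubgroup 2 3 e P ⊓ GU 6 F 2 ≤ decompositionStabilizer D := by
  classical
  obtain ⟨c, hc0, hc⟩ := hT
  have hpt := form_pt hF h₁ h₂ hc
  obtain ⟨u, huu, hux⟩ := exists_onb_two hF h₁
  have hune : ∀ j, u j ≠ 0 := by
    intro j h
    have := huu j j
    rw [h, zero_left h₁, if_pos rfl] at this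
    exact zero_ne_one this
  set D : Fin 2 → Submodule F (Fin 6 → F) := fun j => LinearMap.range (slot e P (u j)) with hD
  have hdec : IsNondegenerateMDecomposition (hermForm 6 F 2) 3 D := by
    refine ndDecomp_of hF le_rfl (by norm_num) (by norm_num) ?_ ?_ ?_
    · intro i
      rw [hD, LinearMap.finrank_range_of_inj (slot_injective e P (hune i)),
        Module.finrank_fin_fun]
    · rintro i x ⟨y, rfl⟩ h
      have hy : y = 0 := by
        by_contra hne
        obtain ⟨z, hz⟩ := (h₂.nondegenerate y hne).2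
        have h1 := h _ ⟨z, rfl⟩
        rw [slot_apply, slot_apply, hpt, huu, if_pos rfl, one_mul] at h1
        rcases mul_eq_zero.1 h1 with h2 | h2
        · exact hc0 h2
        · exact hz h2
      rw [hy, map_zero]
    · rintro i j hij x ⟨y, rfl⟩ x' ⟨z, rfl⟩
      rw [slot_apply, slot_apply, hpt, huu, if_neg hij, zero_mul, mul_zero]
  refine ⟨D, hdec, ?_⟩
  rintro g ⟨hg, hgU⟩
  obtain ⟨a, b, hab⟩ := exists_of_mem hg
  have hact := mulVec_pt hab
  refine mem_decompositionStabilizer_of' hdec.decomp fun j => ?_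
  -- a non-isotropic vector of the second factor
  obtain ⟨y0, hy0⟩ : ∃ y, f₂ y y ≠ 0 := by
    obtain ⟨x, hx⟩ := (h₂.nondegenerate (Pi.single 0 1) (by
      intro h; have := congrFun h 0; simp at this)).2
    obtain ⟨c, h | h | h⟩ := exists_self_ne hF h₂ hx
    · exact ⟨_, h⟩
    · exact ⟨_, h⟩
    · exact ⟨_, h⟩
  have hw : f₁ ((a : Matrix (Fin 2) (Fin 2) F) *ᵥ u j) ((a : Matrix (Fin 2) (Fin 2) F) *ᵥ u j) ≠ 0 := by
    intro h0
    have h1 := (GeoBasic.mem_GU_iff g).1 hgU ((P : Matrix (Fin 6) (Fin 6) F) *ᵥ (pt (u j) y0 ∘ e))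
      ((P : Matrix (Fin 6) (Fin 6) F) *ᵥ (pt (u j) y0 ∘ e))
    rw [hact, hpt, hpt, h0, huu, if_pos rfl, zero_mul, mul_zero, one_mul] at h1
    rcases mul_eq_zero.1 h1.symm with h2 | h2
    · exact hc0 h2
    · exact hy0 h2
  set w := (a : Matrix (Fin 2) (Fin 2) F) *ᵥ u j with hwdef
  have hwx := hux w
  set α := f₁ w (u 0) with hα
  set β := f₁ w (u 1) with hβ
  have hww : f₁ w w = α * α ^ 2 + β * β ^ 2 := by
    have h1 : f₁ w w = f₁ (α • u 0 + β • u 1) w := congrArg (fun z => f₁ z w) hwx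
    rw [h1, h₁.add_left, h₁.smul_left, h₁.smul_left, h₁.herm (u 0) w, h₁.herm (u 1) w, ← hα, ← hβ]
  have hor : β = 0 ∨ α = 0 := by
    by_contra hcon
    push Not at hcon
    apply hw
    rw [hww, cube_eq_one hF hcon.1, cube_eq_one hF hcon.2, two_eq_zero hF]
  have key : ∀ (k : Fin 2) (γ : F), w = γ • u k →
      ∀ x ∈ D j, (g : Matrix (Fin 6) (Fin 6) F) *ᵥ x ∈ D k := by
    rintro k γ hk x ⟨y, rfl⟩
    rw [slot_apply, hact, ← hwdef, hk]
    refine ⟨γ • ((b : Matrix (Fin 3) (Fin 3) F) *ᵥ y), ?_⟩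
    rw [slot_apply]
    congr 1
    funext i
    simp only [pt, Function.comp_apply, Pi.smul_apply, smul_eq_mul]
    ring
  rcases hor with h0 | h0
  · exact ⟨0, key 0 α (by rw [hwx, h0, zero_smul, add_zero])⟩
  · exact ⟨1, key 1 β (by rw [hwx, h0, zero_smul, zero_add])⟩

end Cfsg.Agent.H913.SU6Tensor
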