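import Mathlib
import Cfsg.Prelude.Def_GeometricClasses
import Cfsg.Agent.LieClassical.HermBasic
import Cfsg.Agent.ClassicalGeometry.HermOrtho
import Cfsg.Agent.ClassicalGeometry.UnitTransv
import Cfsg.Agent.H913.GeoBasic
import Cfsg.Agent.H913.NdDecomp
import Cfsg.Agent.H913.SU6Tensor
import Cfsg.Agent.H913.F4

/-!
# `SU_6(2)`: frames of non-degenerate 1-spaces and 2-spaces are not maximal (helper913)

* `two_le_one` : over the field with four elements the stabiliser of a non-degenerate 2-decomposition of `F ^ (2 t)` in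
  `GU` preserves a non-degenerate 1-decomposition;
* `frame_one` : no subgroup of the stabiliser of a non-degenerate 1-decomposition is maximal in `SU_6(2)` (it lies in
  the stabiliser of 126 isotropic points, `3.U_4(3).2`);
* `frame_two`.
-/

set_option autoImplicit false

namespace Cfsg.Agent.H913.SU6Frame

open Cfsg Cfsg.Geo Module
open scoped MatrixGroups Matrix
open Cfsg.Agent.LieClassical.HermBasic Cfsg.Agent.H913.GeoBasic Cfsg.Agent.H913.NdDecomp
open Cfsg.Agent.ClassicalGeometry.HermOrtho Cfsg.Agent.H913.F4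
open Cfsg.Agent.H913.SU6Tensor (cube_eq_one)

variable {F : Type*} [Field F] [Fintype F] {n : ℕ}

/-- A vector of norm one in a plane with an orthonormal basis over the field with four elements is a multiple of one
of the two basis vectors. -/
theorem eq_smul_of_norm (hF : Fintype.card F = 2 ^ 2) {W : Submodule F (Fin n → F)}
    (hW : finrank F W = 2) {b : Fin 2 → (Fin n → F)} (hbW : ∀ i, b i ∈ W)
    (hb : ∀ i j, hermForm n F 2 (b i) (b j) = if i = j then 1 else 0) {x : Fin n → F} (hx : x ∈ W)
    (hxx : hermForm n F 2 x x ≠ 0) : ∃ (j : Fin 2) (c : F), x = c • b j := by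
  have h1 := eq_sum_of_orthonormal W (by rw [hW, Fintype.card_fin]) hbW hb hx
  rw [Fin.sum_univ_two] at h1
  set α := hermForm n F 2 x (b 0) with hα
  set β := hermForm n F 2 x (b 1) with hβ
  have hww : hermForm n F 2 x x = α * α ^ 2 + β * β ^ 2 := by
    have h2 : hermForm n F 2 x x = hermForm n F 2 (α • b 0 + β • b 1) x :=
      congrArg (fun z => hermForm n F 2 z x) h1
    rw [h2, herm_add_left, herm_smul_left, herm_smul_left, herm_swap hF x (b 0),
      herm_swap hF x (b 1), ← hα, ← hβ]
  have hor : β = 0 ∨ α = 0 := by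
    by_contra hcon
    push Not at hcon
    apply hxx
    rw [hww, cube_eq_one hF hcon.1, cube_eq_one hF hcon.2, SU6Tensor.two_eq_zero hF]
  rcases hor with h0 | h0
  · exact ⟨0, α, by rw [h1, h0, zero_smul, add_zero]⟩
  · exact ⟨1, β, by rw [h1, h0, zero_smul, zero_add]⟩

/-- Over the field with four elements the stabiliser in `GU` of a non-degenerate 2-decomposition lies in the
stabiliser of a non-degenerate 1-decomposition. -/
theorem two_le_one (hF : Fintype.card F = 2 ^ 2) {t : ℕ} (hn : t * 2 = n)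
    {D : Fin t → Submodule F (Fin n → F)}
    (hD : IsNondegenerateMDecomposition (hermForm n F 2) 2 D) :
    ∃ D' : Fin (t * 2) → Submodule F (Fin n → F),
      IsNondegenerateMDecomposition (hermForm n F 2) 1 D' ∧
      decompositionStabilizer D ⊓ GU n F 2 ≤ decompositionStabilizer D' := by
  classical
  have ht := hD.decomp.two_le
  have hnd : ∀ i, ∀ u ∈ D i, (∀ v ∈ D i, hermForm n F 2 u v = 0) → u = 0 := fun i =>
    (ndOn_iff hF (D i)).1 (hD.nondegenerate i)
  choose b hbD hb using fun i => exists_orthonormal hF (D i) (hnd i) (hD.decomp.finrank_eq i)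
  have hbne : ∀ i j, b i j ≠ 0 := by
    intro i j h
    have := hb i j j
    rw [h, herm_zero_left, if_pos rfl] at this
    exact zero_ne_one this
  set e : Fin (t * 2) ≃ Fin t × Fin 2 := finProdFinEquiv.symm with he
  set D' : Fin (t * 2) → Submodule F (Fin n → F) :=
    fun k => Submodule.span F {b (e k).1 (e k).2} with hD'
  have hb1 : ∀ i j, hermForm n F 2 (b i j) (b i j) = 1 := fun i j => by rw [hb, if_pos rfl]
  have hdec : IsNondegenerateMDecomposition (hermForm n F 2) 1 D' := by
    refine ndDecomp_of hF (by omega) one_pos (by omega) ?_ ?_ ?_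
    · intro k
      exact finrank_span_singleton (hbne _ _)
    · intro k u hu h
      obtain ⟨c, rfl⟩ := Submodule.mem_span_singleton.1 hu
      have h1 := h _ (Submodule.mem_span_singleton_self _)
      rw [herm_smul_left, hb1, mul_one] at h1
      rw [h1, zero_smul]
    · intro k l hkl u hu v hv
      obtain ⟨c, rfl⟩ := Submodule.mem_span_singleton.1 hu
      obtain ⟨d, rfl⟩ := Submodule.mem_span_singleton.1 hv
      rw [herm_smul_left, herm_smul_right]
      have hne : e k ≠ e l := fun h => hkl (e.injective h)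
      by_cases h1 : (e k).1 = (e l).1
      · have h2 : (e k).2 ≠ (e l).2 := fun h => hne (Prod.ext h1 h)
        rw [h1, hb, if_neg h2, mul_zero, mul_zero]
      · rw [hD.orthogonal _ _ h1 _ (hbD _ _) _ (hbD _ _), mul_zero, mul_zero]
  refine ⟨D', hdec, ?_⟩
  rintro g ⟨hg, hgU⟩
  obtain ⟨σ, hσ⟩ := exists_perm_of_mem hg
  refine mem_decompositionStabilizer_of' hdec.decomp fun k => ?_
  have h1 : (g : Matrix (Fin n) (Fin n) F) *ᵥ b (e k).1 (e k).2 ∈ D (σ (e k).1) :=
    hσ _ _ (hbD _ _)
  obtain ⟨j, c, hc⟩ := eq_smul_of_norm hF (hD.decomp.finrank_eq _) (hbD (σ (e k).1))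
    (hb (σ (e k).1)) h1 (by
      rw [(GeoBasic.mem_GU_iff g).1 hgU, hb1]
      exact one_ne_zero)
  refine ⟨e.symm (σ (e k).1, j), ?_⟩
  intro x hx
  obtain ⟨d, rfl⟩ := Submodule.mem_span_singleton.1 hx
  rw [Matrix.mulVec_smul, hc]
  simp only [hD', Equiv.apply_symm_apply]
  exact Submodule.smul_mem _ _ (Submodule.smul_mem _ _ (Submodule.mem_span_singleton_self _))

/-! ### The 126 points -/

omit [Fintype F] in
theorem Om_perm {x y : Fin 6 → F} (σ : Equiv.Perm (Fin 6)) (c : Fin 6 → F) (hc : ∏ i, c i = 1)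
    (h : ∀ i, y (σ i) = c i * x i) : Om y ↔ Om x := by
  have hc0 : ∀ i, c i ≠ 0 := by
    intro i hi
    rw [Finset.prod_eq_zero (Finset.mem_univ i) hi] at hc
    exact zero_ne_one hc
  unfold Om
  refine or_congr ?_ ?_
  · rw [← Equiv.prod_comp σ y]
    simp only [h, Finset.prod_mul_distrib, hc, one_mul]
  · have h1 : {i | y i ≠ 0} = σ '' {i | x i ≠ 0} := by
      ext j
      obtain ⟨i, rfl⟩ := σ.surjective j
      simp only [Set.mem_ofPred_eq, h, Set.mem_image, EmbeddingLike.apply_eq_iff_eq,
        exists_eq_right, mul_ne_zero_iff, hc0, ne_eq, not_false_eq_true, true_and]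
    rw [h1, Set.ncard_image_of_injective _ σ.injective]

/-- the product of the coefficients of a monomial element of determinant one, characteristic two -/
theorem prod_coeff (hF : Fintype.card F = 2 ^ 2) {b : Fin 6 → (Fin 6 → F)}
    (hb : ∀ i j, hermForm 6 F 2 (b i) (b j) = if i = j then 1 else 0) {g : GL (Fin 6) F}
    (hg : (g : Matrix (Fin 6) (Fin 6) F).det = 1) {σ : Equiv.Perm (Fin 6)} {c : Fin 6 → F}
    (h : ∀ i, (g : Matrix (Fin 6) (Fin 6) F) *ᵥ b i = c i • b (σ i)) : ∏ i, c i = 1 := by
  classical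
  obtain ⟨P, -, hP⟩ := exists_GU_of_orthonormal hF hb
  have hPb : ∀ i, (P : Matrix (Fin 6) (Fin 6) F) *ᵥ Pi.single i 1 = b i := by
    intro i
    rw [hP, Finset.sum_eq_single i]
    · rw [Pi.single_eq_same, one_smul]
    · intro j _ hj
      rw [Pi.single_eq_of_ne hj, zero_smul]
    · intro hi; exact absurd (Finset.mem_univ i) hi
  set N : Matrix (Fin 6) (Fin 6) F := (Matrix.diagonal c).submatrix σ.symm id with hN
  have hNi : ∀ i, N *ᵥ Pi.single i 1 = c i • Pi.single (σ i) 1 := by
    intro i
    rw [Matrix.mulVec_single_one]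
    funext j
    simp only [hN, Matrix.col_apply, Matrix.submatrix_apply, id_eq, Matrix.diagonal_apply,
      Pi.smul_apply, Pi.single_apply, smul_eq_mul]
    by_cases hj : j = σ i
    · subst hj; simp
    · rw [if_neg hj, if_neg (fun h' => hj (by rw [← h', Equiv.apply_symm_apply])), mul_zero]
  have hmul : (g : Matrix (Fin 6) (Fin 6) F) * (P : Matrix (Fin 6) (Fin 6) F) =
      (P : Matrix (Fin 6) (Fin 6) F) * N := by
    apply Matrix.ext_of_mulVec_single
    intro i
    rw [← Matrix.mulVec_mulVec, ← Matrix.mulVec_mulVec, hPb, h, hNi, Matrix.mulVec_smul, hPb]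
  have hdet := congrArg Matrix.det hmul
  rw [Matrix.det_mul, Matrix.det_mul, hg, one_mul] at hdet
  have hP0 : (P : Matrix (Fin 6) (Fin 6) F).det ≠ 0 := by
    have : IsUnit (P : Matrix (Fin 6) (Fin 6) F).det := by
      rw [← Matrix.isUnit_iff_isUnit_det]
      exact P.isUnit
    exact this.ne_zero
  have hN1 : N.det = 1 := by
    have h1 : (P : Matrix (Fin 6) (Fin 6) F).det * 1 = (P : Matrix (Fin 6) (Fin 6) F).det * N.det := by
      rw [mul_one]; exact hdet
    exact (mul_left_cancel₀ hP0 h1).symm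
  rw [hN, Matrix.det_permute, Matrix.det_diagonal] at hN1
  have h2 : ((1 : F) = -1) := by
    have := F4.two_eq_zero hF
    linear_combination this
  rcases Int.units_eq_one_or (Equiv.Perm.sign σ.symm) with hs | hs
  · rw [hs] at hN1; simpa using hN1
  · rw [hs] at hN1
    simp only [Units.val_neg, Units.val_one, Int.cast_neg, Int.cast_one] at hN1
    rw [← h2, one_mul] at hN1
    exact hN1

/-- The unitary transvection with centre `v` (`q = 2`) as an element of `GL`. -/
theorem exists_transvection (hF : Fintype.card F = 2 ^ 2) {v : Fin n → F}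
    (hv : hermForm n F 2 v v = 0) :
    ∃ g ∈ GU n F 2 ⊓ specialLinear (Fin n) F, ∀ x : Fin n → F,
      (g : Matrix (Fin n) (Fin n) F) *ᵥ x = x + hermForm n F 2 x v • v := by
  have hc : (1 : F) + 1 ^ 2 = 0 := by rw [one_pow, SU6Tensor.two_eq_zero hF]
  set A := ClassicalGeometry.UnitTransv.utv hF v 1 hv hc with hA
  refine ⟨Matrix.SpecialLinearGroup.toGL (A : Matrix.SpecialLinearGroup (Fin n) F), ⟨?_, ?_⟩, ?_⟩
  · intro x y
    exact ClassicalGeometry.UnitTransv.herm_act A x y
  · exact (mem_specialLinear_iff _).2 (A : Matrix.SpecialLinearGroup (Fin n) F).2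
  · intro x
    have h1 := ClassicalGeometry.UnitTransv.act_utv hF (v := v) (c := 1) hv hc x
    rw [one_mul] at h1
    exact h1

/-- coordinates -/
def crd (b : Fin 6 → (Fin 6 → F)) (v : Fin 6 → F) : Fin 6 → F := fun i => hermForm 6 F 2 v (b i)

omit [Fintype F] in
theorem eq_sum_crd {b : Fin 6 → (Fin 6 → F)}
    (hb : ∀ i j, hermForm 6 F 2 (b i) (b j) = if i = j then 1 else 0) (v : Fin 6 → F) :
    v = ∑ i, crd b v i • b i :=
  eq_sum_of_orthonormal ⊤ (by rw [finrank_top, Module.finrank_fin_fun, Fintype.card_fin])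
    (fun _ => Submodule.mem_top) hb Submodule.mem_top

omit [Fintype F] in
theorem crd_sum {b : Fin 6 → (Fin 6 → F)}
    (hb : ∀ i j, hermForm 6 F 2 (b i) (b j) = if i = j then 1 else 0) (c : Fin 6 → F) :
    crd b (∑ i, c i • b i) = c :=
  funext fun j => herm_sum_smul_left hb c j

/-- A maximal subgroup of `SU_6(2)` does not preserve a non-degenerate 1-decomposition. -/
theorem frame_one (hF : Fintype.card F = 2 ^ 2) {H : Subgroup (GL (Fin 6) F)}
    (hH : IsMaximalIn (GU 6 F 2 ⊓ specialLinear (Fin 6) F) H) {D : Fin 6 → Submodule F (Fin 6 → F)}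
    (hD : IsNondegenerateMDecomposition (hermForm 6 F 2) 1 D) :
    ¬ H ≤ decompositionStabilizer D := by
  classical
  intro hS
  have hnd : ∀ i, ∀ u ∈ D i, (∀ v ∈ D i, hermForm 6 F 2 u v = 0) → u = 0 := fun i =>
    (ndOn_iff hF (D i)).1 (hD.nondegenerate i)
  choose b' hbD' hb' using fun i => exists_orthonormal hF (D i) (hnd i) (hD.decomp.finrank_eq i)
  set b : Fin 6 → (Fin 6 → F) := fun i => b' i 0 with hbdef
  have hbD : ∀ i, b i ∈ D i := fun i => hbD' i 0
  have hb : ∀ i j, hermForm 6 F 2 (b i) (b j) = if i = j then 1 else 0 := by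
    intro i j
    by_cases hij : i = j
    · subst hij
      rw [if_pos rfl]
      exact (hb' i 0 0).trans (if_pos rfl)
    · rw [if_neg hij]
      exact hD.orthogonal i j hij _ (hbD i) _ (hbD j)
  have hbne : ∀ i, b i ≠ 0 := by
    intro i h
    have := hb i i
    rw [h, herm_zero_left, if_pos rfl] at this
    exact zero_ne_one this
  have hspan : ∀ i, ∀ x ∈ D i, ∃ c : F, x = c • b i := by
    intro i x hx
    have h1 := eq_sum_of_orthonormal (D i) (ι := Fin 1) (by rw [hD.decomp.finrank_eq]; rfl)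
      (hbD' i) (hb' i) hx
    rw [Fin.sum_univ_one] at h1
    exact ⟨_, h1⟩
  have hcb : ∀ i, crd b (b i) = Pi.single i 1 := by
    intro i
    funext j
    rw [crd, hb, Pi.single_apply]
    exact if_congr eq_comm rfl rfl
  have hcadd : ∀ x y, crd b (x + y) = crd b x + crd b y := fun x y =>
    funext fun i => herm_add_left _ _ _
  have hcsmul : ∀ (c : F) x, crd b (c • x) = c • crd b x := fun c x =>
    funext fun i => herm_smul_left _ _ _
  set M : Subgroup (GL (Fin 6) F) := stabilizing (glToMat (Fin 6) F) {v | Om (crd b v)} with hM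
  have hMmem : ∀ g : GL (Fin 6) F, g ∈ M ↔ ∀ v, Om (crd b v) ↔
      Om (crd b ((g : Matrix (Fin 6) (Fin 6) F) *ᵥ v)) := fun g => Iff.rfl
  -- the monomial group preserves the set
  have hSM : decompositionStabilizer D ⊓ (GU 6 F 2 ⊓ specialLinear (Fin 6) F) ≤ M := by
    rintro g ⟨hg, hgU, hgS⟩
    obtain ⟨σ, hσ⟩ := exists_perm_of_mem hg
    choose c hc using fun i => hspan (σ i) _ (hσ i (b i) (hbD i))
    have hprod := prod_coeff hF hb ((mem_specialLinear_iff g).1 hgS) hc
    rw [hMmem]
    intro v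
    refine (Om_perm σ c hprod fun i => ?_).symm
    have h1 : (g : Matrix (Fin 6) (Fin 6) F) *ᵥ v = ∑ i, (crd b v i * c i) • b (σ i) := by
      conv_lhs => rw [eq_sum_crd hb v, Matrix.mulVec_sum]
      refine Finset.sum_congr rfl fun i _ => ?_
      rw [Matrix.mulVec_smul, hc, smul_smul]
    have h2 : (g : Matrix (Fin 6) (Fin 6) F) *ᵥ v =
        ∑ j, (crd b v (σ.symm j) * c (σ.symm j)) • b j := by
      rw [h1, ← Equiv.sum_comp σ (fun j => (crd b v (σ.symm j) * c (σ.symm j)) • b j)]
      simp only [Equiv.symm_apply_apply]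
    rw [h2, crd_sum hb, Equiv.symm_apply_apply, mul_comm]
  -- a transvection in `M` outside the frame stabiliser
  set v : Fin 6 → F := ∑ i, b i with hv
  have hcv : crd b v = fun _ => 1 := by
    have := crd_sum hb (fun _ => 1)
    simpa using this
  have h2 := F4.two_eq_zero hF
  have hhv : ∀ x, hermForm 6 F 2 x v = ∑ i, crd b x i := fun x => herm_sum_right hF _ _ _
  have hvv : hermForm 6 F 2 v v = 0 := by
    rw [hhv, hcv]
    simp only [Finset.sum_const, Finset.card_univ, Fintype.card_fin, nsmul_eq_mul, mul_one]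
    have : ((6 : ℕ) : F) = 2 * 3 := by norm_num
    rw [this, h2, zero_mul]
  obtain ⟨t, ht, htx⟩ := exists_transvection hF hvv
  have htt : ∀ x, (t : Matrix (Fin 6) (Fin 6) F) *ᵥ ((t : Matrix (Fin 6) (Fin 6) F) *ᵥ x) = x := by
    intro x
    rw [htx, htx, herm_add_left, herm_smul_left, hvv, mul_zero, add_zero, add_assoc, ← add_smul,
      ← two_mul, h2, zero_mul, zero_smul, add_zero]
  have hcrt : ∀ x, crd b ((t : Matrix (Fin 6) (Fin 6) F) *ᵥ x) =
      fun i => crd b x i + ∑ j, crd b x j := by
    intro x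
    rw [htx, hcadd, hcsmul, hcv, hhv]
    funext i
    simp
  have htM : t ∈ M := by
    rw [hMmem]
    have h1 : ∀ x, Om (crd b x) → Om (crd b ((t : Matrix (Fin 6) (Fin 6) F) *ᵥ x)) := by
      intro x hx
      rw [hcrt]
      exact Om_add hF hx
    intro x
    refine ⟨h1 x, fun h => ?_⟩
    have := h1 _ h
    rwa [htt] at this
  have htS : t ∉ decompositionStabilizer D := by
    intro h
    obtain ⟨σ, hσ⟩ := exists_perm_of_mem h
    obtain ⟨c, hc⟩ := hspan _ _ (hσ 0 (b 0) (hbD 0))
    have h3 : crd b ((t : Matrix (Fin 6) (Fin 6) F) *ᵥ b 0) = c • Pi.single (σ 0) 1 := by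
      rw [hc, hcsmul, hcb]
    rw [hcrt, hcb] at h3
    have h4 : ∑ j, (Pi.single (0 : Fin 6) (1 : F) : Fin 6 → F) j = 1 := by
      rw [Finset.sum_pi_single']; simp
    rw [h4] at h3
    have h5 : ∀ i : Fin 6, i ≠ 0 → i = σ 0 := by
      intro i hi
      by_contra hne
      have := congrFun h3 i
      simp only [Pi.single_eq_of_ne hi, zero_add, Pi.smul_apply, Pi.single_eq_of_ne hne,
        smul_zero] at this
      exact one_ne_zero this
    have h6 := (h5 1 (by decide)).trans (h5 2 (by decide)).symm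
    exact absurd h6 (by decide)
  -- a transvection outside `M`
  have hKM : ¬ GU 6 F 2 ⊓ specialLinear (Fin 6) F ≤ M := by
    intro hle
    set z : Fin 6 → F := b 0 + b 1 + b 2 + b 3 with hz
    have hcz : crd b z = ![1, 1, 1, 1, 0, 0] := by
      rw [hz, hcadd, hcadd, hcadd, hcb, hcb, hcb, hcb]
      funext i
      fin_cases i <;> simp [Pi.single_apply]
    have hhz : ∀ x, hermForm 6 F 2 x z = crd b x 0 + crd b x 1 + crd b x 2 + crd b x 3 := by
      intro x
      rw [hz, herm_add_right hF, herm_add_right hF, herm_add_right hF]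
      rfl
    have hzz : hermForm 6 F 2 z z = 0 := by
      rw [hhz, hcz]
      simp
      linear_combination (2 : F) * h2
    obtain ⟨s, hs, hsx⟩ := exists_transvection hF hzz
    have h3 := (hMmem s).1 (hle hs) (b 0 + b 4)
    have h04 : crd b (b 0 + b 4) = ![1, 0, 0, 0, 1, 0] := by
      rw [hcadd, hcb, hcb]
      funext i
      fin_cases i <;> simp [Pi.single_apply]
    have hs04 : crd b ((s : Matrix (Fin 6) (Fin 6) F) *ᵥ (b 0 + b 4)) = ![0, 1, 1, 1, 1, 0] := by
      rw [hsx, hcadd, hcsmul, hcz, hhz, h04]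
      funext i
      fin_cases i <;> simp
      linear_combination h2
    rw [h04, hs04] at h3
    have h5 : Om (![1, 0, 0, 0, 1, 0] : Fin 6 → F) := by
      right
      rw [Set.ncard_eq_toFinset_card']
      have : ({i | (![1, 0, 0, 0, 1, 0] : Fin 6 → F) i ≠ 0} : Set (Fin 6)).toFinset = {0, 4} := by
        ext i
        fin_cases i <;> simp
      rw [this]
      rfl
    rcases h3.1 h5 with h6 | h6
    · rw [Fin.prod_univ_six] at h6
      simp at h6
    · rw [Set.ncard_eq_toFinset_card'] at h6
      have : ({i | (![0, 1, 1, 1, 1, 0] : Fin 6 → F) i ≠ 0} : Set (Fin 6)).toFinset =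
          {1, 2, 3, 4} := by
        ext i
        fin_cases i <;> simp
      rw [this] at h6
      exact absurd h6 (by decide)
  exact not_max hH hS hSM hKM t htM ht htS

/-- A maximal subgroup of `SU_6(2)` does not preserve a non-degenerate 2-decomposition. -/
theorem frame_two (hF : Fintype.card F = 2 ^ 2) {H : Subgroup (GL (Fin 6) F)}
    (hH : IsMaximalIn (GU 6 F 2 ⊓ specialLinear (Fin 6) F) H) {D : Fin 3 → Submodule F (Fin 6 → F)}
    (hD : IsNondegenerateMDecomposition (hermForm 6 F 2) 2 D) :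
    ¬ H ≤ decompositionStabilizer D := by
  intro hS
  obtain ⟨D', hD', hle⟩ := two_le_one hF (by norm_num) hD
  exact frame_one hF hH hD' (le_trans (le_inf hS (le_trans hH.1.le inf_le_left)) hle)

end Cfsg.Agent.H913.SU6Frame
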