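import Mathlib
import Cfsg.Prelude.Def_GeometricClasses
import Cfsg.Agent.LieClassical.HermBasic
import Cfsg.Agent.H913.GeoBasic

/-!
# Membership in subfield subgroups (helper913)

* `mem_subfieldSubgroup_of` : if `g` maps the `F₀`-span of the columns of `P` into itself then `g` lies in
  `subfieldSubgroup F₀ P`;
* `smul_mem_iff` : scalars do not matter;
* `fixedSub hF` : the subfield of elements with `x ^ q = x`, `|F| = q ^ 2`.
-/

set_option autoImplicit false

namespace Cfsg.Agent.H913.SubfieldMem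

open Cfsg Cfsg.Geo Module
open scoped MatrixGroups Matrix
open Cfsg.Agent.H913.GeoBasic

variable {ι : Type} [Fintype ι] [DecidableEq ι] {F : Type*} [Field F]

/-- If `g` maps every column of `P` to a combination of the columns of `P` with coefficients in `F₀`: the matrix. -/
theorem exists_matrix_of {F₀ : Subfield F} {P g : GL ι F}
    (h : ∀ j, ∃ a : ι → F, (∀ i, a i ∈ F₀) ∧
      (g : Matrix ι ι F) *ᵥ ((P : Matrix ι ι F) *ᵥ Pi.single j 1) = (P : Matrix ι ι F) *ᵥ a) :
    ∃ A : Matrix ι ι F₀, (g : Matrix ι ι F) * (P : Matrix ι ι F) =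
      (P : Matrix ι ι F) * A.map F₀.subtype := by
  classical
  choose a ha0 ha using h
  set A : Matrix ι ι F₀ := Matrix.of fun i j => (⟨a j i, ha0 j i⟩ : F₀) with hA
  have hAm : ∀ j, (A.map F₀.subtype) *ᵥ Pi.single j 1 = a j := by
    intro j
    rw [Matrix.mulVec_single_one]
    funext i
    rfl
  refine ⟨A, ?_⟩
  apply Matrix.ext_of_mulVec_single
  intro j
  rw [← Matrix.mulVec_mulVec, ← Matrix.mulVec_mulVec, hAm, ha]

theorem det_ne_zero (X : GL ι F) : (X : Matrix ι ι F).det ≠ 0 := by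
  have : IsUnit (X : Matrix ι ι F).det := by
    rw [← Matrix.isUnit_iff_isUnit_det]
    exact X.isUnit
  exact this.ne_zero

theorem det_eq_of {F₀ : Subfield F} {P g : GL ι F} {A : Matrix ι ι F₀}
    (h : (g : Matrix ι ι F) * (P : Matrix ι ι F) = (P : Matrix ι ι F) * A.map F₀.subtype) :
    (g : Matrix ι ι F).det = (A.det : F) := by
  have h1 := congrArg Matrix.det h
  rw [Matrix.det_mul, Matrix.det_mul, mul_comm] at h1
  rw [mul_left_cancel₀ (det_ne_zero P) h1]
  change (F₀.subtype.mapMatrix A).det = F₀.subtype A.det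
  rw [RingHom.map_det]

/-- If `g` maps every column of `P` to a combination of the columns of `P` with coefficients in `F₀` then
`g` is in the subfield subgroup. -/
theorem mem_subfieldSubgroup_of {F₀ : Subfield F} {P g : GL ι F}
    (h : ∀ j, ∃ a : ι → F, (∀ i, a i ∈ F₀) ∧
      (g : Matrix ι ι F) *ᵥ ((P : Matrix ι ι F) *ᵥ Pi.single j 1) = (P : Matrix ι ι F) *ᵥ a) :
    g ∈ subfieldSubgroup F₀ P := by
  classical
  obtain ⟨A, hmul⟩ := exists_matrix_of h
  have hdetA : A.det ≠ 0 := by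
    intro h0
    have h1 := det_eq_of hmul
    rw [h0] at h1
    exact det_ne_zero g h1
  let B : GL ι F₀ := Matrix.GeneralLinearGroup.mkOfDetNeZero A hdetA
  have hg : g = P * Matrix.GeneralLinearGroup.map (F₀.subtype : F₀ →+* F) B * P⁻¹ := by
    rw [eq_mul_inv_iff_mul_eq]
    apply Units.ext
    rw [Units.val_mul, Units.val_mul, hmul]
    rfl
  rw [subfieldSubgroup, Subgroup.mem_map]
  refine ⟨Matrix.GeneralLinearGroup.map (F₀.subtype : F₀ →+* F) B,
    Subgroup.mem_sup_left ⟨B, rfl⟩, ?_⟩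
  rw [hg]
  rfl

theorem scalars_le_subfieldSubgroup (F₀ : Subfield F) (P : GL ι F) :
    scalars ι F ≤ subfieldSubgroup F₀ P := by
  intro g hg
  rw [subfieldSubgroup, Subgroup.mem_map]
  refine ⟨g, Subgroup.mem_sup_right hg, ?_⟩
  obtain ⟨c, hc⟩ := (mem_scalars_iff g).1 hg
  apply Units.ext
  simp only [MulEquiv.coe_toMonoidHom, MulAut.conj_apply, Units.val_mul]
  rw [hc, Matrix.mul_smul, Matrix.mul_one, Matrix.smul_mul, ← Units.val_mul, mul_inv_cancel,
    Units.val_one]

/-- the scalar matrix `c` -/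
def sc (ι : Type) [Fintype ι] [DecidableEq ι] {F : Type*} [Field F] (c : Fˣ) : GL ι F :=
  Units.map (Matrix.scalar ι : F →+* Matrix ι ι F).toMonoidHom c

theorem sc_coe (c : Fˣ) : ((sc ι c : GL ι F) : Matrix ι ι F) = (c : F) • (1 : Matrix ι ι F) := by
  simp [sc, Matrix.smul_one_eq_diagonal]

theorem sc_mem (c : Fˣ) : (sc ι c : GL ι F) ∈ scalars ι F := ⟨c, rfl⟩

theorem sc_mulVec (c : Fˣ) (v : ι → F) : ((sc ι c : GL ι F) : Matrix ι ι F) *ᵥ v = (c : F) • v := by
  rw [sc_coe, Matrix.smul_mulVec, Matrix.one_mulVec]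

/-- the fixed field of `x ↦ x ^ q` -/
def fixedSub [Fintype F] {q : ℕ} (hF : Fintype.card F = q ^ 2) : Subfield F where
  carrier := {x | x ^ q = x}
  mul_mem' {a b} ha hb := by
    change (a * b) ^ q = a * b
    rw [mul_pow, show a ^ q = a from ha, show b ^ q = b from hb]
  one_mem' := one_pow q
  add_mem' {a b} ha hb := by
    change (a + b) ^ q = a + b
    rw [LieClassical.HermBasic.add_pow_q hF, show a ^ q = a from ha, show b ^ q = b from hb]
  zero_mem' := LieClassical.HermBasic.zero_pow_q hF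
  neg_mem' {a} ha := by
    change (-a) ^ q = -a
    rw [LieClassical.HermBasic.neg_pow_q hF, show a ^ q = a from ha]
  inv_mem' a ha := by
    change a⁻¹ ^ q = a⁻¹
    rw [inv_pow, show a ^ q = a from ha]

theorem mem_fixedSub [Fintype F] {q : ℕ} (hF : Fintype.card F = q ^ 2) (x : F) :
    x ∈ fixedSub hF ↔ x ^ q = x := Iff.rfl

theorem card_fixedSub [Fintype F] {q : ℕ} (hF : Fintype.card F = q ^ 2) :
    Nat.card (fixedSub hF) = q := LieClassical.HermBasic.card_fixed hF

end Cfsg.Agent.H913.SubfieldMem
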