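import Cfsg.Agent.H913.UExt1
import Cfsg.Agent.H879.ExtRank

/-!
# Overgroups of `GU_2(q^r)` in `SU_{2r}(q)`, part 2: the semilinear case (helper913)
-/

set_option autoImplicit false
set_option linter.unusedSectionVars false

namespace Cfsg.Agent.H913.UExt

open Module
open Cfsg.Agent.LieClassical.HermBasic
open Cfsg.Agent.H879 (Has apply_inv_apply inv_apply_apply)

variable {F K V : Type*} [Field F] [Fintype F] [Field K] [Fintype K] [Algebra F K]
  [AddCommGroup V] [Module F V] [Module K V] [IsScalarTower F K V]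

/-- the dichotomy property -/
def ZP (θ : V → V → K) (M : Subgroup (V ≃ₗ[F] V)) : Prop :=
  ∀ g ∈ M, ∀ x a : V, θ x x = 0 → θ a a = 0 → ∀ k : K, k ≠ 0 → θ (g (k • x)) a = 0 →
    ∀ k' : K, θ (g (k' • x)) a = 0

namespace Hyp

variable {θ : V → V → K} {q Q : ℕ} {M : Subgroup (V ≃ₗ[F] V)} (h : Hyp θ q Q M)
include h

theorem sing_of_Z (hr : (finrank F K).Prime) (hZ : ZP θ M) {d : K} (hd : d * d ^ Q = 1)
    (hdF : ∀ c : F, d ^ (q + 1) ≠ algebraMap F K c) {g : V ≃ₗ[F] V} (hg : g ∈ M) {x : V}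
    (hx : θ x x = 0) : θ (g x) (g x) = 0 := by
  by_contra hne
  have hx0 : x ≠ 0 := by
    rintro rfl
    apply hne
    rw [map_zero, h.zero_left]
  set y := g x with hy
  obtain ⟨u, hu0, hu⟩ := h.exists_perp y
  have hun := h.nonsing_of_perp hne hu0 hu
  obtain ⟨ρ, hρ, hρu, hρz⟩ := h.exists_refl hun hd
  set r := ρ ^ (q + 1) with hr'
  have hrM : r ∈ M := h.pw ρ hρ
  have hrL : Lin θ r := hρ.pow _
  set l := d ^ (q + 1) with hl
  have hru : r u = l • u := h.pow_apply_lin hρ hρu _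
  have hry : r y = y := by
    have h1 := h.pow_apply_lin (F := F) (x := y) (k := 1) hρ
      (by rw [hρz y (h.swap_zero hu), one_smul]) (q + 1)
    rwa [one_pow, one_smul] at h1
  have hl1 : l ≠ 1 := by
    intro h1
    exact hdF 1 (by rw [map_one]; exact h1)
  -- stability of `g (K x)` under `r`
  have hstab : ∀ k : K, ∃ κ : K, r (g (k • x)) = g (κ • x) := by
    intro k
    have hg' : g⁻¹ * r * g ∈ M := M.mul_mem (M.mul_mem (M.inv_mem hg) hrM) hg
    have e : ∀ z, (g⁻¹ * r * g) z = g⁻¹ (r (g z)) := fun z => rfl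
    have h1 : θ ((g⁻¹ * r * g) ((1 : K) • x)) x = 0 := by
      rw [one_smul, e, ← hy, hry, hy, inv_apply_apply, hx]
    have h2 := hZ _ hg' x x hx hx 1 one_ne_zero h1 k
    rw [e] at h2
    obtain ⟨κ, hκ⟩ := h.mem_of_perp_sing hx0 hx h2
    refine ⟨κ, ?_⟩
    rw [← hκ, apply_inv_apply]
  let D : Submodule F K :=
    { carrier := {κ | ∃ k : K, κ • u = g (k • x)}
      add_mem' := by
        rintro a b ⟨k, hk⟩ ⟨k', hk'⟩
        exact ⟨k + k', by rw [add_smul, add_smul, map_add, hk, hk']⟩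
      zero_mem' := ⟨0, by rw [zero_smul, zero_smul, map_zero]⟩
      smul_mem' := by
        rintro c a ⟨k, hk⟩
        exact ⟨c • k, by rw [smul_assoc, smul_assoc, map_smul, hk]⟩ }
  have hDl : ∀ κ ∈ D, l * κ ∈ D := by
    rintro κ ⟨k, hk⟩
    obtain ⟨κ', hκ'⟩ := hstab k
    refine ⟨κ', ?_⟩
    rw [← hκ', ← hk, hrL.lin, hru, smul_smul, mul_comm]
  have hDbot : D = ⊥ := by
    by_contra hD
    have htop := Cfsg.Agent.H879.ExtField.mem_of_closed hr D (x := l) (fun c => hdF c) hDl hD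
    apply hun
    apply eq_of_tr (F := F)
    intro κ
    have h1 : κ ∈ D := by rw [htop]; trivial
    have h2 : (1 : K) ∈ D := by rw [htop]; trivial
    obtain ⟨k, hk⟩ := h1
    obtain ⟨k', hk'⟩ := h2
    rw [one_smul] at hk'
    have h3 := h.pres g hg (k • x) (k' • x)
    rw [← hk, ← hk', h.smul_left, h.smul_left, h.smul_right, hx, mul_zero, mul_zero, map_zero] at h3
    rw [h3, mul_zero, map_zero]
  have hmul : ∀ k : K, ∃ a : K, g (k • x) = a • y := by
    intro k
    obtain ⟨a, c, hac⟩ := h.expand hne hu0 hu (g (k • x))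
    obtain ⟨κ, hκ⟩ := hstab k
    have h1 : ((l - 1) * c) • u = g ((κ - k) • x) := by
      rw [sub_smul, map_sub, ← hκ, hac, map_add, hrL.lin, hrL.lin, hry, hru, smul_smul, sub_mul,
        sub_smul, mul_comm c l, one_mul]
      abel
    have h2 : (l - 1) * c ∈ D := ⟨_, h1⟩
    rw [hDbot, Submodule.mem_bot] at h2
    have hc : c = 0 := (mul_eq_zero.1 h2).resolve_left (sub_ne_zero.2 hl1)
    exact ⟨a, by rw [hac, hc, zero_smul, add_zero]⟩
  choose A hA using hmul
  have hinj : Function.Injective A := by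
    intro k k' hkk
    have h1 : g (k • x) = g (k' • x) := by rw [hA, hA, hkk]
    have h2 := g.injective h1
    have h3 : (k - k') • x = 0 := by rw [sub_smul, h2, sub_self]
    exact sub_eq_zero.1 ((smul_eq_zero.1 h3).resolve_right hx0)
  have hsurj : Function.Surjective A := Finite.surjective_of_injective hinj
  apply hne
  apply eq_of_tr (F := F)
  intro κ
  obtain ⟨k, hk⟩ := hsurj κ
  have h3 := h.pres g hg (k • x) x
  rw [hA, hk, ← hy, h.smul_left, h.smul_left, hx, mul_zero, map_zero] at h3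
  rw [h3, mul_zero, map_zero]

theorem mul_of_Z (hZ : ZP θ M) (hS : ∀ g ∈ M, ∀ x, θ x x = 0 → θ (g x) (g x) = 0)
    {g : V ≃ₗ[F] V} (hg : g ∈ M) {x : V} (hx : θ x x = 0) (k : K) : ∃ κ : K, g (k • x) = κ • g x := by
  by_cases hx0 : x = 0
  · exact ⟨0, by rw [hx0, smul_zero, map_zero, smul_zero]⟩
  have hgx0 : g x ≠ 0 := (LinearEquiv.map_ne_zero_iff g).2 hx0
  have h1 := hS g hg x hx
  have h2 := hZ g hg x (g x) hx h1 1 one_ne_zero (by rw [one_smul, h1]) k
  exact h.mem_of_perp_sing hgx0 h1 h2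

theorem eq_of_skew (hZ : ZP θ M) (hS : ∀ g ∈ M, ∀ x, θ x x = 0 → θ (g x) (g x) = 0)
    {g : V ≃ₗ[F] V} (hg : g ∈ M) {x y : V} (hx : θ x x = 0) (hy : θ y y = 0) (hxy0 : θ x y ≠ 0)
    (hxy : θ x y ^ Q = - θ x y) {k a b : K} (ha : g (k • x) = a • g x) (hb : g (k • y) = b • g y) :
    a = b := by
  have hyx : θ y x = - θ x y := by rw [h.herm, hxy]
  have hxyS : θ (x + y) (x + y) = 0 := by
    rw [h.add_left, h.add_right, h.add_right, hx, hy, hyx]; ring
  have hx0 : x ≠ 0 := by rintro rfl; exact hxy0 (h.zero_left _)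
  have hy0 : y ≠ 0 := by rintro rfl; exact hxy0 (h.zero_right _)
  have hgx0 : g x ≠ 0 := (LinearEquiv.map_ne_zero_iff g).2 hx0
  have hgy0 : g y ≠ 0 := (LinearEquiv.map_ne_zero_iff g).2 hy0
  obtain ⟨c, hc⟩ := h.mul_of_Z hZ hS hg hxyS k
  have h1 : (c - a) • g x = (b - c) • g y := by
    rw [smul_add, map_add, ha, hb, map_add, smul_add] at hc
    rw [sub_smul, sub_smul, sub_eq_sub_iff_add_eq_add, add_comm (b • g y), hc]
  have hind : ∀ κ : K, g y ≠ κ • g x := by
    intro κ hκ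
    obtain ⟨κ', hκ'⟩ := h.mul_of_Z hZ hS (M.inv_mem hg) (hS g hg x hx) κ
    rw [← hκ, inv_apply_apply, inv_apply_apply] at hκ'
    apply hxy0
    rw [hκ', h.smul_right, hx, mul_zero]
  have h2 : b - c = 0 := by
    by_contra hne
    apply hind ((b - c)⁻¹ * (c - a))
    rw [mul_smul, h1, smul_smul, inv_mul_cancel₀ hne, one_smul]
  rw [h2, zero_smul] at h1
  have h3 : c - a = 0 := (smul_eq_zero.1 h1).resolve_right hgx0
  rw [sub_eq_zero] at h2 h3
  rw [h2, h3]

/-- a singular partner with skew product -/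
theorem exists_skew_partner {y : V} (hy0 : y ≠ 0) : ∃ x : V, θ x x = 0 ∧ θ x y ≠ 0 ∧
    θ x y ^ Q = - θ x y := by
  obtain ⟨a, ha, hya⟩ := h.exists_sing hy0
  obtain ⟨c, hc0, hc⟩ := exists_trace_zero_ne h.cardK
  have hay := h.swap_ne hya
  have h1 : θ ((c / θ a y) • a) y = c := by rw [h.smul_left, div_mul_cancel₀ _ hay]
  refine ⟨(c / θ a y) • a, ?_, ?_, ?_⟩
  · rw [h.smul_left, h.smul_right, ha, mul_zero, mul_zero]
  · rw [h1]; exact hc0
  · rw [h1]; linear_combination hc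

theorem smul_sing {x : V} (hx : θ x x = 0) (k : K) : θ (k • x) (k • x) = 0 := by
  rw [h.smul_left, h.smul_right, hx, mul_zero, mul_zero]

theorem c_mul (hZ : ZP θ M) (hS : ∀ g ∈ M, ∀ x, θ x x = 0 → θ (g x) (g x) = 0)
    {g : V ≃ₗ[F] V} (hg : g ∈ M) {y : V} (hy : θ y y = 0) (hy0 : y ≠ 0) {c : K → K}
    (hc : ∀ k, g (k • y) = c k • g y) (k k' : K) : c (k * k') = c k * c k' := by
  have hgy0 : g y ≠ 0 := (LinearEquiv.map_ne_zero_iff g).2 hy0
  have hcanc : ∀ a b : K, a • g y = b • g y → a = b := by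
    intro a b hab
    have : (a - b) • g y = 0 := by rw [sub_smul, hab, sub_self]
    exact sub_eq_zero.1 ((smul_eq_zero.1 this).resolve_right hgy0)
  have hadd : ∀ a b, c (a + b) = c a + c b := by
    intro a b
    apply hcanc
    rw [← hc, add_smul, map_add, hc, hc, add_smul]
  have hF : ∀ (f : F) (a : K), c (algebraMap F K f * a) = algebraMap F K f * c a := by
    intro f a
    apply hcanc
    rw [← hc, mul_smul, algebraMap_smul, map_smul, hc, mul_smul, algebraMap_smul]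
  -- multiplicativity for fixed elements
  have hfix : ∀ (k κ : K), κ ^ Q = κ → c (k * κ) = c k * c κ := by
    intro k κ hκ
    by_cases hκ0 : κ = 0
    · have hc0 : c 0 = 0 := by
        apply hcanc
        rw [← hc, zero_smul, zero_smul, map_zero]
      rw [hκ0, mul_zero, hc0, mul_zero]
    obtain ⟨x, hx, hxy0, hxy⟩ := h.exists_skew_partner hy0
    obtain ⟨a, ha⟩ := h.mul_of_Z hZ hS hg hx k
    have h1 := h.eq_of_skew hZ hS hg hx hy hxy0 hxy ha (hc k)
    obtain ⟨b, hb⟩ := h.mul_of_Z hZ hS hg (h.smul_sing hy κ) k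
    have h2 : θ x (κ • y) = κ * θ x y := by rw [h.smul_right, hκ]
    have h3 := h.eq_of_skew hZ hS hg hx (h.smul_sing hy κ) (by rw [h2]; exact mul_ne_zero hκ0 hxy0)
      (by rw [h2, mul_pow, hκ, hxy]; ring) ha hb
    apply hcanc
    rw [← hc, mul_smul, hb, hc, smul_smul, ← h3, h1]
  obtain ⟨η, hη⟩ := exists_not_fixed h.cardF
  -- decomposition of `k'`
  have hηK : (algebraMap F K η) ^ Q - algebraMap F K η ≠ 0 := by
    rw [h.algQ, ← map_sub]
    intro h0
    exact hη (sub_eq_zero.1 ((algebraMap F K).injective (by rw [h0, map_zero])))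
  set E := algebraMap F K η with hE
  set k1 := (k' ^ Q - k') / (E ^ Q - E) with hk1
  have hk1Q : k1 ^ Q = k1 := by
    rw [hk1, div_pow, sub_pow_q h.cardK, sub_pow_q h.cardK, h.QQ, h.QQ, ← neg_sub (k' ^ Q),
      ← neg_sub (E ^ Q), neg_div_neg_eq]
  have hk0Q : (k' - E * k1) ^ Q = k' - E * k1 := by
    rw [sub_pow_q h.cardK, mul_pow, hk1Q]
    have : (E ^ Q - E) * k1 = k' ^ Q - k' := by rw [hk1]; field_simp
    linear_combination -this
  have e1 : k' = (k' - E * k1) + E * k1 := by ring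
  rw [e1, mul_add, hadd, hadd, hfix _ _ hk0Q]
  have e2 : k * (E * k1) = E * (k * k1) := by ring
  rw [e2, hE, hF, hF, hfix _ _ hk1Q]
  ring

/-- `M` consists of semilinear maps. -/
theorem semilinear_of_Z (hr : (finrank F K).Prime) (hZ : ZP θ M) {d : K} (hd : d * d ^ Q = 1)
    (hdF : ∀ c : F, d ^ (q + 1) ≠ algebraMap F K c) {g : V ≃ₗ[F] V} (hg : g ∈ M) (k : K) :
    ∃ k' : K, ∀ x, g (k • x) = k' • g x := by
  have hS : ∀ g ∈ M, ∀ x, θ x x = 0 → θ (g x) (g x) = 0 :=
    fun g hg x hx => h.sing_of_Z hr hZ hd hdF hg hx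
  -- a starting vector
  obtain ⟨v, hv0⟩ := h.exists_nonzero
  obtain ⟨y, hy, hvy⟩ := h.exists_sing hv0
  have hy0 : y ≠ 0 := by rintro rfl; exact hvy (h.zero_right _)
  -- the function of each singular vector
  have hex : ∀ x : V, θ x x = 0 → ∃ c : K → K, ∀ k, g (k • x) = c k • g x := by
    intro x hx
    choose c hc using fun k => h.mul_of_Z hZ hS hg hx k
    exact ⟨c, hc⟩
  have hnp : ∀ x y : V, θ x x = 0 → θ y y = 0 → θ x y ≠ 0 → ∀ c c' : K → K,
      (∀ k, g (k • x) = c k • g x) → (∀ k, g (k • y) = c' k • g y) → ∀ k, c k = c' k := by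
    intro x y hx hy hxy c c' hc hc' k
    obtain ⟨e, he0, he⟩ := exists_trace_zero_ne h.cardK
    have hy0 : y ≠ 0 := by rintro rfl; exact hxy (h.zero_right _)
    set κ := (e / θ x y) ^ Q with hκ
    have h1 : θ x (κ • y) = e := by rw [h.smul_right, hκ, h.QQ, div_mul_cancel₀ _ hxy]
    have h2 : ∀ k, g (k • (κ • y)) = c' k • g (κ • y) := by
      intro k
      rw [smul_smul, hc', hc', h.c_mul hZ hS hg hy hy0 hc', mul_smul]
    exact h.eq_of_skew hZ hS hg hx (h.smul_sing hy κ) (by rw [h1]; exact he0)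
      (by rw [h1]; linear_combination he) (hc k) (h2 k)
  have hall : ∀ x y : V, x ≠ 0 → y ≠ 0 → θ x x = 0 → θ y y = 0 → ∀ c c' : K → K,
      (∀ k, g (k • x) = c k • g x) → (∀ k, g (k • y) = c' k • g y) → ∀ k, c k = c' k := by
    intro x y hx0 hy0 hx hy c c' hc hc' k
    obtain ⟨z, hz, hxz, hyz⟩ := h.exists_common hx0 hx hy0
    obtain ⟨c'', hc''⟩ := hex z hz
    rw [hnp x z hx hz hxz c c'' hc hc'', hnp y z hy hz hyz c' c'' hc' hc'']
  obtain ⟨c, hc⟩ := hex y hy
  have hsing : ∀ x : V, θ x x = 0 → g (k • x) = c k • g x := by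
    intro x hx
    by_cases hx0 : x = 0
    · rw [hx0, smul_zero, map_zero, smul_zero]
    obtain ⟨c', hc'⟩ := hex x hx
    rw [hc', hall y x hy0 hx0 hy hx c c' hc hc']
  refine ⟨c k, fun u => ?_⟩
  by_cases hu0 : u = 0
  · rw [hu0, smul_zero, map_zero, smul_zero]
  obtain ⟨a, ha, hua⟩ := h.exists_sing hu0
  obtain ⟨τ, hτ⟩ := exists_trace_eq h.cardK (c := θ u u) (h.self_fix u)
  have hau := h.swap_ne hua
  set κ := τ / θ a u with hκ
  have h1 : κ * θ a u = τ := div_mul_cancel₀ _ hau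
  have h2 : κ ^ Q * θ u a = τ ^ Q := by rw [h.herm u a, ← mul_pow, h1]
  have h3 : θ (u - κ • a) (u - κ • a) = 0 := by
    rw [h.sub_left, h.sub_right, h.sub_right, h.smul_left, h.smul_left, h.smul_right, h.smul_right, ha]
    linear_combination - h1 - h2 - hτ
  have h4 : u = (u - κ • a) + κ • a := (sub_add_cancel _ _).symm
  rw [h4, smul_add, map_add, hsing _ h3, hsing _ (h.smul_sing ha κ), map_add, smul_add]

end Hyp

end Cfsg.Agent.H913.UExt
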