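import Cfsg.Agent.H913.UExt2

/-!
# Overgroups of `GU_2(q^r)` in `SU_{2r}(q)`, part 3: reduction to rank one, Siegel elements (helper913)
-/

set_option autoImplicit false
set_option linter.unusedSectionVars false

namespace Cfsg.Agent.H913.UExt

open Module
open Cfsg.Agent.LieClassical.HermBasic
open Cfsg.Agent.H879 (Has apply_inv_apply inv_apply_apply)

variable {F K V : Type*} [Field F] [Fintype F] [Field K] [Fintype K] [Algebra F K]
  [AddCommGroup V] [Module F V] [Module K V] [IsScalarTower F K V]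

/-- there is a skew `m` whose form on `C` is degenerate and not zero -/
def Good (F : Type*) {K : Type*} [Field F] [Field K] [Algebra F K] (Q : ℕ) (C : Submodule F K) : Prop :=
  ∃ m : K, m ^ Q = -m ∧ (∃ c ∈ C, c ≠ 0 ∧ ∀ y ∈ C, Algebra.trace F K (m * c * y ^ Q) = 0) ∧
    ∃ c ∈ C, ∃ y ∈ C, Algebra.trace F K (m * c * y ^ Q) ≠ 0

namespace Hyp

variable {θ : V → V → K} {q Q : ℕ} {M : Subgroup (V ≃ₗ[F] V)} (h : Hyp θ q Q M)
include h

theorem Q_eq : Q = q ^ finrank F K := by
  have h1 := Module.card_eq_pow_finrank (K := F) (V := K)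
  rw [h.cardK, h.cardF, ← pow_mul, mul_comm 2, pow_mul] at h1
  exact Nat.pow_left_injective two_ne_zero h1

/-- the submodule of the `y` with `y ^ Q ∈ C` -/
def conjSub (C : Submodule F K) : Submodule F K where
  carrier := {x | x ^ Q ∈ C}
  add_mem' {a b} ha hb := by
    change (a + b) ^ Q ∈ C
    rw [add_pow_q h.cardK]; exact C.add_mem ha hb
  zero_mem' := by
    change (0 : K) ^ Q ∈ C
    rw [zero_pow_q h.cardK]; exact C.zero_mem
  smul_mem' c x hx := by
    change (c • x) ^ Q ∈ C
    rw [Algebra.smul_def, mul_pow, h.algQ, ← Algebra.smul_def]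
    exact C.smul_mem _ hx

theorem finrank_conjSub (C : Submodule F K) : finrank F (h.conjSub C) = finrank F C := by
  classical
  have : Fintype C := Fintype.ofFinite _
  have : Fintype (h.conjSub C) := Fintype.ofFinite _
  have h1 := Module.card_eq_pow_finrank (K := F) (V := C)
  have h2 := Module.card_eq_pow_finrank (K := F) (V := h.conjSub C)
  have h3 : Fintype.card (h.conjSub C) = Fintype.card C := by
    apply Fintype.card_congr
    exact
      { toFun := fun x => ⟨(x : K) ^ Q, x.2⟩
        invFun := fun x => ⟨(x : K) ^ Q, by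
          change ((x : K) ^ Q) ^ Q ∈ C
          rw [h.QQ]; exact x.2⟩
        left_inv := fun x => Subtype.ext (h.QQ _)
        right_inv := fun x => Subtype.ext (h.QQ _) }
  rw [h3, h1] at h2
  exact (Nat.pow_right_injective (by rw [h.cardF]; have := two_le h.cardF; nlinarith) h2).symm

/-- the case of big dimension -/
theorem good_of_big {C : Submodule F K} (h1 : finrank F K < 2 * finrank F C)
    (h2 : finrank F C < finrank F K) : Good F Q C := by
  classical
  have hnd := traceForm_nondegenerate F K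
  set O := (Algebra.traceForm F K).orthogonal (h.conjSub C) with hO
  have hOmem : ∀ z : K, z ∈ O ↔ ∀ y ∈ C, Algebra.trace F K (z * y ^ Q) = 0 := by
    intro z
    rw [hO, LinearMap.BilinForm.mem_orthogonal_iff]
    constructor
    · intro hz y hy
      have := hz (y ^ Q) (by change (y ^ Q) ^ Q ∈ C; rw [h.QQ]; exact hy)
      rw [Algebra.traceForm_apply] at this
      rw [mul_comm]; exact this
    · intro hz y hy
      have := hz (y ^ Q) hy
      rw [h.QQ, mul_comm] at this
      rw [Algebra.traceForm_apply]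
      exact this
  have hfin : finrank F O = finrank F K - finrank F C := by
    rw [hO, LinearMap.BilinForm.finrank_orthogonal hnd, h.finrank_conjSub]
  -- a non-zero element of the orthogonal space
  obtain ⟨z, hz, hz0⟩ : ∃ z ∈ O, z ≠ 0 := by
    have h3 : O ≠ ⊥ := by
      intro h4
      rw [h4, finrank_bot] at hfin
      omega
    obtain ⟨z, hz, hz0⟩ := O.ne_bot_iff.1 h3
    exact ⟨z, hz, hz0⟩
  -- counting
  obtain ⟨κ, hκQ, hκ0, hκC⟩ : ∃ κ : K, κ ^ Q = κ ∧ κ ≠ 0 ∧ κ * z ∈ C := by
    by_contra hcon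
    push Not at hcon
    let φ : {x : K // x ^ Q = x} × C → K := fun p => (p.1 : K) * z - p.2
    have hinj : Function.Injective φ := by
      rintro ⟨⟨a, ha⟩, c⟩ ⟨⟨b, hb⟩, c'⟩ hab
      have hab' : a * z - (c : K) = b * z - c' := hab
      have h3 : (a - b) * z = (c : K) - c' := by linear_combination hab'
      have h4 : a = b := by
        by_contra hne
        refine hcon (a - b) (by rw [sub_pow_q h.cardK, ha, hb]) (sub_ne_zero.2 hne) ?_
        rw [h3]; exact C.sub_mem c.2 c'.2
      subst h4
      have h5 : (c : K) = c' := by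
        rw [sub_self, zero_mul] at h3
        exact sub_eq_zero.1 h3.symm
      exact Prod.ext rfl (Subtype.ext h5)
    have h3 := Nat.card_le_card_of_injective φ hinj
    rw [Nat.card_prod, card_fixed h.cardK, Nat.card_eq_fintype_card (α := K), h.cardK] at h3
    have : Fintype C := Fintype.ofFinite _
    have h4 := Module.card_eq_pow_finrank (K := F) (V := C)
    rw [Nat.card_eq_fintype_card, h4, h.cardF] at h3
    have hQ := q_pos h.cardK
    have h5 : (q ^ 2) ^ finrank F C ≤ Q := by nlinarith
    have hq2 := two_le h.cardF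
    rw [← pow_mul, h.Q_eq] at h5
    have h6 := (Nat.pow_le_pow_iff_right (by omega : 1 < q)).1 h5
    omega
  obtain ⟨e, he0, he⟩ := exists_trace_zero_ne h.cardF
  have heK0 : algebraMap F K e ≠ 0 := fun h0 => he0 ((algebraMap F K).injective (by rw [h0, map_zero]))
  have heQ : (algebraMap F K e) ^ Q = - algebraMap F K e := by
    rw [h.algQ, ← map_neg]
    congr 1
    linear_combination he
  have htr : ∀ x : K, Algebra.trace F K (algebraMap F K e * x) = e * Algebra.trace F K x := by
    intro x
    rw [← Algebra.smul_def, map_smul, smul_eq_mul]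
  refine ⟨algebraMap F K e * κ⁻¹, by rw [mul_pow, inv_pow, hκQ, heQ]; ring,
    ⟨κ * z, hκC, mul_ne_zero hκ0 hz0, fun y hy => ?_⟩, ?_⟩
  · have e1 : algebraMap F K e * κ⁻¹ * (κ * z) * y ^ Q = algebraMap F K e * (z * y ^ Q) := by
      field_simp
    rw [e1, htr, (hOmem z).1 hz y hy, mul_zero]
  · by_contra hcon
    push Not at hcon
    -- `κ⁻¹ C ≤ O`
    let D : Submodule F K := C.map (LinearMap.mulLeft F κ⁻¹)
    have hDO : D ≤ O := by
      rintro _ ⟨c, hc, rfl⟩
      rw [hOmem]
      intro y hy
      have h3 := hcon c hc y hy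
      have e1 : algebraMap F K e * κ⁻¹ * c * y ^ Q = algebraMap F K e * (κ⁻¹ * c * y ^ Q) := by ring
      rw [e1, htr] at h3
      exact (mul_eq_zero.1 h3).resolve_left he0
    have hDfin : finrank F D = finrank F C := by
      refine (C.equivMapOfInjective (LinearMap.mulLeft F κ⁻¹) ?_).finrank_eq.symm
      intro a b hab
      exact mul_left_cancel₀ (inv_ne_zero hκ0) hab
    have h3 := Submodule.finrank_mono hDO
    omega

/-- the map `k ↦ θ (g (k v)) a` -/
def Th (g : V ≃ₗ[F] V) (a v : V) : K →ₗ[F] K where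
  toFun k := θ (g (k • v)) a
  map_add' k k' := by rw [add_smul, map_add, h.add_left]
  map_smul' c k := by
    rw [smul_assoc, map_smul, h.smulF_left, RingHom.id_apply, Algebra.smul_def]

theorem Th_apply (g : V ≃ₗ[F] V) (a v : V) (k : K) : h.Th g a v k = θ (g (k • v)) a := rfl

theorem trQ' {a b : K} (hab : ∀ k : K, Algebra.trace F K (k ^ Q * a) = Algebra.trace F K (k ^ Q * b)) :
    a = b := by
  apply eq_of_tr (F := F)
  intro k
  have := hab (k ^ Q)
  rwa [h.QQ] at this

/-- reduction to rank one -/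
theorem exists_rank_one
    (hstep : ∀ C : Submodule F K, 2 ≤ finrank F C → finrank F C < finrank F K → Good F Q C) :
    ∀ (n : ℕ) (g : V ≃ₗ[F] V) (a v : V), g ∈ M → θ a a = 0 → θ v v = 0 →
      finrank F (LinearMap.range (h.Th g a v)) = n → 1 ≤ n → n < finrank F K →
      ∃ g' ∈ M, ∃ a' v' : V, θ a' a' = 0 ∧ θ v' v' = 0 ∧
        finrank F (LinearMap.range (h.Th g' a' v')) = 1 := by
  intro n
  induction n using Nat.strong_induction_on with
  | _ n ih =>
    intro g a v hg ha hv hn h1 hlt
    by_cases hn1 : n = 1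
    · exact ⟨g, hg, a, v, ha, hv, by rw [hn, hn1]⟩
    obtain ⟨m, hm, ⟨c, hcC, hc0, hc⟩, c', hc'C, y', hy'C, hcy⟩ :=
      hstep (LinearMap.range (h.Th g a v)) (by omega) (by omega)
    obtain ⟨t, ht, -, htx⟩ := h.exists_kt ha hm
    have hmem : g⁻¹ * t * g ∈ M := M.mul_mem (M.mul_mem (M.inv_mem hg) ht) hg
    set g' := g⁻¹ * t * g with hg'
    have happ : ∀ z, g' z = g⁻¹ (t (g z)) := fun z => rfl
    have hΘ' : ∀ k, h.Th g' v v k = θ (g⁻¹ ((m * h.Th g a v k) • a)) v := by
      intro k
      rw [Th_apply, happ, htx, map_add, inv_apply_apply, h.add_left, h.smul_left, hv, mul_zero,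
        zero_add, Th_apply]
    have hadj : ∀ k k' : K, Algebra.trace F K (k' ^ Q * h.Th g' v v k) =
        Algebra.trace F K (m * h.Th g a v k * (h.Th g a v k') ^ Q) := by
      intro k k'
      rw [hΘ', ← h.smul_right]
      have h2 := h.pres g hg (g⁻¹ ((m * h.Th g a v k) • a)) (k' • v)
      rw [apply_inv_apply] at h2
      rw [← h2, h.smul_left]
      have h3 : θ a (g (k' • v)) = (h.Th g a v k') ^ Q := by rw [Th_apply]; exact h.herm _ _
      rw [h3]
    -- the kernel
    have hker : LinearMap.ker (h.Th g a v) < LinearMap.ker (h.Th g' v v) := by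
      obtain ⟨k, hk⟩ := hcC
      refine lt_of_le_of_ne ?_ ?_
      · intro x hx
        rw [LinearMap.mem_ker] at hx ⊢
        apply h.trQ'
        intro k'
        rw [hadj, hx, mul_zero, zero_mul, mul_zero]
      · intro heq
        have h2 : k ∈ LinearMap.ker (h.Th g' v v) := by
          rw [LinearMap.mem_ker]
          apply h.trQ'
          intro k'
          rw [hadj, hk, hc _ ⟨k', rfl⟩, mul_zero, map_zero]
        rw [← heq, LinearMap.mem_ker, hk] at h2
        exact hc0 h2
    have hf1 := LinearMap.finrank_range_add_finrank_ker (h.Th g a v)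
    have hf2 := LinearMap.finrank_range_add_finrank_ker (h.Th g' v v)
    have hf3 := Submodule.finrank_lt_finrank_of_lt hker
    have hpos : 1 ≤ finrank F (LinearMap.range (h.Th g' v v)) := by
      rw [Nat.one_le_iff_ne_zero, Ne, Submodule.finrank_eq_zero, LinearMap.range_eq_bot]
      intro h0
      obtain ⟨k, hk⟩ := hc'C
      obtain ⟨k', hk'⟩ := hy'C
      apply hcy
      rw [← hk, ← hk', ← hadj, h0, LinearMap.zero_apply, mul_zero, map_zero]
    exact ih _ (by omega) g' v v hmem hv hv rfl hpos (by omega)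

/-- normalised form -/
theorem exists_normal
    (hstep : ∀ C : Submodule F K, 2 ≤ finrank F C → finrank F C < finrank F K → Good F Q C)
    (hZ : ¬ ZP θ M) : ∃ g ∈ M, ∃ a v : V, θ a a = 0 ∧ θ v v = 0 ∧
      ∀ k : K, θ (g (k • v)) a = algebraMap F K (Algebra.trace F K k) := by
  rw [ZP] at hZ
  push Not at hZ
  obtain ⟨g, hg, x, a, hx, ha, k, hk0, hk, k', hk'⟩ := hZ
  have hpos : 1 ≤ finrank F (LinearMap.range (h.Th g a x)) := by
    rw [Nat.one_le_iff_ne_zero, Ne, Submodule.finrank_eq_zero, LinearMap.range_eq_bot]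
    intro h0
    exact hk' (LinearMap.congr_fun h0 k')
  have hlt : finrank F (LinearMap.range (h.Th g a x)) < finrank F K := by
    have h1 := LinearMap.finrank_range_add_finrank_ker (h.Th g a x)
    have h2 : finrank F (LinearMap.ker (h.Th g a x)) ≠ 0 := by
      intro h3
      rw [Submodule.finrank_eq_zero] at h3
      have h4 : k ∈ LinearMap.ker (h.Th g a x) := hk
      rw [h3, Submodule.mem_bot] at h4
      exact hk0 h4
    omega
  obtain ⟨g', hg', a', v', ha', hv', h2⟩ := h.exists_rank_one hstep _ g a x hg ha hx rfl hpos hlt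
  rw [finrank_eq_one_iff'] at h2
  obtain ⟨⟨s, hs⟩, hs0, hall⟩ := h2
  have hs0' : s ≠ 0 := fun h0 => hs0 (Subtype.ext h0)
  have hall' : ∀ k, ∃ c : F, h.Th g' a' v' k = c • s := by
    intro k
    obtain ⟨c, hc⟩ := hall ⟨h.Th g' a' v' k, ⟨k, rfl⟩⟩
    exact ⟨c, (congrArg Subtype.val hc).symm⟩
  choose ε hε using hall'
  have hinj : ∀ c c' : F, c • s = c' • s → c = c' := fun c c' hcc =>
    smul_left_injective F hs0' hcc
  let E : K →ₗ[F] F :=
    { toFun := ε
      map_add' := fun k k' => by
        apply hinj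
        rw [← hε, map_add, hε, hε, add_smul]
      map_smul' := fun c k => by
        apply hinj
        rw [← hε, map_smul, hε, RingHom.id_apply, smul_assoc] }
  obtain ⟨s', hs'⟩ := Cfsg.Agent.H879.ExtField.exists_rep (tr_ne (F := F) (K := K)) E
  have hs'0 : s' ≠ 0 := by
    rintro rfl
    obtain ⟨k, hk⟩ := hs
    apply hs0'
    rw [← hk, hε]
    change E k • s = 0
    rw [hs', mul_zero, map_zero, zero_smul]
  refine ⟨g', hg', (s⁻¹) ^ Q • a', s'⁻¹ • v', h.smul_sing ha' _, h.smul_sing hv' _, fun k => ?_⟩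
  rw [h.smul_right, h.QQ, smul_smul, ← h.Th_apply, hε]
  change s⁻¹ * (E (k * s'⁻¹) • s) = _
  rw [hs', mul_assoc, inv_mul_cancel₀ hs'0, mul_one, Algebra.smul_def, mul_comm, mul_assoc,
    mul_inv_cancel₀ hs0', mul_one]

/-- the Siegel element -/
noncomputable def Sg (F : Type*) {K V : Type*} [Field F] [Field K] [Algebra F K] [AddCommGroup V] [Module F V]
    (θ : V → V → K) (b w : V) (μ : F) (x : V) : V :=
  x + (Algebra.trace F K (θ x b)) • w - (Algebra.trace F K (θ x w)) • b
    + (μ * Algebra.trace F K (θ x b)) • b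

end Hyp

end Cfsg.Agent.H913.UExt
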