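import Cfsg.Agent.H913.UExt5

/-!
# Overgroups of `GU_2(q^3)` in `SU_6(q)`, the dichotomy for `r = 3` (helper913)
-/

set_option autoImplicit false
set_option linter.unusedSectionVars false

namespace Cfsg.Agent.H913.UExt

open Module
open Cfsg.Agent.LieClassical.HermBasic
open Cfsg.Agent.H879 (Has apply_inv_apply inv_apply_apply)

variable {F K V : Type*} [Field F] [Fintype F] [Field K] [Fintype K] [Algebra F K]
  [AddCommGroup V] [Module F V] [Module K V] [IsScalarTower F K V]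

/-- the elements of the ground field -/
theorem mem_F_of_pow {τ : K} (h : τ ^ Fintype.card F = τ) : ∃ c : F, algebraMap F K c = τ := by
  classical
  by_contra hcon
  push Not at hcon
  have h1 : 1 < Fintype.card F := Fintype.one_lt_card
  have hP0 := FiniteField.X_pow_card_sub_X_ne_zero K h1
  have hdeg := FiniteField.X_pow_card_sub_X_natDegree_eq K h1
  let S : Finset K := insert τ (Finset.univ.image (algebraMap F K))
  have hS : S.val ≤ (Polynomial.X ^ Fintype.card F - Polynomial.X : Polynomial K).roots := by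
    rw [Multiset.le_iff_subset S.nodup]
    intro x hx
    rw [Polynomial.mem_roots hP0, Polynomial.IsRoot.def, Polynomial.eval_sub, Polynomial.eval_pow,
      Polynomial.eval_X, sub_eq_zero]
    have hx' : x ∈ S := hx
    rw [Finset.mem_insert, Finset.mem_image] at hx'
    rcases hx' with rfl | ⟨c, -, rfl⟩
    · exact h
    · rw [← map_pow, FiniteField.pow_card]
  have h2 := Multiset.card_le_card hS
  have h3 := Polynomial.card_roots' (Polynomial.X ^ Fintype.card F - Polynomial.X : Polynomial K)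
  rw [hdeg] at h3
  have h4 : Multiset.card S.val = Fintype.card F + 1 := by
    change S.card = _
    rw [Finset.card_insert_of_notMem, Finset.card_image_of_injective _ (algebraMap F K).injective,
      Finset.card_univ]
    intro h5
    obtain ⟨c, -, hc⟩ := Finset.mem_image.1 h5
    exact hcon c hc
  omega

/-- a primitive element -/
theorem exists_prim {Q : ℕ} (hK : Fintype.card K = Q ^ 2) : ∃ ζ : K, ζ ≠ 0 ∧
    ∀ n : ℕ, ζ ^ n = 1 → (Q ^ 2 - 1) ∣ n := by
  classical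
  obtain ⟨g, hg⟩ := IsCyclic.exists_generator (α := Kˣ)
  have hord : orderOf g = Q ^ 2 - 1 := by
    rw [orderOf_eq_card_of_forall_mem_zpowers hg, Nat.card_eq_fintype_card, Fintype.card_units, hK]
  refine ⟨g, g.ne_zero, fun n hn => ?_⟩
  rw [← hord, orderOf_dvd_iff_pow_eq_one]
  apply Units.ext
  rw [Units.val_pow_eq_pow_val, hn, Units.val_one]

namespace Hyp

variable {θ : V → V → K} {q Q : ℕ} {M : Subgroup (V ≃ₗ[F] V)} (h : Hyp θ q Q M)
include h

/-- decomposition over the fixed field -/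
theorem decomp {η : F} (hη : η ^ q ≠ η) (k : K) :
    ∃ k0 k1 : K, k0 ^ Q = k0 ∧ k1 ^ Q = k1 ∧ k = k0 + η • k1 := by
  have hηK : (algebraMap F K η) ^ Q - algebraMap F K η ≠ 0 := by
    rw [h.algQ, ← map_sub]
    intro h0
    exact hη (sub_eq_zero.1 ((algebraMap F K).injective (by rw [h0, map_zero])))
  set E := algebraMap F K η with hE
  set k1 := (k ^ Q - k) / (E ^ Q - E) with hk1
  have hk1Q : k1 ^ Q = k1 := by
    rw [hk1, div_pow, sub_pow_q h.cardK, sub_pow_q h.cardK, h.QQ, h.QQ, ← neg_sub (k ^ Q),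
      ← neg_sub (E ^ Q), neg_div_neg_eq]
  have hk0Q : (k - E * k1) ^ Q = k - E * k1 := by
    rw [sub_pow_q h.cardK, mul_pow, hk1Q]
    have : (E ^ Q - E) * k1 = k ^ Q - k := by rw [hk1]; field_simp
    linear_combination -this
  exact ⟨k - E * k1, k1, hk0Q, hk1Q, by rw [Algebra.smul_def]; ring⟩

/-- the trace of a fixed element is fixed -/
theorem tr_fix {k : K} (hk : k ^ Q = k) : (Algebra.trace F K k) ^ q = Algebra.trace F K k := by
  rw [← h.trQ, hk]

/-- two independent elements of trace zero in the fixed field -/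
theorem exists_two (h3 : 3 ≤ finrank F K) : ∃ l0 l1 : K, l0 ^ Q = l0 ∧ l1 ^ Q = l1 ∧
    Algebra.trace F K l0 = 0 ∧ Algebra.trace F K l1 = 0 ∧ l0 ≠ 0 ∧ ∀ c : F, l1 ≠ c • l0 := by
  obtain ⟨η, hη⟩ := exists_not_fixed h.cardF
  have hdec : ∀ k : K, Algebra.trace F K k = 0 → ∃ k0 k1 : K, k0 ^ Q = k0 ∧ k1 ^ Q = k1 ∧
      Algebra.trace F K k0 = 0 ∧ Algebra.trace F K k1 = 0 ∧ k = k0 + η • k1 := by
    intro k hk
    obtain ⟨k0, k1, h0, h1, hk01⟩ := h.decomp hη k
    have t0 := h.tr_fix h0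
    have t1 := h.tr_fix h1
    rw [hk01, map_add, map_smul, smul_eq_mul] at hk
    have hk' : Algebra.trace F K k0 + η ^ q * Algebra.trace F K k1 = 0 := by
      have e0 : (Algebra.trace F K k0 + η * Algebra.trace F K k1) ^ q = 0 := by
        rw [hk, zero_pow_q h.cardF]
      rwa [add_pow_q h.cardF, mul_pow, t0, t1] at e0
    have e1 : (η ^ q - η) * Algebra.trace F K k1 = 0 := by linear_combination hk' - hk
    have e2 : Algebra.trace F K k1 = 0 := (mul_eq_zero.1 e1).resolve_left (sub_ne_zero.2 hη)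
    rw [e2, mul_zero, add_zero] at hk
    exact ⟨k0, k1, h0, h1, hk, e2, hk01⟩
  have hker : 2 ≤ finrank F (LinearMap.ker (Algebra.trace F K)) := by
    have h1 := LinearMap.finrank_range_add_finrank_ker (Algebra.trace F K)
    have h2 : finrank F (LinearMap.range (Algebra.trace F K)) ≤ 1 := by
      have := Submodule.finrank_le (LinearMap.range (Algebra.trace F K))
      rwa [finrank_self] at this
    omega
  obtain ⟨l0, hl0Q, hl0t, hl00⟩ : ∃ l0 : K, l0 ^ Q = l0 ∧ Algebra.trace F K l0 = 0 ∧ l0 ≠ 0 := by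
    by_contra hcon
    push Not at hcon
    have : LinearMap.ker (Algebra.trace F K) = ⊥ := by
      rw [Submodule.eq_bot_iff]
      intro k hk
      obtain ⟨k0, k1, h0, h1, t0, t1, e⟩ := hdec k hk
      rw [e, hcon k0 h0 t0, hcon k1 h1 t1, smul_zero, add_zero]
    rw [this, finrank_bot] at hker
    omega
  by_contra hcon
  push Not at hcon
  have hle : LinearMap.ker (Algebra.trace F K) ≤ Submodule.span F {l0} := by
    intro k hk
    obtain ⟨k0, k1, h0, h1, t0, t1, e⟩ := hdec k hk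
    obtain ⟨c0, hc0⟩ := hcon l0 k0 hl0Q h0 hl0t t0 hl00
    obtain ⟨c1, hc1⟩ := hcon l0 k1 hl0Q h1 hl0t t1 hl00
    rw [e, hc0, hc1]
    exact Submodule.add_mem _ (Submodule.smul_mem _ _ (Submodule.mem_span_singleton_self _))
      (Submodule.smul_mem _ _ (Submodule.smul_mem _ _ (Submodule.mem_span_singleton_self _)))
  have h1 := Submodule.finrank_mono hle
  rw [finrank_span_singleton hl00] at h1
  omega

end Hyp

/-- the data for `r = 3` -/
structure Three (θ : V → V → K) (q Q : ℕ) (M : Subgroup (V ≃ₗ[F] V)) : Prop extends Hyp θ q Q M where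
  three : finrank F K = 3
  q3 : 3 ≤ q

namespace Three

variable {θ : V → V → K} {q Q : ℕ} {M : Subgroup (V ≃ₗ[F] V)} (h : Three θ q Q M)
include h

theorem Q_eq : Q = q ^ 3 := by rw [h.toHyp.Q_eq, h.three]

theorem pow6 (k : K) : k ^ (q ^ 6) = k := by
  have := h.toHyp.QQ k
  rwa [h.Q_eq, ← pow_mul, ← pow_add] at this

theorem tr_eq (k : K) : algebraMap F K (Algebra.trace F K k) = k + k ^ (q ^ 2) + k ^ (q ^ 4) := by
  rw [FiniteField.algebraMap_trace_eq_sum_pow, h.three, Finset.sum_range_succ,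
    Finset.sum_range_succ, Finset.sum_range_succ, Finset.sum_range_zero, Nat.card_eq_fintype_card,
    h.cardF, pow_zero, pow_one, pow_one, zero_add, ← pow_mul]

theorem powQ4 (k : K) : (k ^ Q) ^ (q ^ 4) = k ^ q := by
  rw [h.Q_eq, ← pow_mul, ← pow_add, show 3 + 4 = 6 + 1 from rfl, pow_add, pow_one, pow_mul, h.pow6]

theorem powQ2 (k : K) : ((k ^ Q) ^ (q ^ 2)) ^ q = k := by
  have e : q ^ 3 * q ^ 2 * q = q ^ 6 := by ring
  rw [h.Q_eq, ← pow_mul, ← pow_mul, ← mul_assoc, e, h.pow6]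

/-- `x ↦ x + (z κ ^ (q^2) - z ^ q κ ^ (q^4)) a`, `κ = θ x a`, is in `M` -/
def I (_h : Three θ q Q M) (a : V) (z : K) : Prop :=
  HasL θ M a (fun κ => z * κ ^ (q ^ 2) - z ^ q * κ ^ (q ^ 4))

theorem addq (x y : K) : (x + y) ^ q = x ^ q + y ^ q := by
  obtain ⟨p, k, hp, hchar, hk, hk0⟩ := exists_prime_pow h.cardF
  have := Fact.mk hp
  have : CharP K p := charP_of_injective_algebraMap (algebraMap F K).injective p
  rw [hk]
  exact add_pow_char_pow x y p k

theorem negq (x : K) : (-x) ^ q = - x ^ q := by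
  have h1 := h.addq x (-x)
  rw [add_neg_cancel, zero_pow (q_pos h.cardF).ne'] at h1
  exact (neg_eq_of_add_eq_zero_right h1.symm).symm

theorem I_add {a : V} (ha : θ a a = 0) {z z' : K} (h1 : h.I a z) (h2 : h.I a z') :
    h.I a (z + z') := by
  have h3 := h.toHyp.hasL_add ha h1 h2
  have e : (fun κ : K => z * κ ^ (q ^ 2) - z ^ q * κ ^ (q ^ 4) + (z' * κ ^ (q ^ 2) - z' ^ q * κ ^ (q ^ 4)))
      = fun κ => (z + z') * κ ^ (q ^ 2) - (z + z') ^ q * κ ^ (q ^ 4) := by
    funext κ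
    rw [h.addq]; ring
  rw [e] at h3
  exact h3

theorem I_neg {a : V} (ha : θ a a = 0) {z : K} (h1 : h.I a z) : h.I a (-z) := by
  have h3 := h.toHyp.hasL_neg ha h1
  have e : (fun κ : K => -(z * κ ^ (q ^ 2) - z ^ q * κ ^ (q ^ 4)))
      = fun κ => (-z) * κ ^ (q ^ 2) - (-z) ^ q * κ ^ (q ^ 4) := by
    funext κ
    rw [h.negq]; ring
  rw [e] at h3
  exact h3

theorem I_zero {a : V} : h.I a 0 := by
  have h3 := h.toHyp.hasL_zero (a := a)
  have e : (fun _ : K => (0 : K)) = fun κ => (0 : K) * κ ^ (q ^ 2) - 0 ^ q * κ ^ (q ^ 4) := by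
    funext κ
    rw [zero_pow (q_pos h.cardF).ne']; ring
  rw [e] at h3
  exact h3

theorem I_mul {a : V} (ha : θ a a = 0) (ha0 : a ≠ 0) {z : K} (h1 : h.I a z) {k : K} (hk : k ≠ 0) :
    h.I a (k ^ (q + 1) * ((k ^ (q + 1)) ^ Q) ^ (q ^ 2) * z) := by
  have h3 := h.toHyp.hasL_torus ha ha0 h1 hk
  set l := k ^ (q + 1) with hl
  have e : (fun κ : K => l * (z * (l ^ Q * κ) ^ (q ^ 2) - z ^ q * (l ^ Q * κ) ^ (q ^ 4)))
      = fun κ => (l * (l ^ Q) ^ (q ^ 2) * z) * κ ^ (q ^ 2)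
        - (l * (l ^ Q) ^ (q ^ 2) * z) ^ q * κ ^ (q ^ 4) := by
    funext κ
    rw [mul_pow (l ^ Q), mul_pow (l ^ Q), mul_pow _ z, mul_pow l, h.powQ2, h.powQ4]
    ring
  rw [e] at h3
  exact h3

/-- the multiplier ring -/
def R {a : V} (ha : θ a a = 0) : Subfield K where
  carrier := {e | ∀ z, h.I a z → h.I a (e * z)}
  mul_mem' := fun {e e'} he he' z hz => by rw [mul_assoc]; exact he _ (he' z hz)
  one_mem' := fun z hz => by rw [one_mul]; exact hz
  add_mem' := fun {e e'} he he' z hz => by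
    rw [add_mul]; exact h.I_add ha (he z hz) (he' z hz)
  zero_mem' := fun z _ => by rw [zero_mul]; exact h.I_zero
  neg_mem' := fun {e} he z hz => by rw [neg_mul]; exact h.I_neg ha (he z hz)
  inv_mem' := fun e he => by
    have hpow : ∀ n : ℕ, ∀ z, h.I a z → h.I a (e ^ n * z) := by
      intro n
      induction n with
      | zero => intro z hz; rw [pow_zero, one_mul]; exact hz
      | succ n ih => intro z hz; rw [pow_succ, mul_assoc]; exact ih _ (he z hz)
    by_cases he0 : e = 0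
    · rw [he0, inv_zero]
      intro z _
      rw [zero_mul]; exact h.I_zero
    · have h1 : e⁻¹ = e ^ (Fintype.card K - 2) := by
        have h2 := FiniteField.pow_card_sub_one_eq_one e he0
        have h3 : 1 < Fintype.card K := Fintype.one_lt_card
        have h4 : Fintype.card K - 1 = (Fintype.card K - 2) + 1 := by omega
        rw [h4, pow_succ] at h2
        exact (eq_inv_of_mul_eq_one_left h2).symm
      intro z hz
      rw [h1]
      exact hpow _ z hz

theorem R_top {a : V} (ha : θ a a = 0) (ha0 : a ≠ 0) : h.R ha = ⊤ := by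
  classical
  by_contra hne
  have hN := card_subfield_le h.cardK _ hne
  obtain ⟨ζ, hζ0, hζ⟩ := exists_prim h.cardK
  set l := ζ ^ (q + 1) with hl
  have hρ : l * (l ^ Q) ^ (q ^ 2) ∈ h.R ha := fun z hz => h.I_mul ha ha0 hz hζ0
  set ρ := l * (l ^ Q) ^ (q ^ 2) with hρd
  have hρq : ρ ^ q = ζ ^ ((q + 1) * (q + 1)) := by
    rw [hρd, mul_pow, h.powQ2, hl, ← pow_succ, ← pow_mul]
  have hρ0 : ρ ≠ 0 := by
    rw [hρd, hl]
    exact mul_ne_zero (pow_ne_zero _ hζ0) (pow_ne_zero _ (pow_ne_zero _ (pow_ne_zero _ hζ0)))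
  have : Fintype (h.R ha) := Fintype.ofFinite _
  have h1 : ρ ^ (Nat.card (h.R ha) - 1) = 1 := by
    have h2 := FiniteField.pow_card_sub_one_eq_one (⟨ρ, hρ⟩ : h.R ha)
      (fun h0 => hρ0 (congrArg Subtype.val h0))
    rw [Nat.card_eq_fintype_card]
    exact congrArg Subtype.val h2
  have h2 : ζ ^ ((q + 1) * (q + 1) * (Nat.card (h.R ha) - 1)) = 1 := by
    rw [pow_mul, ← hρq, ← pow_mul, mul_comm, pow_mul, h1, one_pow]
  have h3 := hζ _ h2
  have hN2 : 2 ≤ Nat.card (h.R ha) := by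
    rw [Nat.card_eq_fintype_card]
    exact Fintype.one_lt_card
  have hpos : 0 < (q + 1) * (q + 1) * (Nat.card (h.R ha) - 1) := by
    apply Nat.mul_pos
    · positivity
    · omega
  have h4 := Nat.le_of_dvd hpos h3
  have h5 := h.q3
  have hQ := h.Q_eq
  have h6 : Nat.card (h.R ha) - 1 ≤ Q - 1 := by omega
  have h7 : (q + 1) * (q + 1) < Q + 1 := by rw [hQ]; nlinarith
  have hQ1 : 1 < Q := two_le h.cardK
  have h8 : Q ^ 2 - 1 = (Q + 1) * (Q - 1) := by
    obtain ⟨t, rfl⟩ : ∃ t, Q = t + 1 := ⟨Q - 1, by omega⟩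
    simp only [Nat.add_sub_cancel]
    have : (t + 1) ^ 2 = (t + 1 + 1) * t + 1 := by ring
    omega
  rw [h8] at h4
  have h9 : (q + 1) * (q + 1) * (Nat.card (h.R ha) - 1) ≤ (q + 1) * (q + 1) * (Q - 1) :=
    Nat.mul_le_mul_left _ h6
  have h10 : (q + 1) * (q + 1) * (Q - 1) < (Q + 1) * (Q - 1) :=
    Nat.mul_lt_mul_of_pos_right h7 (by omega)
  omega

theorem I_all {a : V} (ha : θ a a = 0) (ha0 : a ≠ 0) {z0 : K} (hz0 : z0 ≠ 0) (h1 : h.I a z0) (z : K) :
    h.I a z := by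
  have h2 : z / z0 ∈ h.R ha := by rw [h.R_top ha ha0]; trivial
  have h3 := h2 z0 h1
  rwa [div_mul_cancel₀ _ hz0] at h3

theorem hasT_of_I {a : V} (ha : θ a a = 0) (h1 : ∀ z, h.I a z) (k : K) : HasT F θ q M (k • a) := by
  intro e he
  set E := algebraMap F K e with hE
  have hEq : E ^ q = -E := by rw [hE, ← map_pow, he, map_neg]
  have hEQ : E ^ Q = -E := by rw [hE, h.algQ, he, map_neg]
  have hz := h1 (E * (k * (k ^ Q) ^ (q ^ 2)))
  have hT := h.toHyp.hasL_kt ha (l := E * k ^ Q * k) (by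
    rw [mul_pow, mul_pow, hEQ, h.toHyp.QQ]; ring)
  refine (h.toHyp.hasL_add ha hT hz).congr fun x => ?_
  rw [h.toHyp.smul_right, ← algebraMap_smul K (e * _) (k • a), smul_smul, map_mul, h.tr_eq]
  congr 2
  simp only [mul_pow, h.powQ2, h.powQ4, hEq]
  ring

theorem exists_z {g : V ≃ₗ[F] V} (hg : g ∈ M) {a v : V} (ha : θ a a = 0) (hv : θ v v = 0)
    (hth : ∀ k : K, θ (g (k • v)) a = algebraMap F K (Algebra.trace F K k)) :
    ∃ z : K, z ≠ 0 ∧ h.I a z := by
  obtain ⟨l0, l1, hl0, hl1, ht0, ht1, hl00, hind⟩ := h.toHyp.exists_two (by rw [h.three])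
  obtain ⟨m, hm, hmt⟩ := h.toHyp.exists_skew_tr_ne
  obtain ⟨e, he0, he⟩ := exists_trace_zero_ne h.cardF
  set E := algebraMap F K e with hE
  have hE0 : E ≠ 0 := fun h0 => he0 ((algebraMap F K).injective (by rw [← hE, h0, map_zero]))
  have heq : e ^ q = -e := by linear_combination he
  have hEq : E ^ q = -E := by rw [hE, ← map_pow, heq, map_neg]
  have hEQ : E ^ Q = -E := by rw [hE, h.algQ, heq, map_neg]
  have hElQ : ∀ {l : K}, l ^ Q = l → (E * l) ^ Q = -(E * l) := fun {l} hl => by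
    rw [mul_pow, hEQ, hl]; ring
  have htE : ∀ {l : K}, Algebra.trace F K l = 0 → Algebra.trace F K (E * l) = 0 := fun {l} hl => by
    rw [hE, ← Algebra.smul_def, map_smul, hl, smul_zero]
  have hEE := h.toHyp.has_E hg ha hv hth (hElQ hl0) (hElQ hl1) hm (htE ht0) (htE ht1)
  set μ := Algebra.trace F K m with hμ
  set U := algebraMap F K μ with hU
  have hU0 : U ≠ 0 := fun h0 => hmt ((algebraMap F K).injective (by rw [← hU, h0, map_zero]))
  have hμq : μ ^ q = -μ := by rw [hμ, ← h.trQ, hm, map_neg]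
  have hUq : U ^ q = -U := by rw [hU, ← map_pow, hμq, map_neg]
  have hUQ : U ^ Q = -U := by rw [hU, h.algQ, hμq, map_neg]
  set l := E * l0 with hl
  set l' := E * l1 with hl'
  have hlQ := hElQ hl0
  have hlQ' := hElQ hl1
  rw [← hl] at hlQ
  rw [← hl'] at hlQ'
  have hT := h.toHyp.hasL_kt ha (l := 2 * U * l * l') (by
    have h2 : (2 : K) ^ Q = 2 := by
      have : (2 : K) = algebraMap F K 2 := by rw [map_ofNat]
      rw [this, h.algQ]
      congr 1
      rw [← one_add_one_eq_two, add_pow_q h.cardF, one_pow]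
    rw [mul_pow, mul_pow, mul_pow, h2, hUQ, hlQ, hlQ']; ring)
  have hl4 : ∀ {k : K}, k ^ Q = -k → k ^ (q ^ 4) = - k ^ q := by
    intro k hk
    have h5 := h.powQ4 (k ^ Q)
    rw [h.toHyp.QQ, hk, h.negq] at h5
    exact h5
  have hl2 : ∀ {k : K}, k ^ Q = -k → (k ^ (q ^ 2)) ^ q = - k := by
    intro k hk
    rw [← pow_mul, ← pow_succ, ← hk, h.Q_eq]
  refine ⟨-U * (l ^ (q ^ 2) * l' + l' ^ (q ^ 2) * l), ?_, ?_⟩
  · refine mul_ne_zero (neg_ne_zero.2 hU0) fun h0 => ?_
    -- `τ = l1 / l0`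
    set τ := l1 / l0 with hτ
    have hE2 : E ^ (q ^ 2) = E := by
      rw [pow_two, pow_mul, hEq, h.negq, hEq, neg_neg]
    have h1 : l0 ^ (q ^ 2) * l1 + l1 ^ (q ^ 2) * l0 = 0 := by
      have h2 : E * E * (l0 ^ (q ^ 2) * l1 + l1 ^ (q ^ 2) * l0) = 0 := by
        rw [← h0, hl, hl', mul_pow, mul_pow, hE2]; ring
      exact (mul_eq_zero.1 h2).resolve_left (mul_ne_zero hE0 hE0)
    have hl1τ : l1 = τ * l0 := by rw [hτ, div_mul_cancel₀ _ hl00]
    have h2 : τ ^ (q ^ 2) = -τ := by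
      rw [hl1τ, mul_pow] at h1
      have h3 : (l0 ^ (q ^ 2) * l0) * (τ + τ ^ (q ^ 2)) = 0 := by linear_combination h1
      have h4 := (mul_eq_zero.1 h3).resolve_left (mul_ne_zero (pow_ne_zero _ hl00) hl00)
      linear_combination h4
    have hneg2 : ∀ x : K, (-x) ^ (q ^ 2) = - x ^ (q ^ 2) := by
      intro x
      rw [pow_two, pow_mul, h.negq, h.negq, ← pow_mul]
    have h3 : -τ = τ := by
      have h4 : τ ^ (q ^ 6) = τ := h.pow6 τ
      have h5 : τ ^ (q ^ 6) = ((τ ^ (q ^ 2)) ^ (q ^ 2)) ^ (q ^ 2) := by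
        rw [← pow_mul, ← pow_mul, ← pow_add, ← pow_add]
      rw [h5, h2, hneg2, h2, neg_neg, h2] at h4
      exact h4
    rw [h3] at h2
    obtain ⟨c, hc⟩ := mem_F_of_pow (F := F) (τ := τ) (by rw [h.cardF]; exact h2)
    exact hind c (by rw [Algebra.smul_def, hc, ← hl1τ])
  · have h6 := h.toHyp.hasL_add ha (L := fun κ => U * (algebraMap F K (Algebra.trace F K (l ^ Q * κ))) * l'
      + U * (algebraMap F K (Algebra.trace F K (l' ^ Q * κ))) * l) (L' := fun κ => 2 * U * l * l' * κ) ?_ hT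
    · refine h6.congr fun x => ?_
      congr 2
      simp only [h.tr_eq, hlQ, hlQ', mul_pow, h.addq, hl2 hlQ, hl2 hlQ', h.negq, hUq]
      have hneg2 : ∀ x : K, (-x) ^ (q ^ 2) = - x ^ (q ^ 2) := by
        intro x
        rw [pow_two, pow_mul, h.negq, h.negq, ← pow_mul]
      have hneg4 : ∀ x : K, (-x) ^ (q ^ 4) = - x ^ (q ^ 4) := by
        intro x
        rw [show q ^ 4 = q ^ 2 * q ^ 2 by rw [← pow_add], pow_mul, hneg2, hneg2, ← pow_mul]
      simp only [hneg2, hneg4, hl4 hlQ, hl4 hlQ']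
      ring
    · refine hEE.congr fun x => ?_
      rw [h.toHyp.smul_right, h.toHyp.smul_right, add_smul, ← add_assoc]
      congr 1
      · congr 1
        rw [← algebraMap_smul K (μ * _) (l' • a), smul_smul, map_mul]
      · rw [← algebraMap_smul K (μ * _) (l • a), smul_smul, map_mul]

/-- **the dichotomy for `r = 3`** -/
theorem dichotomy : (∀ g ∈ M, ∀ k : K, ∃ k' : K, ∀ x, g (k • x) = k' • g x) ∨
    ∀ y : V, Algebra.trace F K (θ y y) = 0 → HasT F θ q M y := by
  by_cases hZ : ZP θ M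
  · left
    obtain ⟨ζ, hζ0, hζ⟩ := exists_prim h.cardK
    have hQ1 : 1 < Q := two_le h.cardK
    have h8 : Q ^ 2 - 1 = (Q - 1) * (Q + 1) := by
      obtain ⟨t, rfl⟩ : ∃ t, Q = t + 1 := ⟨Q - 1, by omega⟩
      simp only [Nat.add_sub_cancel]
      have : (t + 1) ^ 2 = t * (t + 1 + 1) + 1 := by ring
      omega
    have hζQ : ζ ^ (Q ^ 2 - 1) = 1 := by
      rw [← h.cardK]; exact FiniteField.pow_card_sub_one_eq_one ζ hζ0
    have hd : ζ ^ (Q - 1) * (ζ ^ (Q - 1)) ^ Q = 1 := by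
      rw [← pow_succ', ← pow_mul, ← h8, hζQ]
    intro g hg k
    refine h.toHyp.semilinear_of_Z (by rw [h.three]; norm_num) hZ hd (fun c hc => ?_) hg k
    -- `ζ ^ ((Q - 1) * (q + 1))` is not in `F`
    have hc0 : c ≠ 0 := by
      rintro rfl
      rw [map_zero] at hc
      exact pow_ne_zero _ (pow_ne_zero _ hζ0) hc
    have h1 : c ^ (q ^ 2 - 1) = 1 := by
      rw [← h.cardF]; exact FiniteField.pow_card_sub_one_eq_one c hc0
    have h2 : ζ ^ ((Q - 1) * (q + 1) * (q ^ 2 - 1)) = 1 := by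
      rw [pow_mul, pow_mul, hc, ← map_pow, h1, map_one]
    have h3 := hζ _ h2
    rw [h8, mul_assoc] at h3
    have h4 : (Q + 1) ∣ (q + 1) * (q ^ 2 - 1) := Nat.dvd_of_mul_dvd_mul_left (by omega) h3
    have hq3 := h.q3
    have h5 : (q + 1) * (q ^ 2 - 1) = (Q + 1) + ((q - 2) * (q + 1)) := by
      rw [h.Q_eq]
      obtain ⟨t, rfl⟩ : ∃ t, q = t + 2 := ⟨q - 2, by omega⟩
      simp only [Nat.add_sub_cancel]
      have e1 : (t + 2) ^ 2 - 1 = t ^ 2 + 4 * t + 3 := by
        have : (t + 2) ^ 2 = t ^ 2 + 4 * t + 4 := by ring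
        omega
      rw [e1]; ring
    rw [h5] at h4
    have h6 : (Q + 1) ∣ (q - 2) * (q + 1) := (Nat.dvd_add_right (dvd_refl _)).1 h4
    have h7 := Nat.le_of_dvd (Nat.mul_pos (by omega) (by omega)) h6
    have h9 : (q - 2) * (q + 1) < Q + 1 := by
      rw [h.Q_eq]
      have : (q - 2) * (q + 1) ≤ q * (q + 1) := Nat.mul_le_mul_right _ (by omega)
      nlinarith
    omega
  · right
    obtain ⟨g, hg, a, v, ha, hv, hth⟩ := h.toHyp.exists_normal (fun C h1 h2 =>
      h.toHyp.good_of_big (by rw [h.three]; omega) h2) hZ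
    have ha0 : a ≠ 0 := by
      rintro rfl
      obtain ⟨l, -, hl⟩ := h.toHyp.exists_skew_tr_ne
      apply hl
      apply (algebraMap F K).injective
      rw [← hth, h.toHyp.zero_right, map_zero]
    obtain ⟨z, hz0, hz⟩ := h.exists_z hg ha hv hth
    intro y hy
    exact h.toHyp.hasT_all ha ha0 (h.hasT_of_I ha (h.I_all ha ha0 hz0 hz)) hy

end Three

end Cfsg.Agent.H913.UExt
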