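import Cfsg.Agent.H913.UExt6

/-!
# Overgroups of `GU_2(q^r)` in `SU_{2r}(q)`: the two-dimensional step (helper913)
-/

set_option autoImplicit false
set_option linter.unusedSectionVars false

namespace Cfsg.Agent.H913.UExt

open Module
open Cfsg.Agent.LieClassical.HermBasic
open Cfsg.Agent.H879 (Has apply_inv_apply inv_apply_apply)

variable {F K V : Type*} [Field F] [Fintype F] [Field K] [Fintype K] [Algebra F K]
  [AddCommGroup V] [Module F V] [Module K V] [IsScalarTower F K V]

namespace Hyp

variable {θ : V → V → K} {q Q : ℕ} {M : Subgroup (V ≃ₗ[F] V)} (h : Hyp θ q Q M)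
include h

/-- separation by a fixed element -/
theorem exists_sep_fix {W : Submodule F K} (hW : ∀ w ∈ W, w ^ Q ∈ W) {u : K} (hu : u ∉ W) :
    ∃ κ : K, κ ^ Q = κ ∧ (∀ w ∈ W, Algebra.trace F K (κ * w) = 0) ∧ Algebra.trace F K (κ * u) ≠ 0 := by
  have hnd := traceForm_nondegenerate F K
  have hrefl : (Algebra.traceForm F K).IsRefl := (Algebra.traceForm_isSymm F).isRefl
  have hoo := LinearMap.BilinForm.orthogonal_orthogonal hnd hrefl W
  set O := (Algebra.traceForm F K).orthogonal W with hO
  have hOmem : ∀ z : K, z ∈ O ↔ ∀ w ∈ W, Algebra.trace F K (z * w) = 0 := by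
    intro z
    rw [hO, LinearMap.BilinForm.mem_orthogonal_iff]
    constructor
    · intro hz w hw
      have := hz w hw
      rw [Algebra.traceForm_apply] at this
      rw [mul_comm]; exact this
    · intro hz w hw
      have := hz w hw
      rw [mul_comm] at this
      rw [Algebra.traceForm_apply]
      exact this
  obtain ⟨x, hx, hxu⟩ : ∃ x ∈ O, Algebra.trace F K (x * u) ≠ 0 := by
    by_contra hcon
    push Not at hcon
    apply hu
    rw [← hoo, LinearMap.BilinForm.mem_orthogonal_iff]
    intro x hx
    rw [Algebra.traceForm_apply]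
    exact hcon x hx
  have hOQ : ∀ z ∈ O, z ^ Q ∈ O := by
    intro z hz
    rw [hOmem] at hz ⊢
    intro w hw
    have h1 := hz (w ^ Q) (hW w hw)
    have h2 : z ^ Q * w = (z * w ^ Q) ^ Q := by rw [mul_pow, h.QQ]
    rw [h2, h.trQ, h1, zero_pow_q h.cardF]
  obtain ⟨η, hη⟩ := exists_not_fixed h.cardF
  have hηK : (algebraMap F K η) ^ Q - algebraMap F K η ≠ 0 := by
    rw [h.algQ, ← map_sub]
    intro h0
    exact hη (sub_eq_zero.1 ((algebraMap F K).injective (by rw [h0, map_zero])))
  -- the two components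
  have hη' : η ^ q - η ≠ 0 := sub_ne_zero.2 hη
  have hx1 : ((η ^ q - η)⁻¹ : F) • (x ^ Q - x) ∈ O := O.smul_mem _ (O.sub_mem (hOQ x hx) hx)
  set x1 := ((η ^ q - η)⁻¹ : F) • (x ^ Q - x) with hx1d
  have hx1Q : x1 ^ Q = x1 := by
    have e1 : (η ^ q - η)⁻¹ ^ q = - (η ^ q - η)⁻¹ := by
      rw [inv_pow, sub_pow_q h.cardF, pow_q_pow_q h.cardF, ← inv_neg, neg_sub]
    rw [hx1d, Algebra.smul_def, mul_pow, h.algQ, e1, sub_pow_q h.cardK, h.QQ, map_neg]
    ring
  have hx0 : x - η • x1 ∈ O := O.sub_mem hx (O.smul_mem _ hx1)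
  have hx0Q : (x - η • x1) ^ Q = x - η • x1 := by
    rw [sub_pow_q h.cardK, Algebra.smul_def, mul_pow, h.algQ, hx1Q]
    have e1 : algebraMap F K (η ^ q - η) * x1 = x ^ Q - x := by
      rw [hx1d, ← Algebra.smul_def, smul_smul, mul_inv_cancel₀ hη', one_smul]
    rw [map_sub] at e1
    linear_combination -e1
  by_cases h1 : Algebra.trace F K (x1 * u) = 0
  · refine ⟨x - η • x1, hx0Q, (hOmem _).1 hx0, ?_⟩
    rw [sub_mul, map_sub, smul_mul_assoc, map_smul, h1, smul_zero, sub_zero]
    exact hxu
  · exact ⟨x1, hx1Q, (hOmem _).1 hx1, h1⟩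

/-- the criterion -/
theorem good_of_notMem {C : Submodule F K} {c c1 c2 : K} (hc : c ∈ C) (hc0 : c ≠ 0) (hc1 : c1 ∈ C)
    (hc2 : c2 ∈ C) {W : Submodule F K} (hW : ∀ w ∈ W, w ^ Q ∈ W) (hcW : ∀ y ∈ C, c * y ^ Q ∈ W)
    (hu : c1 * c2 ^ Q ∉ W) : Good F Q C := by
  obtain ⟨κ, hκ, hκW, hκu⟩ := h.exists_sep_fix hW hu
  obtain ⟨e, he0, he⟩ := exists_trace_zero_ne h.cardF
  have heQ : (algebraMap F K e) ^ Q = - algebraMap F K e := by
    rw [h.algQ, ← map_neg]
    congr 1
    linear_combination he
  have htr : ∀ x : K, Algebra.trace F K (algebraMap F K e * x) = e * Algebra.trace F K x := by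
    intro x
    rw [← Algebra.smul_def, map_smul, smul_eq_mul]
  refine ⟨algebraMap F K e * κ, by rw [mul_pow, hκ, heQ]; ring, ⟨c, hc, hc0, fun y hy => ?_⟩,
    c1, hc1, c2, hc2, ?_⟩
  · rw [mul_assoc, mul_assoc, htr, hκW _ (hcW y hy), mul_zero]
  · rw [mul_assoc, mul_assoc, htr]
    exact mul_ne_zero he0 hκu

/-- **dimension two** -/
theorem good_of_two (hr : (finrank F K).Prime) (h3 : 3 ≤ finrank F K) {C : Submodule F K}
    (hC : finrank F C = 2) : Good F Q C := by
  -- a basis of `C`
  obtain ⟨c1, x, hc1, hc10, hx, hCx, hxC⟩ : ∃ c1 x : K, c1 ∈ C ∧ c1 ≠ 0 ∧ (∀ c : F, x ≠ algebraMap F K c) ∧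
      (∀ y ∈ C, ∃ a b : F, y = c1 * (algebraMap F K a + algebraMap F K b * x)) ∧ c1 * x ∈ C := by
    obtain ⟨b, hb⟩ : ∃ b : Fin 2 → C, LinearIndependent F b ∧ ⊤ ≤ Submodule.span F (Set.range b) := by
      let B := finBasisOfFinrankEq F C hC
      exact ⟨B, B.linearIndependent, B.span_eq.ge⟩
    obtain ⟨hli, hsp⟩ := hb
    have h0 : (b 0 : K) ≠ 0 := fun h0 => hli.ne_zero 0 (Subtype.ext h0)
    refine ⟨b 0, (b 1 : K) / b 0, (b 0).2, h0, ?_, ?_, ?_⟩
    · intro c hc
      have h1 : (b 1 : K) = algebraMap F K c * b 0 := by rw [← hc, div_mul_cancel₀ _ h0]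
      rw [linearIndependent_fin2] at hli
      have h2 : c⁻¹ • b 1 = b 0 ∨ c = 0 := by
        by_cases hc0 : c = 0
        · exact Or.inr hc0
        · left
          apply Subtype.ext
          rw [Submodule.coe_smul, h1, Algebra.smul_def, ← mul_assoc, ← map_mul, inv_mul_cancel₀ hc0,
            map_one, one_mul]
      rcases h2 with h2 | h2
      · exact hli.2 _ h2
      · apply hli.1
        apply Subtype.ext
        rw [h1, h2, map_zero, zero_mul]; rfl
    · intro y hy
      have h1 : (⟨y, hy⟩ : C) ∈ Submodule.span F (Set.range b) := hsp trivial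
      rw [Submodule.mem_span_range_iff_exists_fun] at h1
      obtain ⟨a, ha⟩ := h1
      rw [Fin.sum_univ_two] at ha
      have h2 := congrArg Subtype.val ha
      refine ⟨a 0, a 1, ?_⟩
      have h3 : (b 0 : K) * (algebraMap F K (a 0) + algebraMap F K (a 1) * ((b 1 : K) / b 0)) =
          algebraMap F K (a 0) * b 0 + algebraMap F K (a 1) * b 1 := by
        field_simp
      rw [h3, ← Algebra.smul_def, ← Algebra.smul_def]
      exact h2.symm
    · rw [mul_div_cancel₀ _ h0]; exact (b 1).2
  set N := c1 * c1 ^ Q with hN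
  have hN0 : N ≠ 0 := mul_ne_zero hc10 (pow_ne_zero _ hc10)
  have hNQ : N ^ Q = N := by rw [hN, mul_pow, h.QQ, mul_comm]
  -- independence of `1, x`
  have hind2 : ∀ a b : F, algebraMap F K a + algebraMap F K b * x = 0 → a = 0 ∧ b = 0 := by
    intro a b hab
    have hb : b = 0 := by
      by_contra hb
      apply hx (-a / b)
      have hb' : algebraMap F K b ≠ 0 := fun h0 => hb ((algebraMap F K).injective (by rw [h0, map_zero]))
      rw [map_div₀, map_neg, eq_div_iff hb']
      linear_combination hab
    refine ⟨?_, hb⟩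
    rw [hb, map_zero, zero_mul, add_zero] at hab
    exact (algebraMap F K).injective (by rw [hab, map_zero])
  set xb := x ^ Q with hxb
  have hxbQ : xb ^ Q = x := h.QQ x
  by_cases hI : ∃ α β γ : F, x * xb = algebraMap F K α + algebraMap F K β * x + algebraMap F K γ * xb
  · obtain ⟨α, β, γ, hrel⟩ := hI
    -- `1, x, xb` are independent
    have hind3 : ∀ a b d : F, algebraMap F K a + algebraMap F K b * x + algebraMap F K d * xb = 0 →
        a = 0 ∧ b = 0 ∧ d = 0 := by
      intro a b d habd
      have hd : d = 0 := by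
        by_contra hd
        have hd' : algebraMap F K d ≠ 0 := fun h0 => hd ((algebraMap F K).injective (by rw [h0, map_zero]))
        -- `xb = a' + b' x`
        obtain ⟨a', b', hab'⟩ : ∃ a' b' : F, xb = algebraMap F K a' + algebraMap F K b' * x := by
          refine ⟨-a / d, -b / d, ?_⟩
          rw [map_div₀, map_div₀, map_neg, map_neg]
          field_simp
          linear_combination habd
        have hb' : b' ≠ 0 := by
          rintro rfl
          rw [map_zero, zero_mul, add_zero] at hab'
          apply hx (a' ^ q)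
          rw [← h.algQ, ← hab', hxbQ]
        have hb'' : algebraMap F K b' ≠ 0 := fun h0 => hb' ((algebraMap F K).injective (by rw [h0, map_zero]))
        -- `x ^ 2` in the span
        have hsq : x * x = algebraMap F K ((α + γ * a') / b') + algebraMap F K ((β + γ * b' - a') / b') * x := by
          rw [map_div₀, map_div₀, map_add, map_mul, map_sub, map_add, map_mul]
          field_simp
          rw [hab'] at hrel
          linear_combination hrel
        let D : Submodule F K := Submodule.span F {1, x}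
        have hD : ∀ y ∈ D, x * y ∈ D := by
          intro y hy
          obtain ⟨s, t, rfl⟩ := Submodule.mem_span_pair.1 hy
          rw [mul_add, mul_smul_comm, mul_smul_comm, mul_one, hsq]
          refine D.add_mem (D.smul_mem _ (Submodule.subset_span (by simp))) (D.smul_mem _ (D.add_mem ?_ ?_))
          · rw [Algebra.algebraMap_eq_smul_one]
            exact D.smul_mem _ (Submodule.subset_span (by simp))
          · rw [← Algebra.smul_def]
            exact D.smul_mem _ (Submodule.subset_span (by simp))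
        have hDbot : D ≠ ⊥ := by
          intro h0
          have h1 : (1 : K) ∈ D := Submodule.subset_span (by simp)
          rw [h0, Submodule.mem_bot] at h1
          exact one_ne_zero h1
        have htop := Cfsg.Agent.H879.ExtField.mem_of_closed hr D hx hD hDbot
        have hfin : finrank F D ≤ 2 := by
          classical
          have := finrank_span_finset_le_card (R := F) ({1, x} : Finset K)
          have h5 : ({1, x} : Finset K).card ≤ 2 := Finset.card_le_two
          have h6 : (Submodule.span F (({1, x} : Finset K) : Set K)) = D := by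
            rw [Finset.coe_pair]
          rw [Set.finrank, h6] at this
          omega
        rw [htop, finrank_top] at hfin
        omega
      rw [hd, map_zero, zero_mul, add_zero] at habd
      exact ⟨(hind2 a b habd).1, (hind2 a b habd).2, hd⟩
    -- conjugate of the relation
    have hrelQ : x * xb = algebraMap F K (α ^ q) + algebraMap F K (γ ^ q) * x + algebraMap F K (β ^ q) * xb := by
      have h1 : (x * xb) ^ Q = x * xb := by rw [mul_pow, hxbQ, ← hxb, mul_comm]
      rw [← h1, hrel, add_pow_q h.cardK, add_pow_q h.cardK, mul_pow, mul_pow, hxbQ, ← hxb, h.algQ, h.algQ,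
        h.algQ]
      ring
    have hcmp := hind3 (α - α ^ q) (β - γ ^ q) (γ - β ^ q) (by
      rw [map_sub, map_sub, map_sub]
      linear_combination hrelQ - hrel)
    have hβ : β = γ ^ q := sub_eq_zero.1 hcmp.2.1
    have hγ : γ = β ^ q := sub_eq_zero.1 hcmp.2.2
    -- `x' = x - γ`
    set x' := x - algebraMap F K γ with hx'
    have hx'Q : x' ^ Q = xb - algebraMap F K β := by
      rw [hx', sub_pow_q h.cardK, h.algQ, ← hβ]
    have hprod : x' * x' ^ Q = algebraMap F K (α + β * γ) := by
      rw [hx'Q, hx', map_add, map_mul]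
      linear_combination hrel
    have hx'0 : x' ≠ 0 := fun h0 => hx γ (sub_eq_zero.1 h0)
    have hs0 : α + β * γ ≠ 0 := by
      intro h0
      rw [h0, map_zero] at hprod
      exact (mul_ne_zero hx'0 (pow_ne_zero _ hx'0)) hprod
    have hsq : (α + β * γ) ^ q = α + β * γ := by
      apply (algebraMap F K).injective
      rw [← h.algQ, ← hprod, mul_pow, h.QQ, mul_comm]
    obtain ⟨t, ht0, ht⟩ := exists_norm_eq_ne h.cardF hsq hs0
    set T := algebraMap F K t with hT
    have hTT : T * T ^ Q = algebraMap F K (α + β * γ) := by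
      rw [hT, h.algQ, ← map_mul, ht]
    set c' := x' - T with hc'
    have hc'Q : c' ^ Q = x' ^ Q - T ^ Q := by rw [hc', sub_pow_q h.cardK]
    have hc'0 : c' ≠ 0 := by
      intro h0
      apply hx (γ + t)
      rw [map_add]
      rw [hc', hx'] at h0
      linear_combination h0
    have e1 : c' * x' ^ Q = - T * c' ^ Q := by
      rw [hc'Q, hc']; linear_combination hprod - hTT
    have e2 : c' ^ Q * x' = - T ^ Q * c' := by
      rw [hc'Q, hc']; linear_combination hprod - hTT
    -- the space
    let W : Submodule F K := Submodule.span F {N * c', N * c' ^ Q}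
    have hW : ∀ w ∈ W, w ^ Q ∈ W := by
      intro w hw
      obtain ⟨a, b, rfl⟩ := Submodule.mem_span_pair.1 hw
      have h1 : (a • (N * c') + b • (N * c' ^ Q)) ^ Q = (b ^ q) • (N * c') + (a ^ q) • (N * c' ^ Q) := by
        have e3 : (algebraMap F K a * (N * c')) ^ Q = algebraMap F K a ^ Q * (N ^ Q * c' ^ Q) := by
          rw [mul_pow, mul_pow N]
        have e4 : (algebraMap F K b * (N * c' ^ Q)) ^ Q = algebraMap F K b ^ Q * (N ^ Q * (c' ^ Q) ^ Q) := by
          rw [mul_pow, mul_pow N]
        rw [Algebra.smul_def, Algebra.smul_def, Algebra.smul_def, Algebra.smul_def, add_pow_q h.cardK,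
          e3, e4, h.algQ, h.algQ, hNQ, h.QQ]
        ring
      rw [h1]
      exact Submodule.mem_span_pair.2 ⟨_, _, rfl⟩
    refine h.good_of_notMem (C := C) (c := c1 * c') (c1 := c1) (c2 := c1) ?_ (mul_ne_zero hc10 hc'0) hc1 hc1
      (W := W) hW ?_ ?_
    · have h1 : c1 * c' = c1 * x + (-(γ + t)) • c1 := by
        rw [hc', hx', Algebra.smul_def, map_neg, map_add]; ring
      rw [h1]
      exact C.add_mem hxC (C.smul_mem _ hc1)
    · intro y hy
      obtain ⟨a, b, rfl⟩ := hCx y hy
      -- `a + b x = (a + b γ) + b x'`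
      have h1 : c1 * c' * (c1 * (algebraMap F K a + algebraMap F K b * x)) ^ Q =
          ((a + b * γ) ^ q) • (N * c') + (- (b ^ q * t)) • (N * c' ^ Q) := by
        have h2 : algebraMap F K a + algebraMap F K b * x =
            algebraMap F K (a + b * γ) + algebraMap F K b * x' := by
          rw [hx', map_add, map_mul]; ring
        rw [h2, mul_pow, add_pow_q h.cardK, mul_pow, h.algQ, h.algQ, Algebra.smul_def, Algebra.smul_def,
          map_neg, map_mul (algebraMap F K) (b ^ q) t, ← hT]
        linear_combination (c1 * c1 ^ Q * algebraMap F K (b ^ q)) * e1 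
      rw [h1]
      exact Submodule.mem_span_pair.2 ⟨_, _, rfl⟩
    · intro hmem
      obtain ⟨a, b, hab⟩ := Submodule.mem_span_pair.1 hmem
      have h1 : algebraMap F K a * c' + algebraMap F K b * c' ^ Q = 1 := by
        have h2 : N * (algebraMap F K a * c' + algebraMap F K b * c' ^ Q) = N * 1 := by
          rw [Algebra.smul_def, Algebra.smul_def] at hab
          rw [hN]
          rw [hN] at hab
          linear_combination hab
        exact mul_left_cancel₀ hN0 h2
      have h2 : algebraMap F K (-1 - a * (γ + t) - b * (β + t ^ q)) + algebraMap F K a * x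
          + algebraMap F K b * xb = 0 := by
        have h3 : c' ^ Q = xb - algebraMap F K β - algebraMap F K (t ^ q) := by
          rw [hc'Q, hx'Q, hT, h.algQ]
        rw [h3, hc', hx', hT] at h1
        simp only [map_sub, map_neg, map_one, map_mul, map_add]
        linear_combination h1
      obtain ⟨h3, h4, h5⟩ := hind3 _ _ _ h2
      rw [h4, h5, zero_mul, zero_mul, sub_zero, sub_zero] at h3
      exact one_ne_zero (neg_eq_zero.1 h3)
  · push Not at hI
    let W : Submodule F K := Submodule.span F {N, N * x} ⊔ Submodule.span F {N * xb}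
    have hmemW : ∀ w, w ∈ W ↔ ∃ a b d : F, w = a • N + b • (N * x) + d • (N * xb) := by
      intro w
      rw [Submodule.mem_sup]
      constructor
      · rintro ⟨y, hy, z, hz, rfl⟩
        obtain ⟨a, b, rfl⟩ := Submodule.mem_span_pair.1 hy
        obtain ⟨d, rfl⟩ := Submodule.mem_span_singleton.1 hz
        exact ⟨a, b, d, rfl⟩
      · rintro ⟨a, b, d, rfl⟩
        exact ⟨_, Submodule.mem_span_pair.2 ⟨a, b, rfl⟩, _, Submodule.mem_span_singleton.2 ⟨d, rfl⟩, rfl⟩
    refine h.good_of_notMem (C := C) (c := c1) (c1 := c1 * x) (c2 := c1 * x) hc1 hc10 hxC hxC (W := W) ?_ ?_ ?_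
    · intro w hw
      obtain ⟨a, b, d, rfl⟩ := (hmemW w).1 hw
      rw [hmemW]
      refine ⟨a ^ q, d ^ q, b ^ q, ?_⟩
      simp only [Algebra.smul_def]
      have e3 : (algebraMap F K a * N) ^ Q = algebraMap F K a ^ Q * N ^ Q := by
        rw [mul_pow (algebraMap F K a)]
      have e4 : (algebraMap F K b * (N * x)) ^ Q = algebraMap F K b ^ Q * (N ^ Q * x ^ Q) := by
        rw [mul_pow (algebraMap F K b), mul_pow N]
      have e5 : (algebraMap F K d * (N * xb)) ^ Q = algebraMap F K d ^ Q * (N ^ Q * xb ^ Q) := by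
        rw [mul_pow (algebraMap F K d), mul_pow N]
      rw [add_pow_q h.cardK, add_pow_q h.cardK, e3, e4, e5, hNQ, hxbQ,
        ← hxb, h.algQ, h.algQ, h.algQ]
      ring
    · intro y hy
      obtain ⟨a, b, rfl⟩ := hCx y hy
      rw [hmemW]
      refine ⟨a ^ q, 0, b ^ q, ?_⟩
      simp only [Algebra.smul_def]
      rw [mul_pow, add_pow_q h.cardK, mul_pow, h.algQ, h.algQ, ← hxb, map_zero, hN]
      ring
    · intro hmem
      obtain ⟨a, b, d, habd⟩ := (hmemW _).1 hmem
      apply hI a b d
      have h1 : N * (x * xb) = N * (algebraMap F K a + algebraMap F K b * x + algebraMap F K d * xb) := by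
        have h2 : c1 * x * (c1 * x) ^ Q = N * (x * xb) := by rw [mul_pow, ← hxb, hN]; ring
        rw [← h2, habd]
        simp only [Algebra.smul_def]
        ring
      exact mul_left_cancel₀ hN0 h1

end Hyp

end Cfsg.Agent.H913.UExt
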